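import Cfsg.Agent.Lib.ChevStructure.Bracket

/-!
Words in root elements with monomial coefficients, and the commutator formula when all root chains
have length at most 2.
-/

set_option autoImplicit false
set_option linter.unusedSectionVars false

namespace Cfsg.Agent.Lib.ChevStructure

open Cfsg.Lie
open scoped MatrixGroups Matrix

variable {D : ChevalleyDatum}

/-- x_q(c) for a natural number q, the identity when out of range. -/
def xN (D : ChevalleyDatum) (R : Type*) [CommRing R] (q : ℕ) (c : R) : Matrix D.Idx D.Idx R :=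
  if h : q < D.nroots then xI D R ⟨q, h⟩ c else 1

/-- A word with coefficients c t^i u^j. -/
def evalW (D : ChevalleyDatum) {R : Type*} [CommRing R] (t u : R) (L : List (ℕ × ℤ × ℕ × ℕ)) :
    Matrix D.Idx D.Idx R :=
  (L.map fun e => xN D R e.1 ((e.2.1 : R) * t ^ e.2.2.1 * u ^ e.2.2.2)).prod

theorem evalW_cons {R : Type*} [CommRing R] (t u : R) (e : ℕ × ℤ × ℕ × ℕ) (L : List (ℕ × ℤ × ℕ × ℕ)) :
    evalW D t u (e :: L) = xN D R e.1 ((e.2.1 : R) * t ^ e.2.2.1 * u ^ e.2.2.2) * evalW D t u L := by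
  simp [evalW]

theorem evalW_nil {R : Type*} [CommRing R] (t u : R) : evalW D t u [] = (1 : Matrix D.Idx D.Idx R) := rfl

namespace Core

variable (C : Core D)
include C

theorem xN_fin (R : Type*) [CommRing R] (q : Rt D) (c : R) : xN D R q.val c = xI D R q c := by
  simp [xN]

theorem xN_eq_x (F : Type*) [Field F] (q : ℕ) (c : F) : D.x F q c = xN D F q c := by
  unfold xN
  split_ifs with h
  · exact C.xI_eq_x F ⟨q, h⟩ c
  · exact dif_neg h

theorem xN_add (R : Type*) [CommRing R] (q : ℕ) (a b : R) : xN D R q a * xN D R q b = xN D R q (a + b) := by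
  unfold xN
  split_ifs with h
  · exact C.xI_add R _ a b
  · rw [mul_one]

theorem xN_zero (R : Type*) [CommRing R] (q : ℕ) : xN D R q 0 = 1 := by
  unfold xN
  split_ifs with h
  · exact C.xI_zero R _
  · rfl

theorem evalW_map {R S : Type*} [CommRing R] [CommRing S] (f : R →+* S) (t u : R) :
    ∀ L, (evalW D t u L).map f = evalW D (f t) (f u) L
  | [] => by simp [evalW, Matrix.map_one]
  | e :: L => by
    rw [evalW_cons, evalW_cons, Matrix.map_mul, evalW_map f t u L]
    congr 1
    unfold xN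
    split_ifs with h
    · rw [C.xI_map]; simp
    · simp [Matrix.map_one]

/-- An identity between words that holds over ℚ[t, u] holds over every commutative ring. -/
theorem evalW_transfer {L M : List (ℕ × ℤ × ℕ × ℕ)}
    (h : evalW D (MvPolynomial.X 0 : MvPolynomial (Fin 2) ℚ) (MvPolynomial.X 1) L =
      evalW D (MvPolynomial.X 0 : MvPolynomial (Fin 2) ℚ) (MvPolynomial.X 1) M)
    {R : Type*} [CommRing R] (t u : R) : evalW D t u L = evalW D t u M := by
  let g : MvPolynomial (Fin 2) ℤ →+* MvPolynomial (Fin 2) ℚ := MvPolynomial.map (Int.castRingHom ℚ)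
  have hg : Function.Injective g := MvPolynomial.map_injective _ Int.cast_injective
  have hz : evalW D (MvPolynomial.X 0 : MvPolynomial (Fin 2) ℤ) (MvPolynomial.X 1) L =
      evalW D (MvPolynomial.X 0 : MvPolynomial (Fin 2) ℤ) (MvPolynomial.X 1) M := by
    apply Matrix.map_injective hg
    show (evalW D _ _ L).map g = (evalW D _ _ M).map g
    rw [C.evalW_map g, C.evalW_map g]
    simpa [g] using h
  have e := congrArg (fun m => m.map (MvPolynomial.eval₂Hom (Int.castRingHom R) ![t, u])) hz
  simp only [C.evalW_map] at e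
  simpa using e

theorem Ek_pow (R : Type*) [CommRing R] (r : Rt D) :
    ∀ k, Ek D R 1 r ^ k = (k.factorial : R) • Ek D R k r
  | 0 => by simp [C.Ek_zero]
  | k + 1 => by
    rw [_root_.pow_succ, Ek_pow R r k, Matrix.smul_mul, C.Ek_mul, smul_smul]
    congr 1
    rw [Nat.choose_succ_self_right, ← Nat.cast_mul, mul_comm, ← Nat.factorial_succ]

theorem nilp (R : Type*) [CommRing R] (r : Rt D) (t : R) : IsNilpotent (t • Ek D R 1 r) :=
  ⟨4, by rw [smul_pow, C.Ek_pow, C.Ek_big R 4 r le_rfl, smul_zero, smul_zero]⟩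

theorem xI_exp (R : Type*) [CommRing R] [Algebra ℚ R] (r : Rt D) (t : R) :
    xI D R r t = IsNilpotent.exp (t • Ek D R 1 r) := by
  rw [IsNilpotent.exp_eq_sum (k := 4) (by rw [smul_pow, C.Ek_pow, C.Ek_big R 4 r le_rfl, smul_zero, smul_zero])]
  refine Finset.sum_congr rfl fun k _ => ?_
  rw [smul_pow, C.Ek_pow, smul_smul, ← algebraMap_smul R ((k.factorial : ℚ)⁻¹), smul_smul]
  congr 1
  have hk : algebraMap ℚ R ((k.factorial : ℚ)⁻¹) * (k.factorial : R) = 1 := by
    rw [← map_natCast (algebraMap ℚ R), ← map_mul, inv_mul_cancel₀ (by positivity), map_one]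
  linear_combination -(t ^ k) * hk

theorem exp_conj (R : Type*) [CommRing R] [Algebra ℚ R] (g : GL D.Idx R) {A : Matrix D.Idx D.Idx R}
    (hA : IsNilpotent A) :
    (g : Matrix D.Idx D.Idx R) * IsNilpotent.exp A * ((g⁻¹ : GL D.Idx R) : Matrix D.Idx D.Idx R) =
      IsNilpotent.exp ((g : Matrix D.Idx D.Idx R) * A * ((g⁻¹ : GL D.Idx R) : Matrix D.Idx D.Idx R)) := by
  let f : Matrix D.Idx D.Idx R →+* Matrix D.Idx D.Idx R :=
    { toFun := fun M => (g : Matrix D.Idx D.Idx R) * M * ((g⁻¹ : GL D.Idx R) : Matrix D.Idx D.Idx R)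
      map_one' := by simp
      map_mul' := fun M N => by simp [mul_assoc]
      map_zero' := by simp
      map_add' := fun M N => by simp [mul_add, add_mul] }
  exact IsNilpotent.map_exp hA f

/-- x_r(t) x_s(u) x_r(-t) as an exponential. -/
theorem conj_exp (R : Type*) [CommRing R] [Algebra ℚ R] (r s : Rt D) (t u : R) (h : s ≠ r.rev) :
    xI D R r t * xI D R s u * xI D R r (-t) = IsNilpotent.exp (u • C.Y R r s t) := by
  have e := C.exp_conj R (C.X R r t) (C.nilp R s u)
  rw [C.X_inv] at e
  simp only [X_val] at e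
  rw [C.xI_exp R s u, e]
  congr 1
  rw [Matrix.mul_smul, Matrix.smul_mul, C.xI_E R r s t h, mul_assoc, C.xI_add, add_neg_cancel, C.xI_zero,
    mul_one]

theorem Ek_commute (R : Type*) [CommRing R] {a b : Rt D} (h : b ≠ a.rev) (h0 : ∀ u, chM D 1 a b u = 0) :
    Commute (Ek D R 1 a) (Ek D R 1 b) := by
  have e := C.comm a b h
  simp only [h0, zero_smul, Finset.sum_const_zero, sub_eq_zero] at e
  show _ * _ = _ * _
  rw [Ek, Ek, ← Matrix.map_mul, e, Matrix.map_mul]

/-- If `e` is the list of targets of the r-chain through s. -/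
theorem chM_entry (k : ℕ) (r s u : Rt D) :
    chM D (k + 1) r s u =
      match (D.chainEntry r.val s.val)[k]? with
      | some (q, M) => if q = u.val then M else 0
      | none => 0 := by
  have e1 : D.chainRoot r.val s.val (k + 1) = ((D.chainEntry r.val s.val)[k]?).map Prod.fst := rfl
  have e2 : D.chainM r.val s.val (k + 1) = (((D.chainEntry r.val s.val)[k]?).map Prod.snd).getD 0 := rfl
  simp only [chM, e1, e2]
  cases (D.chainEntry r.val s.val)[k]? <;> simp

theorem W_none {k : ℕ} {r s : Rt D} (hk : (D.chainEntry r.val s.val)[k]? = none) : C.W (k + 1) r s = 0 := by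
  simp [W, C.chM_entry, hk]

theorem W_some {k : ℕ} {r s q : Rt D} {M : ℤ} (hk : (D.chainEntry r.val s.val)[k]? = some (q.val, M)) :
    C.W (k + 1) r s = M • E D 1 q := by
  simp only [W, C.chM_entry, hk]
  rw [Finset.sum_eq_single q (fun b _ hb => by
    have : q.val ≠ b.val := fun e => hb (Fin.ext e.symm)
    simp [this]) (by simp)]
  simp

theorem chM_none {r s : Rt D} (h : D.chainEntry r.val s.val = []) (u : Rt D) : chM D 1 r s u = 0 := by
  simp [C.chM_entry 0, h]

theorem mapZ (R : Type*) [CommRing R] (M : ℤ) (A : Matrix D.Idx D.Idx ℤ) :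
    (M • A).map (Int.castRingHom R) = (M : R) • A.map (Int.castRingHom R) := by
  ext a b
  rw [Matrix.map_apply, Matrix.smul_apply, Matrix.smul_apply, Matrix.map_apply]
  simp [smul_eq_mul]

variable (R : Type*) [CommRing R] [Algebra ℚ R] (r s : Rt D) (t u : R)

theorem caseA0 (hne : s ≠ r.rev) (he : D.chainEntry r.val s.val = []) :
    xI D R r t * xI D R s u * xI D R r (-t) = xI D R s u := by
  rw [C.conj_exp R r s t u hne]
  simp only [Y, Finset.sum_range_succ, Finset.sum_range_zero, zero_add, C.W_zero,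
    C.W_none (k := 0) (r := r) (s := s) (by simp [he]), C.W_none (k := 1) (r := r) (s := s) (by simp [he]),
    C.W_none (k := 2) (r := r) (s := s) (by simp [he])]
  rw [C.xI_exp R s u]
  congr 1
  simp [Ek]

theorem caseA1 (hne : s ≠ r.rev) {q : Rt D} {M : ℤ} (he : D.chainEntry r.val s.val = [(q.val, M)])
    (h1 : q ≠ s.rev) (h1' : ∀ x, chM D 1 s q x = 0) :
    xI D R r t * xI D R s u * xI D R r (-t) = xI D R s u * xI D R q ((M : R) * t * u) := by
  rw [C.conj_exp R r s t u hne]
  simp only [Y, Finset.sum_range_succ, Finset.sum_range_zero, zero_add, C.W_zero,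
    C.W_some (k := 0) (r := r) (s := s) (q := q) (M := M) (by simp [he]),
    C.W_none (k := 1) (r := r) (s := s) (by simp [he]), C.W_none (k := 2) (r := r) (s := s) (by simp [he])]
  rw [C.xI_exp R s u, C.xI_exp R q _, ← IsNilpotent.exp_add_of_commute
    (((C.Ek_commute R h1 h1').smul_left u).smul_right _) (C.nilp R s u) (C.nilp R q _)]
  congr 1
  simp only [C.mapZ, Matrix.map_zero, map_zero, smul_zero, add_zero, Ek]
  module

theorem caseA2 (hne : s ≠ r.rev) {q q' : Rt D} {M M' : ℤ}
    (he : D.chainEntry r.val s.val = [(q.val, M), (q'.val, M')])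
    (h1 : q ≠ s.rev) (h1' : ∀ x, chM D 1 s q x = 0) (h2 : q' ≠ s.rev) (h2' : ∀ x, chM D 1 s q' x = 0)
    (h3 : q' ≠ q.rev) (h3' : ∀ x, chM D 1 q q' x = 0) :
    xI D R r t * xI D R s u * xI D R r (-t) =
      xI D R s u * (xI D R q ((M : R) * t * u) * xI D R q' ((M' : R) * t ^ 2 * u)) := by
  rw [C.conj_exp R r s t u hne]
  simp only [Y, Finset.sum_range_succ, Finset.sum_range_zero, zero_add, C.W_zero,
    C.W_some (k := 0) (r := r) (s := s) (q := q) (M := M) (by simp [he]),
    C.W_some (k := 1) (r := r) (s := s) (q := q') (M := M') (by simp [he]),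
    C.W_none (k := 2) (r := r) (s := s) (by simp [he])]
  have c12 := ((C.Ek_commute R h3 h3').smul_left ((M : R) * t * u)).smul_right ((M' : R) * t ^ 2 * u)
  have c0 := (((C.Ek_commute R h1 h1').smul_left u).smul_right ((M : R) * t * u)).add_right
    (((C.Ek_commute R h2 h2').smul_left u).smul_right ((M' : R) * t ^ 2 * u))
  rw [C.xI_exp R s u, C.xI_exp R q _, C.xI_exp R q' _,
    ← IsNilpotent.exp_add_of_commute c12 (C.nilp R q _) (C.nilp R q' _),
    ← IsNilpotent.exp_add_of_commute c0 (C.nilp R s u) (c12.isNilpotent_add (C.nilp R q _) (C.nilp R q' _))]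
  congr 1
  simp only [C.mapZ, Matrix.map_zero, map_zero, smul_zero, add_zero, Ek]
  module

end Core

/-- The facts on chains of length 2 used in the commutator formula. -/
structure Mild (D : ChevalleyDatum) : Prop where
  len : ∀ r s : Rt D, (D.chainEntry r.val s.val).length ≤ 2
  nz : ∀ (r s : Rt D) (e : ℕ × ℤ), (D.chainEntry r.val s.val)[0]? = some e → e.2 ≠ 0
  lt : ∀ (r s : Rt D) (e : ℕ × ℤ), e ∈ D.chainEntry r.val s.val → e.1 < D.nroots
  symm : ∀ r s : Rt D, s ≠ r.rev →
    ((D.chainEntry r.val s.val)[0]?) = ((D.chainEntry s.val r.val)[0]?).map fun e => (e.1, -e.2)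
  pair : ∀ r s q q' : Rt D, ∀ M M' : ℤ, D.chainEntry r.val s.val = [(q.val, M), (q'.val, M')] →
    D.chainEntry s.val q'.val = [] ∧ D.chainEntry q.val q'.val = [] ∧ q' ≠ s.rev ∧ q' ≠ q.rev ∧
      D.chainEntry s.val r.val = [(q.val, -M)] ∧
      ∃ N : ℤ, D.chainEntry r.val q.val = [(q'.val, N)] ∧ D.chainEntry q.val r.val = [(q'.val, -N)] ∧
        M * N = 2 * M'

end Cfsg.Agent.Lib.ChevStructure
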