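import Cfsg.Agent.Lib.ChevStructure.CheckCore
import Cfsg.Agent.Lib.ChevStructure.CommForm

/-! The check for `Mild D`. -/

set_option autoImplicit false

namespace Cfsg.Agent.Lib.ChevStructure

open Cfsg.Lie

namespace Fast

/-- The conditions on a chain of length 2. -/
def mildEntry (D : ChevalleyDatum) (r s : ℕ) : List (ℕ × ℤ) → Bool
  | [] => false
  | [_] => true
  | [(q, M), (q', M')] =>
    decide (D.chainEntry s q' = []) && decide (D.chainEntry q q' = []) &&
    !Nat.beq (q' + s + 1) D.nroots && !Nat.beq (q' + q + 1) D.nroots &&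
    decide (D.chainEntry s r = [(q, -M)]) &&
    match D.chainEntry r q with
    | [(q'', N)] => Nat.beq q'' q' && decide (D.chainEntry q r = [(q', -N)]) && decide (M * N = 2 * M')
    | _ => false
  | _ => false

/-- The check for all rows. -/
def mildRows (D : ChevalleyDatum) : ℕ → List (Array (ℕ × Array (ℕ × ℤ))) → Bool
  | _, [] => true
  | r, a :: L => a.toList.all (fun e => mildEntry D r e.1 e.2.toList) && mildRows D (r + 1) L

theorem mildRows_spec {D : ChevalleyDatum} :
    ∀ (L : List (Array (ℕ × Array (ℕ × ℤ)))) (r0 : ℕ), mildRows D r0 L = true → ∀ i < L.length,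
      (L.getD i #[]).toList.all (fun e => mildEntry D (r0 + i) e.1 e.2.toList) = true
  | [], _, _, i, hi => absurd hi (Nat.not_lt_zero i)
  | a :: L, r0, h, i, hi => by
    simp only [mildRows, Bool.and_eq_true] at h
    cases i with
    | zero => exact h.1
    | succ i =>
      have := mildRows_spec L (r0 + 1) h.2 i (by simpa using hi)
      rw [show r0 + 1 + i = r0 + (i + 1) by omega] at this
      simpa using this

variable {F : Fast} {D : ChevalleyDatum}

theorem Certified.mild (H : Certified F D) (h : mildRows D 0 D.chain.toList = true) : Mild D := by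
  have hlen : D.chain.toList.length = F.n := by
    have := (rowsOK_spec D.chain.toList 0 H.L.rows).1
    omega
  have hent : ∀ r s : Rt D, D.chainEntry r s = [] ∨
      mildEntry D r s (D.chainEntry r s) = true := by
    intro r s
    have hr := H.lt_n r
    have hrow := mildRows_spec D.chain.toList 0 h r.val (by omega)
    rw [Nat.zero_add, show D.chain.toList.getD r.val #[] = D.chain.getD r.val #[] by
      simp [List.getD_eq_getElem?_getD, Array.getD_eq_getD_getElem?], List.all_eq_true] at hrow
    cases hf : (D.chain.getD r.val #[]).toList.find? (fun e => e.1 = s.val) with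
    | none => exact Or.inl (by rw [ChevalleyDatum.chainEntry, hf])
    | some e =>
      have hes : e.1 = s.val := by simpa using List.find?_some hf
      have he : D.chainEntry r s = e.2.toList := by rw [ChevalleyDatum.chainEntry, hf]
      exact Or.inr (by rw [he, ← hes]; exact hrow e (List.mem_of_find?_eq_some hf))
  have hhead : ∀ r s : Rt D, (D.chainEntry r s)[0]? =
      if F.code r s = 0 then none else some (tgt (F.code r s), nn (F.code r s)) := by
    intro r s
    have hs := H.L.node_succ (s := s.val) (H.lt_n r) 0
    simp only [node, List.getElem?_cons_zero] at hs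
    split_ifs with h0
    · simpa using hs.1 h0
    · obtain ⟨M', hM, hv, -⟩ := hs.2 h0
      simp only [List.getElem?_cons_succ] at hM
      simp at hv
      rw [hM, hv]
  refine ⟨fun r s => ?_, fun r s e he => ?_, fun r s e he => ?_, fun r s _ => ?_, fun r s q q' M M' he => ?_⟩
  · rcases hent r s with he | he
    · simp [he]
    · rcases hl : D.chainEntry r s with _ | ⟨a, _ | ⟨b, _ | ⟨c, t⟩⟩⟩ <;>
        simp_all [mildEntry]
  · rw [hhead] at he
    split_ifs at he with h0
    obtain ⟨k1, N1, -, -, hn, -, -, hne, -⟩ := H.L.code_decode (H.lt_n r) h0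
    simp only [Option.some.injEq] at he
    rw [← he, hn]
    exact hne
  · rw [List.mem_iff_getElem?] at he
    obtain ⟨k, hk⟩ := he
    have := H.node_lt r s (k + 1) e.1 e.2 (by simpa [node] using hk)
    exact lt_of_lt_of_eq this.1 H.hn.symm
  · rw [hhead, hhead]
    by_cases h0 : F.code r s = 0
    · have h1 : F.code s r = 0 := by
        by_contra h1; exact (H.code_symm h1).1 h0
      simp [h0, h1]
    · obtain ⟨h1, h2, h3⟩ := H.code_symm h0
      simp [h0, h1, h2, h3]
  · rcases hent r s with h' | h'
    · rw [he] at h'; simp at h'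
    · rw [he] at h'
      simp only [mildEntry, Bool.and_eq_true, decide_eq_true_eq, Bool.not_eq_eq_eq_not, Bool.not_true] at h'
      obtain ⟨⟨⟨⟨⟨p1, p2⟩, p3⟩, p4⟩, p5⟩, p6⟩ := h'
      refine ⟨p1, p2, fun e => ?_, fun e => ?_, p5, ?_⟩
      · refine Nat.ne_of_beq_eq_false p3 ?_
        rw [e, Fin.val_rev]; omega
      · refine Nat.ne_of_beq_eq_false p4 ?_
        rw [e, Fin.val_rev]; omega
      · split at p6
        · rename_i q'' N hl
          simp only [Bool.and_eq_true, decide_eq_true_eq] at p6
          obtain ⟨⟨a, b⟩, c⟩ := p6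
          exact ⟨N, by rw [hl, Nat.eq_of_beq_eq_true a], b, c⟩
        · simp at p6

end Fast

end Cfsg.Agent.Lib.ChevStructure
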