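import Cfsg.Agent.Lib.ChevStructure.CommForm

/-!
Chevalley's commutator formula when all root chains have length at most 2.
-/

set_option autoImplicit false
set_option linter.unusedSectionVars false

namespace Cfsg.Agent.Lib.ChevStructure

open Cfsg.Lie
open scoped MatrixGroups Matrix

variable {D : ChevalleyDatum}

/-- The two sides of the commutator formula as words. -/
def commLHS (r s : ℕ) : List (ℕ × ℤ × ℕ × ℕ) := [(s, 1, 0, 1), (r, 1, 1, 0)]

/-- The right-hand side word. -/
def commRHS (D : ChevalleyDatum) (r s : ℕ) : List (ℕ × ℤ × ℕ × ℕ) :=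
  [(r, 1, 1, 0), (s, 1, 0, 1)] ++
    (D.commTerms r s).map fun c => (c.1, c.2.1 * (-1) ^ c.2.2.1, c.2.2.1, c.2.2.2)

namespace Core

variable (C : Core D)
include C

theorem chM_head_zero {r s q : Rt D} {M : ℤ} (hM : M ≠ 0) (hne : r ≠ s.rev)
    (he : (D.chainEntry s.val r.val)[0]? = some (q.val, M)) (h2 : (D.chainEntry s.val r.val)[1]? = none)
    (u : Rt D) : chM D 1 s q u = 0 := by
  have e := C.chM_succ 1 s r u hne
  rw [C.chM_entry 1, h2, mul_zero, Finset.sum_eq_single q (fun b _ hb => by
    have : q.val ≠ b.val := fun e => hb (Fin.ext e.symm)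
    simp [C.chM_entry 0, he, this]) (by simp), C.chM_entry 0, he] at e
  simp [hM] at e
  exact e

theorem tgt_ne_rev {r s q : Rt D} {M : ℤ} {k : ℕ} (hM : M ≠ 0)
    (he : (D.chainEntry r.val s.val)[k]? = some (q.val, M)) : q ≠ r.rev := by
  have h : chM D (k + 1) r s q ≠ 0 := by simp [C.chM_entry, he, hM]
  exact (C.chM_tgt k r s q h).1

theorem comm_mild (Hm : Mild D) (r s : Rt D) (hne : s ≠ r.rev) {R : Type*} [CommRing R] (t u : R) :
    evalW D t u (commLHS r.val s.val) = evalW D t u (commRHS D r.val s.val) := by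
  refine C.evalW_transfer ?_ t u
  set T : MvPolynomial (Fin 2) ℚ := MvPolynomial.X 0
  set U : MvPolynomial (Fin 2) ℚ := MvPolynomial.X 1
  have hne' : r ≠ s.rev := fun h => hne (by rw [h, Fin.rev_rev])
  have hsy := Hm.symm r s hne
  have l1 := Hm.len r s
  have l2 := Hm.len s r
  match h1 : D.chainEntry r.val s.val, h2 : D.chainEntry s.val r.val with
  | [], [] =>
    have e := C.caseA0 _ r s (-T) U hne h1
    rw [neg_neg] at e
    have : xI D (MvPolynomial (Fin 2) ℚ) s U * xI D _ r T = xI D _ r T * xI D _ s U := by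
      calc _ = xI D _ r T * (xI D _ r (-T) * xI D _ s U * xI D _ r T) := by
            rw [← mul_assoc, ← mul_assoc, C.xI_add, add_neg_cancel, C.xI_zero, one_mul]
        _ = _ := by rw [e]
    simp [commLHS, commRHS, ChevalleyDatum.commTerms, ChevalleyDatum.chainRoot, h1, h2, evalW, xN, this]
  | [], _ :: _ => rw [h1, h2] at hsy; simp at hsy
  | _ :: _, [] => rw [h1, h2] at hsy; simp at hsy
  | (q0, M) :: e1, (q0', M0) :: e2 =>
    rw [h1, h2] at hsy
    simp at hsy
    obtain ⟨rfl, rfl⟩ := hsy
    have hq : q0 < D.nroots := Hm.lt r s (q0, -M0) (by simp [h1])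
    lift q0 to Rt D using hq with q
    have hM : M0 ≠ 0 := Hm.nz s r (q.val, M0) (by simp [h2])
    match he1 : e1, he2 : e2 with
    | [], [] =>
      have e := C.caseA1 _ r s (-T) U hne h1 (C.tgt_ne_rev (s := r) (k := 0) hM (by simp [h2]))
        (C.chM_head_zero hM hne' (by simp [h2]) (by simp [h2]))
      rw [neg_neg] at e
      have hh : xI D (MvPolynomial (Fin 2) ℚ) s U * xI D _ r T =
          xI D _ r T * (xI D _ s U * xI D _ q (((-M0 : ℤ) : MvPolynomial (Fin 2) ℚ) * -T * U)) := by
        rw [← e, ← mul_assoc, ← mul_assoc, C.xI_add, add_neg_cancel, C.xI_zero, one_mul]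
      simp [commLHS, commRHS, ChevalleyDatum.commTerms, ChevalleyDatum.chainRoot, ChevalleyDatum.chainM,
        h1, h2, evalW, xN, hh]
    | (q0', M') :: [], [] =>
      have hq' : q0' < D.nroots := Hm.lt r s (q0', M') (by simp [h1])
      lift q0' to Rt D using hq' with q'
      obtain ⟨p1, p2, p3, p4, -, -⟩ := Hm.pair r s q q' _ _ h1
      have e := C.caseA2 _ r s (-T) U hne h1 (C.tgt_ne_rev (s := r) (k := 0) hM (by simp [h2]))
        (C.chM_head_zero hM hne' (by simp [h2]) (by simp [h2]))
        p3 (C.chM_none p1) p4 (C.chM_none p2)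
      rw [neg_neg] at e
      have hh : xI D (MvPolynomial (Fin 2) ℚ) s U * xI D _ r T =
          xI D _ r T * (xI D _ s U * (xI D _ q (((-M0 : ℤ) : MvPolynomial (Fin 2) ℚ) * -T * U) *
            xI D _ q' ((M' : MvPolynomial (Fin 2) ℚ) * (-T) ^ 2 * U))) := by
        rw [← e, ← mul_assoc, ← mul_assoc, C.xI_add, add_neg_cancel, C.xI_zero, one_mul]
      simp [commLHS, commRHS, ChevalleyDatum.commTerms, ChevalleyDatum.chainRoot, ChevalleyDatum.chainM,
        h1, h2, evalW, xN, hh]
    | [], (q0', M') :: [] =>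
      have hq' : q0' < D.nroots := Hm.lt s r (q0', M') (by simp [h2])
      lift q0' to Rt D using hq' with q'
      obtain ⟨p1, p2, p3, p4, -, N, hsq, hqs, hN⟩ := Hm.pair s r q q' _ _ h2
      have hNne : N ≠ 0 := Hm.nz s q (q'.val, N) (by simp [hsq])
      have hrs0 : -M0 ≠ 0 := by simpa using hM
      have eA := C.caseA2 _ s r U T hne' h2
        (C.tgt_ne_rev (s := s) (k := 0) hrs0 (by simp [h1]))
        (C.chM_head_zero hrs0 hne (by simp [h1]) (by simp [h1]))
        p3 (C.chM_none p1) p4 (C.chM_none p2)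
      have hqne : q ≠ s.rev := C.tgt_ne_rev (s := r) (k := 0) hM (by simp [h2])
      have hq'ne : q' ≠ s.rev := C.tgt_ne_rev (s := q) (k := 0) hNne (by simp [hsq])
      have hsq' : D.chainEntry s.val q'.val = [] := by
        have hsy2 := Hm.symm s q' hq'ne
        have hz : ∀ x, chM D 1 s q' x = 0 := C.chM_head_zero (r := q) (s := s) (q := q') (M := N) hNne hqne
          (by simp [hsq]) (by simp [hsq])
        match hl : D.chainEntry s.val q'.val with
        | [] => rfl
        | (a, b) :: _ =>
          have ha : a < D.nroots := Hm.lt s q' (a, b) (by simp [hl])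
          have := hz ⟨a, ha⟩
          simp [C.chM_entry 0, hl] at this
          exact absurd this (Hm.nz s q' (a, b) (by simp [hl]))
      have eB := fun a => C.caseA1 (MvPolynomial (Fin 2) ℚ) s q (-U) a hqne hsq p4 (C.chM_none p2)
      have e0 := C.caseA0 (MvPolynomial (Fin 2) ℚ) s q'
      have hh : xI D (MvPolynomial (Fin 2) ℚ) s U * xI D _ r T =
          xI D _ r T * (xI D _ s U * (xI D _ q (((-M0 : ℤ) : MvPolynomial (Fin 2) ℚ) * -T * U) *
            xI D _ q' (((M' : ℤ) : MvPolynomial (Fin 2) ℚ) * -T * U ^ 2))) := by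
        have hcast : (M0 : MvPolynomial (Fin 2) ℚ) * (N : MvPolynomial (Fin 2) ℚ) = 2 * (M' : MvPolynomial (Fin 2) ℚ) := by
          exact_mod_cast hN
        set a : MvPolynomial (Fin 2) ℚ := (M0 : MvPolynomial (Fin 2) ℚ) * U * T with ha
        have eB' := eB a
        rw [neg_neg] at eB'
        have eB2 : xI D (MvPolynomial (Fin 2) ℚ) q a * xI D _ s U = xI D _ s U *
            (xI D _ q a * xI D _ q' ((N : MvPolynomial (Fin 2) ℚ) * -U * a)) := by
          rw [← eB', ← mul_assoc, ← mul_assoc, C.xI_add, add_neg_cancel, C.xI_zero, one_mul]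
        have e0' : ∀ b : MvPolynomial (Fin 2) ℚ, xI D _ q' b * xI D _ s U = xI D _ s U * xI D _ q' b := by
          intro b
          have := e0 (-U) b hq'ne hsq'
          rw [neg_neg] at this
          calc _ = xI D _ s U * (xI D _ s (-U) * xI D _ q' b * xI D _ s U) := by
                rw [← mul_assoc, ← mul_assoc, C.xI_add, add_neg_cancel, C.xI_zero, one_mul]
            _ = _ := by rw [this]
        calc xI D _ s U * xI D _ r T
            = xI D _ s U * xI D _ r T * xI D _ s (-U) * xI D _ s U := by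
              rw [mul_assoc, C.xI_add, neg_add_cancel, C.xI_zero, mul_one]
          _ = xI D _ r T * (xI D _ q a * xI D _ q' ((M' : MvPolynomial (Fin 2) ℚ) * U ^ 2 * T)) * xI D _ s U := by
              rw [eA]
          _ = xI D _ r T * (xI D _ q a * xI D _ s U * xI D _ q' ((M' : MvPolynomial (Fin 2) ℚ) * U ^ 2 * T)) := by
              rw [mul_assoc, mul_assoc, e0', ← mul_assoc (xI D _ q a)]
          _ = _ := by
              rw [eB2, mul_assoc (xI D _ s U), mul_assoc (xI D _ q a), C.xI_add]
              congr 4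
              · rw [ha]; push_cast; ring
              · rw [ha]; linear_combination (-(U ^ 2 * T)) * hcast
      simp [commLHS, commRHS, ChevalleyDatum.commTerms, ChevalleyDatum.chainRoot, ChevalleyDatum.chainM,
        h1, h2, evalW, xN, hh]
    | (q0', M') :: [], _ :: [] =>
      have hq' : q0' < D.nroots := Hm.lt r s (q0', M') (by simp [h1])
      lift q0' to Rt D using hq' with q'
      obtain ⟨-, -, -, -, p5, -⟩ := Hm.pair r s q q' _ _ h1
      rw [h2] at p5
      simp at p5
    | _ :: _ :: _, _ => rw [h1] at l1; simp at l1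
    | _, _ :: _ :: _ => rw [h2] at l2; simp at l2

end Core

end Cfsg.Agent.Lib.ChevStructure
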