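import Cfsg.Agent.Lib.ChevStructure.CheckCore
import Cfsg.Agent.Lib.ChevStructure.CommMild

/-!
Checking identities between words in root elements by polynomial arithmetic (used for type G₂).
-/

set_option autoImplicit false

namespace Cfsg.Agent.Lib.ChevStructure

open Cfsg.Lie
open scoped Matrix

namespace Fast

/-- insert a term, merging equal monomials -/
def addT (e : ℕ × ℕ × ℕ × ℤ) : List (ℕ × ℕ × ℕ × ℤ) → List (ℕ × ℕ × ℕ × ℤ)
  | [] => [e]
  | f :: L => cond (Nat.beq e.1 f.1 && (Nat.beq e.2.1 f.2.1 && Nat.beq e.2.2.1 f.2.2.1))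
      ((f.1, f.2.1, f.2.2.1, f.2.2.2 + e.2.2.2) :: L) (f :: addT e L)

/-- merge all equal monomials -/
def normP : List (ℕ × ℕ × ℕ × ℤ) → List (ℕ × ℕ × ℕ × ℤ)
  | [] => []
  | e :: L => addT e (normP L)

variable (F : Fast)

/-- ad e_r on a polynomial vector -/
def appEP (r : ℕ) : List (ℕ × ℕ × ℕ × ℤ) → List (ℕ × ℕ × ℕ × ℤ)
  | [] => []
  | e :: L => (F.appE1 r (e.1, e.2.2.2)).map (fun f => (f.1, e.2.1, e.2.2.1, f.2)) ++ appEP r L

/-- multiply by k t^i u^j -/
def mulT (k : ℤ) (i j : ℕ) (L : List (ℕ × ℕ × ℕ × ℤ)) : List (ℕ × ℕ × ℕ × ℤ) :=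
  L.map fun e => (e.1, e.2.1 + i, e.2.2.1 + j, k * e.2.2.2)

/-- six times x_r(c t^i u^j) -/
def appXP (r : ℕ) (c : ℤ) (i j : ℕ) (L : List (ℕ × ℕ × ℕ × ℤ)) : List (ℕ × ℕ × ℕ × ℤ) :=
  normP (mulT 6 0 0 L ++ mulT (6 * c) i j (F.appEP r L) ++
    mulT (3 * c ^ 2) (2 * i) (2 * j) (F.appEP r (F.appEP r L)) ++
    mulT (c ^ 3) (3 * i) (3 * j) (F.appEP r (F.appEP r (F.appEP r L))))

/-- apply a word -/
def appWord (c : ℕ) : List (ℕ × ℤ × ℕ × ℕ) → List (ℕ × ℕ × ℕ × ℤ)
  | [] => [(c, 0, 0, 1)]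
  | e :: L => F.appXP e.1 e.2.1 e.2.2.1 e.2.2.2 (appWord c L)

/-- equality of two words on one column -/
def wordCol (A B : List (ℕ × ℤ × ℕ × ℕ)) (c : ℕ) : Bool :=
  (normP (mulT (6 ^ B.length) 0 0 (F.appWord c A) ++ mulT (-(6 ^ A.length)) 0 0 (F.appWord c B))).all
    fun e => decide (e.2.2.2 = 0)

/-- equality of two words -/
def wordOK (A B : List (ℕ × ℤ × ℕ × ℕ)) : Bool :=
  (A ++ B).all (fun e => Nat.blt e.1 F.n) && allLt (F.l + F.n) (F.wordCol A B)

/-- the commutator formula for all pairs -/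
def commAllOK (D : ChevalleyDatum) : Bool :=
  allLt F.n fun r => allLt F.n fun s =>
    Nat.beq s r || Nat.beq s (F.rv r) || F.wordOK (commLHS r s) (commRHS D r s)

variable {F} {D : ChevalleyDatum}
variable {R : Type*} [CommRing R] (t u : R)

/-- The vector of a list of terms. -/
def semP (D : ChevalleyDatum) {R : Type*} [CommRing R] (t u : R) :
    List (ℕ × ℕ × ℕ × ℤ) → D.Idx → R
  | [], _ => 0
  | e :: L, a => (if e.1 = cod a then (e.2.2.2 : R) * t ^ e.2.1 * u ^ e.2.2.1 else 0) + semP D t u L a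

theorem semP_append : ∀ L M, semP D t u (L ++ M) = semP D t u L + semP D t u M
  | [], M => by funext a; simp [semP]
  | e :: L, M => by
    funext a
    simp only [List.cons_append, semP, semP_append L M, Pi.add_apply]
    ring

theorem semP_mulT (k : ℤ) (i j : ℕ) :
    ∀ L, semP D t u (mulT k i j L) = ((k : R) * t ^ i * u ^ j) • semP D t u L
  | [] => by funext a; simp [mulT, semP]
  | e :: L => by
    funext a
    have ih := semP_mulT k i j L
    simp only [mulT, List.map_cons, semP, Pi.smul_apply, smul_eq_mul] at ih ⊢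
    rw [ih]
    split_ifs <;> simp [pow_add] <;> ring

theorem semP_addT (e : ℕ × ℕ × ℕ × ℤ) : ∀ L, semP D t u (addT e L) = semP D t u (e :: L)
  | [] => rfl
  | f :: L => by
    funext a
    rw [addT]
    cases hb : Nat.beq e.1 f.1 && (Nat.beq e.2.1 f.2.1 && Nat.beq e.2.2.1 f.2.2.1)
    · simp only [cond_false, semP, semP_addT e L]
      ring
    · simp only [Bool.and_eq_true] at hb
      simp only [cond_true, semP, Nat.eq_of_beq_eq_true hb.1, Nat.eq_of_beq_eq_true hb.2.1,
        Nat.eq_of_beq_eq_true hb.2.2]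
      split_ifs <;> simp <;> ring

theorem semP_normP : ∀ L, semP D t u (normP L) = semP D t u L
  | [] => rfl
  | e :: L => by
    funext a
    rw [normP, semP_addT]
    simp only [semP, semP_normP L]

theorem semP_zero : ∀ L : List (ℕ × ℕ × ℕ × ℤ), (∀ e ∈ L, e.2.2.2 = 0) → semP D t u L = 0
  | [], _ => rfl
  | e :: L, h => by
    funext a
    simp [semP, h e (List.mem_cons_self ..), semP_zero L fun x hx => h x (List.mem_cons_of_mem _ hx)]

theorem semP_map (t u : R) (i j : ℕ) : ∀ (M : List (ℕ × ℤ)) (a : D.Idx),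
    semP D t u (M.map fun f => (f.1, i, j, f.2)) a = (sumKey (cod a) M : R) * t ^ i * u ^ j
  | [], a => by simp [semP, sumKey]
  | f :: M, a => by
    simp only [List.map_cons, semP, semP_map t u i j M a, sumKey_cons]
    split_ifs <;> push_cast <;> ring

theorem semP_appEP (L : Linked F D) (r : Rt D) :
    ∀ M, semP D t u (F.appEP r M) = Ek D R 1 r *ᵥ semP D t u M
  | [] => by funext a; simp [appEP, semP, Matrix.mulVec, dotProduct]
  | (c, i, j, x) :: M => by
    rw [appEP, semP_append, semP_appEP L r M]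
    funext a
    simp only [Pi.add_apply, Matrix.mulVec, dotProduct, semP, semP_map, appE1_spec L, Ek, Matrix.map_apply]
    push_cast
    rw [Finset.mul_sum, Finset.sum_mul, Finset.sum_mul, ← Finset.sum_add_distrib]
    refine Finset.sum_congr rfl fun b _ => ?_
    simp only [eq_intCast]
    split_ifs <;> ring

theorem semP_appXP (L : Linked F D) (C : Core D) (r : Rt D) (c : ℤ) (i j : ℕ) (M : List (ℕ × ℕ × ℕ × ℤ)) :
    semP D t u (F.appXP r c i j M) = ((6 : R) • xI D R r ((c : R) * t ^ i * u ^ j)) *ᵥ semP D t u M := by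
  have h2 : Ek D R 1 r * Ek D R 1 r = (2 : R) • Ek D R 2 r := by
    rw [C.Ek_mul]; norm_num
  have h3 : Ek D R 1 r * Ek D R 2 r = (3 : R) • Ek D R 3 r := by
    rw [C.Ek_mul]; norm_num
  have a2 : Ek D R 1 r *ᵥ (Ek D R 1 r *ᵥ semP D t u M) = (2 : R) • (Ek D R 2 r *ᵥ semP D t u M) := by
    rw [Matrix.mulVec_mulVec, h2, Matrix.smul_mulVec]
  have a3 : Ek D R 1 r *ᵥ (Ek D R 1 r *ᵥ (Ek D R 1 r *ᵥ semP D t u M)) = (6 : R) • (Ek D R 3 r *ᵥ semP D t u M) := by
    rw [a2, Matrix.mulVec_smul, Matrix.mulVec_mulVec, h3, Matrix.smul_mulVec, smul_smul]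
    norm_num
  simp only [appXP, semP_normP, semP_append, semP_mulT, semP_appEP t u L, a3]
  simp only [a2, xI, Finset.sum_range_succ, Finset.sum_range_zero, zero_add, smul_add, Matrix.add_mulVec,
    Matrix.smul_mulVec, C.Ek_zero, Matrix.one_mulVec]
  push_cast
  simp only [pow_mul']
  module

theorem semP_appWord (L : Linked F D) (C : Core D) (c : ℕ) :
    ∀ A : List (ℕ × ℤ × ℕ × ℕ), (∀ e ∈ A, e.1 < D.nroots) →
      semP D t u (F.appWord c A) = ((6 : R) ^ A.length • evalW D t u A) *ᵥ semP D t u [(c, 0, 0, 1)]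
  | [], _ => by simp [appWord, evalW]
  | e :: A, h => by
    have he : e.1 < D.nroots := h e (List.mem_cons_self ..)
    have hx := semP_appXP t u L C ⟨e.1, he⟩ e.2.1 e.2.2.1 e.2.2.2 (F.appWord c A)
    rw [appWord, hx, semP_appWord L C c A fun x hx => h x (List.mem_cons_of_mem _ hx), Matrix.mulVec_mulVec]
    congr 1
    simp only [evalW_cons, xN, dif_pos he, List.length_cons, Matrix.smul_mul, Matrix.mul_smul, smul_smul,
      pow_succ]

theorem wordOK_sound (H : Certified F D) {A B : List (ℕ × ℤ × ℕ × ℕ)} (h : F.wordOK A B = true) :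
    evalW D t u A = evalW D t u B := by
  refine H.core.evalW_transfer ?_ t u
  set T : MvPolynomial (Fin 2) ℚ := MvPolynomial.X 0
  set U : MvPolynomial (Fin 2) ℚ := MvPolynomial.X 1
  simp only [wordOK, Bool.and_eq_true, List.all_eq_true, allLt_iff, List.mem_append] at h
  have hin : ∀ e, e ∈ A ∨ e ∈ B → e.1 < D.nroots := fun e he =>
    lt_of_lt_of_eq (Nat.le_of_ble_eq_true (h.1 e he)) H.hn.symm
  refine Matrix.ext fun a b => ?_
  have hc : cod b < F.l + F.n := by
    have := H.hl; have := H.hn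
    rcases b with b | b <;> simp only [cod] <;> have := b.isLt <;> omega
  have hcol := h.2 (cod b) hc
  simp only [wordCol, List.all_eq_true, decide_eq_true_eq] at hcol
  have hz := semP_zero (D := D) T U _ hcol
  rw [semP_normP, semP_append, semP_mulT, semP_mulT, semP_appWord T U H.L H.core _ A fun e he => hin e (Or.inl he),
    semP_appWord T U H.L H.core _ B fun e he => hin e (Or.inr he)] at hz
  have hb : semP D T U [(cod b, 0, 0, 1)] = Pi.single b 1 := by
    funext x
    simp only [semP, Pi.single_apply]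
    by_cases hx : x = b
    · simp [hx]
    · rw [if_neg hx, if_neg fun e => hx (cod_inj e).symm, add_zero]
  rw [hb] at hz
  have := congrFun hz a
  simp [Matrix.smul_mulVec, smul_smul] at this
  have h6 : ((6 : MvPolynomial (Fin 2) ℚ) ^ (A.length + B.length)) ≠ 0 := pow_ne_zero _ (by norm_num)
  refine mul_left_cancel₀ (M₀ := MvPolynomial (Fin 2) ℚ) h6 (sub_eq_zero.mp ?_)
  rw [← this, pow_add]
  ring

theorem commAll_sound (H : Certified F D) (h : F.commAllOK D = true) (r s : Rt D) (hrs : s ≠ r)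
    (hne : s ≠ r.rev) : evalW D t u (commLHS r.val s.val) = evalW D t u (commRHS D r.val s.val) := by
  simp only [commAllOK, allLt_iff, Bool.or_eq_true] at h
  rcases h r.val (H.lt_n r) s.val (H.lt_n s) with (h1 | h1) | h1
  · exact absurd (Fin.ext (Nat.eq_of_beq_eq_true h1)) hrs
  · exact absurd (Fin.ext ((Nat.eq_of_beq_eq_true h1).trans (H.rev_val r).symm)) hne
  · exact wordOK_sound t u H h1

end Fast

end Cfsg.Agent.Lib.ChevStructure
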