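import Cfsg.Agent.Lib.ChevStructure.Basic

/-!
The matrices and subgroups of `Def_ChevStructure` in terms of the elements of `Core D` over a field.
-/

set_option autoImplicit false
set_option linter.unusedSectionVars false

namespace Cfsg.Agent.Lib.ChevStructure

open Cfsg.Lie
open scoped MatrixGroups Matrix

variable {D : ChevalleyDatum}

namespace Core

variable (C : Core D) {F : Type*} [Field F]

include C

theorem X_val_x (r : Rt D) (t : F) :
    ((C.X F r t : GL D.Idx F) : Matrix D.Idx D.Idx F) = D.x F r.val t := (C.xI_eq_x F r t).symm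

theorem neg_val (r : Rt D) : D.neg r.val = r.rev.val := C.neg_eq r

theorem eq_X {g : GL D.Idx F} {r : Rt D} {t : F} (h : (g : Matrix D.Idx D.Idx F) = D.x F r.val t) :
    g = C.X F r t := Units.ext (h.trans (C.X_val_x r t).symm)

theorem nMat_eq (r : Rt D) (u : Fˣ) :
    D.nMat F r.val (u : F) = ((C.nR F r u : GL D.Idx F) : Matrix D.Idx D.Idx F) := by
  simp only [ChevalleyDatum.nMat, ChevalleyDatum.nWord, ChevalleyDatum.wordMat, List.map_cons,
    List.map_nil, List.prod_cons, List.prod_nil, mul_one, C.neg_val, nR, Units.val_mul, C.X_val_x]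
  rw [Units.val_inv_eq_inv_val]
  simp [mul_assoc]

theorem nMat_one (i : Fin D.rank) :
    D.nMat F (D.simple i) 1 = ((C.P F i : GL D.Idx F) : Matrix D.Idx D.Idx F) := by
  rw [C.simple_eq, show (1 : F) = ((1 : Fˣ) : F) from rfl, C.nMat_eq]
  rfl

theorem hMat_eq (r : Rt D) (u : Fˣ) :
    D.hMat F r.val (u : F) = ((hD F r u : GL D.Idx F) : Matrix D.Idx D.Idx F) := by
  rw [← C.hR_eq, Units.val_mul, ← C.nMat_eq, ← C.nMat_eq]
  simp [ChevalleyDatum.hMat, ChevalleyDatum.hWord, ChevalleyDatum.nMat, ChevalleyDatum.wordMat]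

theorem hMat_val (r : Rt D) {t : F} (ht : t ≠ 0) :
    D.hMat F r.val t = Matrix.diagonal (Sum.elim (fun _ => (1 : F)) fun s => t ^ pr D r s) := by
  rw [show t = ((Units.mk0 t ht : Fˣ) : F) from rfl, C.hMat_eq]
  simp [hD, diag]

theorem pr_lin (r s : Rt D) : pr D r s = ∑ m, C.v s m * pr D r (C.p m) := by
  simp only [pr, C.A_lin _ s, Finset.mul_sum]
  rw [Finset.sum_comm]
  exact Finset.sum_congr rfl fun m _ => Finset.sum_congr rfl fun j _ => by ring

theorem hD_eq_T {R : Type*} [CommRing R] (r : Rt D) (c : Rˣ) :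
    hD R r c = C.T R (fun m => c ^ pr D r (C.p m)) := by
  unfold hD T
  congr 1
  funext s
  rw [C.pr_lin r s, chr]
  simp only [← zpow_mul]
  induction (Finset.univ : Finset (Fin D.rank)) using Finset.induction_on with
  | empty => simp
  | insert a t ha ih => rw [Finset.sum_insert ha, Finset.prod_insert ha, zpow_add, ih, mul_comm (C.v s a)]

theorem hD_X {R : Type*} [CommRing R] (r s : Rt D) (c : Rˣ) (t : R) :
    hD R r c * C.X R s t = C.X R s (((c ^ pr D r s : Rˣ) : R) * t) * hD R r c := by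
  have h : C.chr R (fun m => c ^ pr D r (C.p m)) s = c ^ pr D r s := by
    rw [C.pr_lin r s, chr]
    simp only [← zpow_mul]
    induction (Finset.univ : Finset (Fin D.rank)) using Finset.induction_on with
    | empty => simp
    | insert a t ha ih => rw [Finset.sum_insert ha, Finset.prod_insert ha, zpow_add, ih, mul_comm (C.v s a)]
  rw [C.hD_eq_T, C.T_X, h]

theorem x_eq_one_iff (r : Rt D) (t : F) : xI D F r t = 1 ↔ t = 0 := by
  refine ⟨fun h => ?_, fun h => by rw [h, C.xI_zero]⟩
  have h2 := congrFun (congrFun h (Sum.inr r)) (Sum.inr r.rev)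
  simp only [xI, Matrix.sum_apply, Finset.sum_range_succ, Finset.sum_range_zero, zero_add,
    Matrix.smul_apply, Ek, Matrix.map_apply, E, Matrix.of_apply, ↓reduceIte, true_and] at h2
  simpa [(C.ne_rev r).symm] using h2

theorem pos_or_neg (r : Rt D) : D.IsPosRoot r.val ∨ D.IsNegRoot r.val := by
  rw [C.pos_iff, C.negr_iff]
  omega

/-- U ⊔ V is the whole group. -/
theorem sup_UV : D.posUnipotent F ⊔ D.negUnipotent F = D.group F := by
  unfold ChevalleyDatum.posUnipotent ChevalleyDatum.negUnipotent ChevalleyDatum.group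
  rw [← Subgroup.closure_union]
  congr 1
  ext g
  constructor
  · rintro (⟨r, t, hr, hg⟩ | ⟨r, t, hr, hg⟩) <;>
      exact ⟨⟨r, hr.1⟩, t, by rw [hg, ChevalleyDatum.x, dif_pos hr.1]⟩
  · rintro ⟨r, t, hg⟩
    have hx : (g : Matrix D.Idx D.Idx F) = D.x F r.val t := by
      rw [hg, ChevalleyDatum.x, dif_pos r.isLt]
    rcases C.pos_or_neg r with h | h
    · exact Or.inl ⟨r.val, t, h, hx⟩
    · exact Or.inr ⟨r.val, t, h, hx⟩

end Core

end Cfsg.Agent.Lib.ChevStructure
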