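import Cfsg.Agent.Lib.ChevStructure.Instances
import Cfsg.Agent.Lib.ChevStructure.CheckMild
import Cfsg.Agent.Lib.ChevStructure.CheckPoly
import Cfsg.Agent.Lib.ChevStructure.Words

/-!
Chevalley's commutator formula for all seven tabulated types.
-/

set_option autoImplicit false
set_option maxRecDepth 100000

namespace Cfsg.Agent.Lib.ChevStructure

open Cfsg.Lie

/-- The commutator formula over every commutative ring, as an identity between words. -/
def HasComm (D : ChevalleyDatum) : Prop :=
  ∀ (R : Type) [CommRing R] (t u : R) (r s : Rt D), s ≠ r → s ≠ r.rev →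
    evalW D t u (commLHS r.val s.val) = evalW D t u (commRHS D r.val s.val)

theorem mildB2 : Mild chevB2 := Cert.B2.certified.mild (by decide +kernel)
theorem mildD4 : Mild chevD4 := Cert.D4.certified.mild (by decide +kernel)
theorem mildF4 : Mild chevF4 := Cert.F4.certified.mild (by decide +kernel)
theorem mildE6 : Mild chevE6 := Cert.E6.certified.mild (by decide +kernel)
theorem mildE7 : Mild chevE7 := Cert.E7.certified.mild (by decide +kernel)
theorem mildE8 : Mild chevE8 := Cert.E8.certified.mild (by decide +kernel)

theorem polyG2 : Data.G2.fast.commAllOK chevG2 = true := by decide +kernel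

theorem comm_formula (D : ChevalleyDatum)
    (hD : D ∈ [chevG2, chevB2, chevD4, chevF4, chevE6, chevE7, chevE8])
    {R : Type*} [CommRing R] (t u : R) (r s : Rt D) (hrs : s ≠ r) (hne : s ≠ r.rev) :
    evalW D t u (commLHS r.val s.val) = evalW D t u (commRHS D r.val s.val) := by
  simp only [List.mem_cons, List.not_mem_nil, or_false] at hD
  rcases hD with rfl | rfl | rfl | rfl | rfl | rfl | rfl
  · exact Fast.commAll_sound t u Cert.G2.certified polyG2 r s hrs hne
  · exact Cert.B2.core.comm_mild mildB2 r s hne t u
  · exact Cert.D4.core.comm_mild mildD4 r s hne t u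
  · exact Cert.F4.core.comm_mild mildF4 r s hne t u
  · exact Cert.E6.core.comm_mild mildE6 r s hne t u
  · exact Cert.E7.core.comm_mild mildE7 r s hne t u
  · exact Cert.E8.core.comm_mild mildE8 r s hne t u

end Cfsg.Agent.Lib.ChevStructure
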