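import Cfsg.Agent.Lib.ChevStructure.Unipotent

/-!
The diagonal subgroup H as the image of the torus (Fˣ)^l, and the subgroup B = UH.
-/

set_option autoImplicit false
set_option linter.unusedSectionVars false

namespace Cfsg.Agent.Lib.ChevStructure

open Cfsg.Lie
open scoped MatrixGroups Matrix Pointwise

variable {D : ChevalleyDatum}

namespace Core

/-- The torus element ∏ h_{p_j}(c_j). -/
def HT (_C : Core D) (R : Type*) [CommRing R] (c : Fin D.rank → Rˣ) : GL D.Idx R :=
  diag R fun s => ∏ j, c j ^ A D j s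

/-- The value at the root s of the character of a torus element. -/
def chA (_C : Core D) {R : Type*} [CommRing R] (c : Fin D.rank → Rˣ) (s : Rt D) : Rˣ :=
  ∏ j, c j ^ A D j s

variable (C : Core D) (R : Type*) [CommRing R]
include C

theorem zpow_fsum {G : Type*} [CommGroup G] {ι : Type*} (a : G) (f : ι → ℤ) (s : Finset ι) :
    a ^ (∑ i ∈ s, f i) = ∏ i ∈ s, a ^ f i := by
  classical
  induction s using Finset.induction_on with
  | empty => simp
  | insert i t hi ih => rw [Finset.sum_insert hi, Finset.prod_insert hi, zpow_add, ih]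

theorem HT_mul (c d : Fin D.rank → Rˣ) : C.HT R c * C.HT R d = C.HT R (c * d) := by
  rw [HT, HT, C.diag_mul, HT]
  congr 1
  funext s
  simp [mul_zpow, Finset.prod_mul_distrib]

theorem HT_one : C.HT R 1 = 1 := by
  rw [HT, ← C.diag_one]
  congr 1
  funext s
  simp

/-- The torus map. -/
def HThom : (Fin D.rank → Rˣ) →* GL D.Idx R where
  toFun := C.HT R
  map_one' := C.HT_one R
  map_mul' c d := (C.HT_mul R c d).symm

theorem hD_eq_HT (r : Rt D) (a : Rˣ) : hD R r a = C.HT R fun j => a ^ co D r j := by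
  rw [hD, HT]
  congr 1
  funext s
  rw [pr, C.zpow_fsum]
  exact Finset.prod_congr rfl fun j _ => zpow_mul a _ _

theorem HT_single (i : Fin D.rank) (a : Rˣ) : C.HT R (Pi.mulSingle i a) = hD R (C.p i) a := by
  rw [HT, hD]
  congr 1
  funext s
  rw [C.pr_p, Finset.prod_eq_single i]
  · simp
  · intro j _ hj; simp [Pi.mulSingle_eq_of_ne hj]
  · simp

theorem HT_list (c : Fin D.rank → Rˣ) :
    C.HT R c = ((List.finRange D.rank).map fun i => hD R (C.p i) (c i)).prod := by
  have e : c = ((List.finRange D.rank).map fun i => Pi.mulSingle i (c i)).prod := by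
    rw [← Fin.prod_univ_def, Finset.univ_prod_mulSingle]
  have h : C.HT R c = C.HThom R c := rfl
  rw [h]
  conv_lhs => rw [e]
  rw [map_list_prod, List.map_map]
  exact congrArg List.prod (List.map_congr_left fun i _ => C.HT_single R i (c i))

theorem HT_eq_T (c : Fin D.rank → Rˣ) : C.HT R c = C.T R fun m => C.chA c (C.p m) := by
  rw [HT, T]
  congr 1
  funext s
  simp only [chr, chA, ← Finset.prod_zpow]
  rw [Finset.prod_comm]
  refine Finset.prod_congr rfl fun j _ => ?_
  rw [C.A_lin j s, C.zpow_fsum]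
  exact Finset.prod_congr rfl fun m _ => by rw [← zpow_mul, mul_comm]

theorem chr_chA (c : Fin D.rank → Rˣ) (s : Rt D) :
    C.chr R (fun m => C.chA c (C.p m)) s = C.chA c s := by
  simp only [chr, chA, ← Finset.prod_zpow]
  rw [Finset.prod_comm]
  refine Finset.prod_congr rfl fun j _ => ?_
  rw [C.A_lin j s, C.zpow_fsum]
  exact Finset.prod_congr rfl fun m _ => by rw [← zpow_mul, mul_comm]

theorem HT_X_conj (c : Fin D.rank → Rˣ) (s : Rt D) (t : R) :
    C.HT R c * C.X R s t * (C.HT R c)⁻¹ = C.X R s ((C.chA c s : R) * t) := by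
  rw [C.HT_eq_T, C.T_X_conj, C.chr_chA]

theorem HT_mem_normalizer (c : Fin D.rank → Rˣ) (S : Set (Rt D)) :
    C.HT R c ∈ Subgroup.normalizer (C.US R S : Set (GL D.Idx R)) := by
  have key : ∀ (c : Fin D.rank → Rˣ), ∀ g ∈ C.US R S, C.HT R c * g * (C.HT R c)⁻¹ ∈ C.US R S := by
    intro c g hg
    have hle : C.US R S ≤ (C.US R S).comap (MulAut.conj (C.HT R c)).toMonoidHom := by
      refine (Subgroup.closure_le _).2 ?_
      rintro x ⟨s, hs, u, rfl⟩
      show C.HT R c * C.X R s u * (C.HT R c)⁻¹ ∈ C.US R S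
      rw [C.HT_X_conj]
      exact C.X_mem_US R hs _
    exact hle hg
  rw [Subgroup.mem_normalizer_iff]
  intro g
  refine ⟨key c g, fun h => ?_⟩
  have := key c⁻¹ _ h
  have e : C.HT R c⁻¹ = (C.HT R c)⁻¹ := map_inv (C.HThom R) c
  rw [e] at this
  simpa [mul_assoc] using this

theorem diag_entry (d : Rt D → Rˣ) (a b : D.Idx) (h : a ≠ b) :
    ((diag R d : GL D.Idx R) : Matrix D.Idx D.Idx R) a b = 0 := by
  simp [diag, Matrix.diagonal_apply_ne _ h]

theorem diag_upperU_eq_one {σ c : ℤ} (hc : 0 ≤ c) (d : Rt D → Rˣ)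
    (h : (diag R d : GL D.Idx R) ∈ upperU R (fun a => σ * C.fht a) c hc) : (diag R d : GL D.Idx R) = 1 := by
  apply Units.ext
  rw [Units.val_one]
  refine sub_eq_zero.1 (Matrix.ext fun a b => ?_)
  by_cases hab : a = b
  · subst hab
    by_contra hne
    have := h.1 a a hne
    omega
  · simp [diag, Matrix.one_apply_ne hab, Matrix.diagonal_apply_ne _ hab]

end Core

namespace Core

variable (C : Core D) {F : Type*} [Field F]
include C

theorem diagonalSubgroup_eq : D.diagonalSubgroup F = (C.HThom F).range := by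
  refine le_antisymm ((Subgroup.closure_le _).2 ?_) ?_
  · rintro g ⟨r, t, hr, ht, hg⟩
    refine ⟨fun j => (Units.mk0 t ht) ^ co D ⟨r, hr⟩ j, Units.ext ?_⟩
    show ((C.HT F _ : GL D.Idx F) : Matrix D.Idx D.Idx F) = g
    rw [← C.hD_eq_HT, hg, ← C.hMat_eq]
    rfl
  · rintro g ⟨c, rfl⟩
    show C.HT F c ∈ _
    rw [C.HT_list]
    refine list_prod_mem fun g hg => ?_
    rw [List.mem_map] at hg
    obtain ⟨i, -, rfl⟩ := hg
    exact Subgroup.subset_closure ⟨(C.p i).val, (c i : F), (C.p i).isLt, (c i).ne_zero,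
      (C.hMat_eq (C.p i) (c i)).symm⟩

theorem mem_diagonal_iff {g : GL D.Idx F} :
    g ∈ D.diagonalSubgroup F ↔ ∃ c : Fin D.rank → Fˣ, g = C.HT F c := by
  rw [C.diagonalSubgroup_eq]
  exact ⟨fun ⟨c, hc⟩ => ⟨c, hc.symm⟩, fun ⟨c, hc⟩ => ⟨c, hc.symm⟩⟩

theorem diag_le_normalizer (S : Set (Rt D)) :
    D.diagonalSubgroup F ≤ Subgroup.normalizer (C.US F S : Set (GL D.Idx F)) := by
  intro g hg
  obtain ⟨c, rfl⟩ := C.mem_diagonal_iff.1 hg
  exact C.HT_mem_normalizer F c S

theorem posUS_le_upperU : C.US F C.Pos ≤ upperU F (fun a => 1 * C.fht a) 0 le_rfl :=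
  C.US_le_upperU F le_rfl fun r hr => by rw [one_mul]; exact C.ht_pos hr

theorem negUS_le_upperU : C.US F C.Neg ≤ upperU F (fun a => (-1) * C.fht a) 0 le_rfl :=
  C.US_le_upperU F le_rfl fun r hr => by have := C.ht_neg hr; omega

theorem US_inf_diagonal : C.US F C.Pos ⊓ D.diagonalSubgroup F = ⊥ := by
  refine eq_bot_iff.2 fun g hg => ?_
  obtain ⟨c, rfl⟩ := C.mem_diagonal_iff.1 hg.2
  rw [Subgroup.mem_bot]
  exact C.diag_upperU_eq_one F le_rfl _ (C.posUS_le_upperU hg.1)

theorem borel_eq : D.borelSubgroup F = C.US F C.Pos ⊔ D.diagonalSubgroup F := by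
  rw [ChevalleyDatum.borelSubgroup, C.posUnipotent_eq]

theorem mem_borel_iff {g : GL D.Idx F} :
    g ∈ D.borelSubgroup F ↔ ∃ u ∈ C.US F C.Pos, ∃ h ∈ D.diagonalSubgroup F, g = u * h := by
  rw [C.borel_eq, ← SetLike.mem_coe,
    Subgroup.coe_mul_of_right_le_normalizer_left _ _ (C.diag_le_normalizer C.Pos), Set.mem_mul]
  exact ⟨fun ⟨u, hu, h, hh, e⟩ => ⟨u, hu, h, hh, e.symm⟩, fun ⟨u, hu, h, hh, e⟩ => ⟨u, hu, h, hh, e.symm⟩⟩

theorem borel_entry {g : GL D.Idx F} (hg : g ∈ D.borelSubgroup F) {a b : D.Idx} (hab : a ≠ b)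
    (h : (g : Matrix D.Idx D.Idx F) a b ≠ 0) : C.fht b < C.fht a := by
  obtain ⟨u, hu, k, hk, rfl⟩ := C.mem_borel_iff.1 hg
  obtain ⟨c, rfl⟩ := C.mem_diagonal_iff.1 hk
  have hu' : (u : Matrix D.Idx D.Idx F) a b ≠ 0 := by
    intro hz
    apply h
    simp [HT, diag, Matrix.mul_diagonal, hz]
  have := (C.posUS_le_upperU hu).1 a b (by simpa [Matrix.one_apply_ne hab] using hu')
  simp only [one_mul, add_zero] at this
  exact this

theorem borel_inf_negUS : D.borelSubgroup F ⊓ C.US F C.Neg = ⊥ := by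
  refine eq_bot_iff.2 fun g hg => ?_
  rw [Subgroup.mem_bot]
  apply Units.ext
  rw [Units.val_one]
  refine sub_eq_zero.1 (Matrix.ext fun a b => ?_)
  by_contra hne
  have h1 : (-1) * C.fht b + 0 < (-1) * C.fht a := (C.negUS_le_upperU hg.2).1 a b hne
  by_cases hab : a = b
  · subst hab; omega
  · have := C.borel_entry hg.1 hab (by simpa [Matrix.one_apply_ne hab] using hne)
    omega

theorem borel_inf_negUS_sup :
    D.borelSubgroup F ⊓ (C.US F C.Neg ⊔ D.diagonalSubgroup F) = D.diagonalSubgroup F := by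
  refine le_antisymm ?_ (le_inf le_sup_right le_sup_right)
  intro g hg
  have h2 : g ∈ (↑(C.US F C.Neg ⊔ D.diagonalSubgroup F) : Set (GL D.Idx F)) := hg.2
  rw [Subgroup.coe_mul_of_right_le_normalizer_left _ _ (C.diag_le_normalizer C.Neg)] at h2
  obtain ⟨v, hv, k, hk, rfl⟩ := h2
  have hvB : v ∈ D.borelSubgroup F ⊓ C.US F C.Neg := by
    refine ⟨?_, hv⟩
    have hkB : k ∈ D.borelSubgroup F := Subgroup.mem_sup_right hk
    have := (D.borelSubgroup F).mul_mem hg.1 ((D.borelSubgroup F).inv_mem hkB)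
    simpa using this
  rw [C.borel_inf_negUS, Subgroup.mem_bot] at hvB
  subst hvB
  simpa using hk

theorem borel_isSolvable : Group.IsSolvable (D.borelSubgroup F) := by
  have hUB : C.US F C.Pos ≤ D.borelSubgroup F := by rw [C.borel_eq]; exact le_sup_left
  have hBN : D.borelSubgroup F ≤ Subgroup.normalizer (C.US F C.Pos : Set (GL D.Idx F)) := by
    rw [C.borel_eq]; exact sup_le Subgroup.le_normalizer (C.diag_le_normalizer _)
  set N := (C.US F C.Pos).subgroupOf (D.borelSubgroup F)
  have hN : N.Normal := (Subgroup.normal_subgroupOf_iff_le_normalizer hUB).2 hBN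
  rw [Group.isSolvable_iff_subgroup_quotient N]
  constructor
  · haveI := C.posU_isNilpotent (F := F)
    exact Group.isSolvable_of_isSolvable_injective
      (f := (Subgroup.subgroupOfEquivOfLe hUB).toMonoidHom) (MulEquiv.injective _)
  · refine Group.isSolvable_of_comm fun x y => ?_
    induction x using QuotientGroup.induction_on with | _ x => ?_
    induction y using QuotientGroup.induction_on with | _ y => ?_
    have key : ∀ x : D.borelSubgroup F, ∃ c : Fin D.rank → Fˣ, ∃ hc : C.HT F c ∈ D.borelSubgroup F,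
        (QuotientGroup.mk x : D.borelSubgroup F ⧸ N) = QuotientGroup.mk ⟨C.HT F c, hc⟩ := by
      rintro ⟨g, hg⟩
      obtain ⟨u, hu, k, hk, rfl⟩ := C.mem_borel_iff.1 hg
      obtain ⟨c, rfl⟩ := C.mem_diagonal_iff.1 hk
      have hc : C.HT F c ∈ D.borelSubgroup F := Subgroup.mem_sup_right hk
      refine ⟨c, hc, QuotientGroup.eq.2 ?_⟩
      show (u * C.HT F c)⁻¹ * C.HT F c ∈ C.US F C.Pos
      have := (Subgroup.mem_normalizer_iff.1 (inv_mem (hBN hc)) u⁻¹).1 (inv_mem hu)
      simpa [mul_assoc] using this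
    obtain ⟨c, hc, ex⟩ := key x
    obtain ⟨d, hd, ey⟩ := key y
    rw [ex, ey, ← QuotientGroup.mk_mul, ← QuotientGroup.mk_mul]
    congr 1
    apply Subtype.ext
    show C.HT F c * C.HT F d = C.HT F d * C.HT F c
    rw [C.HT_mul, C.HT_mul, mul_comm c d]

end Core

end Cfsg.Agent.Lib.ChevStructure

namespace Cfsg.Agent.Lib.ChevStructure.Core

open Cfsg.Lie
open scoped MatrixGroups Matrix

variable {D : ChevalleyDatum} (C : Core D) {F : Type*} [Field F]
include C

theorem posRoots_eq : D.posRoots = C.posL.map Fin.val := by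
  rw [ChevalleyDatum.posRoots, ← List.map_coe_finRange_eq_range, List.filter_map]
  congr 1
  refine List.filter_congr fun r _ => ?_
  simp only [Function.comp_apply, decide_eq_decide]
  exact C.pos_iff r

theorem wordMat_posRoots (t : ℕ → F) :
    D.wordMat F (D.posRoots.map fun r => (r, t r))
      = ((C.wordX F C.posL (fun r => t r.val) : GL D.Idx F) : Matrix D.Idx D.Idx F) := by
  rw [C.posRoots_eq, ChevalleyDatum.wordMat, wordX, ← Units.coeHom_apply (List.prod _), map_list_prod,
    List.map_map, List.map_map, List.map_map]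
  exact congrArg List.prod (List.map_congr_left fun r _ => by simp [C.xI_eq_x])

theorem wordMat_flat (L : List ℕ) (f : ℕ → List (ℕ × F)) :
    D.wordMat F (L.flatMap f) = (L.map fun i => D.wordMat F (f i)).prod := by
  induction L with
  | nil => rfl
  | cons a L ih =>
    rw [List.flatMap_cons, ChevalleyDatum.wordMat, List.map_append, List.prod_append, List.map_cons,
      List.prod_cons, ← ih]
    rfl

end Cfsg.Agent.Lib.ChevStructure.Core
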