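import Cfsg.Agent.Lib.ChevStructure.CommAll

/-!
The commutator formula in GL, with the weights of its terms.
-/

set_option autoImplicit false
set_option maxRecDepth 100000
set_option linter.unusedSectionVars false

namespace Cfsg.Agent.Lib.ChevStructure

open Cfsg.Lie
open scoped MatrixGroups Matrix

variable {D : ChevalleyDatum}

/-- The commutator formula, together with the weights of the roots occurring in it. -/
structure CommOK (C : Core D) : Prop where
  formula : ∀ (r s : Rt D), s ≠ r → s ≠ r.rev →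
    evalW D (MvPolynomial.X 0 : MvPolynomial (Fin 2) ℚ) (MvPolynomial.X 1) (commLHS r.val s.val) =
      evalW D (MvPolynomial.X 0 : MvPolynomial (Fin 2) ℚ) (MvPolynomial.X 1) (commRHS D r.val s.val)
  terms : ∀ (r s : Rt D), s ≠ r → s ≠ r.rev → ∀ c ∈ D.commTerms r.val s.val,
    ∃ q : Rt D, c.1 = q.val ∧ 1 ≤ c.2.2.1 ∧ 1 ≤ c.2.2.2 ∧
      C.v q = (c.2.2.1 : ℤ) • C.v r + (c.2.2.2 : ℤ) • C.v s

namespace Core

variable (C : Core D)
include C

theorem weight_entry {k : ℕ} {r s q : Rt D} {M : ℤ} (hM : M ≠ 0)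
    (he : (D.chainEntry r.val s.val)[k]? = some (q.val, M)) :
    C.v q = ((k + 1 : ℕ) : ℤ) • C.v r + (1 : ℤ) • C.v s := by
  have h : chM D (k + 1) r s q ≠ 0 := by simp [C.chM_entry, he, hM]
  rw [(C.chM_tgt k r s q h).2]
  push_cast
  module

theorem terms_mild (Hm : Mild D) (r s : Rt D) (hne : s ≠ r.rev) :
    ∀ c ∈ D.commTerms r.val s.val, ∃ q : Rt D, c.1 = q.val ∧ 1 ≤ c.2.2.1 ∧ 1 ≤ c.2.2.2 ∧
      C.v q = (c.2.2.1 : ℤ) • C.v r + (c.2.2.2 : ℤ) • C.v s := by
  intro c hc
  have l1 := Hm.len r s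
  have l2 := Hm.len s r
  have nz2 : ∀ (a b : Rt D) (q' : ℕ) (M' : ℤ), (D.chainEntry a.val b.val)[1]? = some (q', M') → M' ≠ 0 := by
    intro a b q' M' he
    have hl := Hm.len a b
    match h : D.chainEntry a.val b.val with
    | [] => simp [h] at he
    | [_] => simp [h] at he
    | [(q0, M0), (q1, M1)] =>
      simp [h] at he
      obtain ⟨rfl, rfl⟩ := he
      have h0 : q0 < D.nroots := Hm.lt a b (q0, M0) (by simp [h])
      have h1 : q1 < D.nroots := Hm.lt a b (q1, M1) (by simp [h])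
      obtain ⟨-, -, -, -, -, N, hN, -, hMN⟩ := Hm.pair a b ⟨q0, h0⟩ ⟨q1, h1⟩ M0 M1 h
      have hN0 : N ≠ 0 := Hm.nz a ⟨q0, h0⟩ (q1, N) (by simp [hN])
      have hM0 : M0 ≠ 0 := Hm.nz a b (q0, M0) (by simp [h])
      intro hz
      rw [hz, mul_zero] at hMN
      exact (mul_ne_zero hM0 hN0) hMN
    | _ :: _ :: _ :: _ => simp [h] at hl
  simp only [ChevalleyDatum.commTerms, ChevalleyDatum.chainRoot, ChevalleyDatum.chainM,
    List.mem_filterMap, List.mem_cons, List.not_mem_nil, or_false] at hc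
  obtain ⟨d, hd, hdc⟩ := hc
  have n3 : (D.chainEntry r.val s.val)[2]? = none := List.getElem?_eq_none_iff.2 l1
  have n3' : (D.chainEntry s.val r.val)[2]? = none := List.getElem?_eq_none_iff.2 l2
  rcases hd with rfl | rfl | rfl | rfl | rfl | rfl | rfl <;>
    simp only [Option.map_eq_some_iff, n3, n3', Option.map_none, Option.bind_none, exists_and_right,
      reduceCtorEq, false_and, exists_false, Nat.reduceSub] at hdc
  · obtain ⟨k, ⟨e, he, rfl⟩, rfl⟩ := hdc
    have hq : e.1 < D.nroots := Hm.lt r s e (List.mem_of_getElem? he)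
    refine ⟨⟨e.1, hq⟩, rfl, le_rfl, le_rfl, ?_⟩
    have := C.weight_entry (k := 0) (r := r) (s := s) (q := ⟨e.1, hq⟩) (Hm.nz r s e he) (by simpa using he)
    simpa using this
  · obtain ⟨k, ⟨e, he, rfl⟩, rfl⟩ := hdc
    have hq : e.1 < D.nroots := Hm.lt r s e (List.mem_of_getElem? he)
    refine ⟨⟨e.1, hq⟩, rfl, by norm_num, le_rfl, ?_⟩
    have := C.weight_entry (k := 1) (r := r) (s := s) (q := ⟨e.1, hq⟩) (nz2 r s e.1 e.2 he) (by simpa using he)
    simpa using this
  · obtain ⟨k, ⟨e, he, rfl⟩, rfl⟩ := hdc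
    have hq : e.1 < D.nroots := Hm.lt s r e (List.mem_of_getElem? he)
    refine ⟨⟨e.1, hq⟩, rfl, le_rfl, by norm_num, ?_⟩
    have := C.weight_entry (k := 1) (r := s) (s := r) (q := ⟨e.1, hq⟩) (nz2 s r e.1 e.2 he) (by simpa using he)
    rw [this]
    push_cast
    module

theorem commOK_mild (Hm : Mild D) : CommOK C where
  formula r s _ hne := C.comm_mild Hm r s hne _ _
  terms r s _ hne := C.terms_mild Hm r s hne

variable (R : Type*) [CommRing R]

/-- x_q(c) in GL for a natural number q. -/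
def XN (q : ℕ) (c : R) : GL D.Idx R := if h : q < D.nroots then C.X R ⟨q, h⟩ c else 1

theorem XN_fin (q : Rt D) (c : R) : C.XN R q.val c = C.X R q c := by simp [XN]

theorem XN_val (q : ℕ) (c : R) : ((C.XN R q c : GL D.Idx R) : Matrix D.Idx D.Idx R) = xN D R q c := by
  unfold XN xN
  split_ifs <;> rfl

end Core

namespace CommOK

variable {C : Core D} (H : CommOK C) {R : Type*} [CommRing R]
include H

/-- x_s(u) x_r(t) = x_r(t) x_s(u) ∏ x_q(...). -/
theorem comm_X (r s : Rt D) (hrs : s ≠ r) (hne : s ≠ r.rev) (t u : R) :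
    C.X R s u * C.X R r t = C.X R r t * C.X R s u *
      ((D.commTerms r.val s.val).map fun c =>
        C.XN R c.1 ((c.2.1 : R) * (-t) ^ c.2.2.1 * u ^ c.2.2.2)).prod := by
  apply Units.ext
  have h := C.evalW_transfer (H.formula r s hrs hne) t u
  simp only [commLHS, commRHS, evalW, List.map_append, List.map_map, List.map_cons, List.map_nil,
    List.prod_append, List.prod_cons, List.prod_nil, mul_one, Int.cast_one, pow_zero, pow_one, one_mul,
    C.xN_fin] at h
  rw [Units.val_mul, Units.val_mul, Units.val_mul, ← Units.coeHom_apply (List.prod _), map_list_prod,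
    List.map_map]
  simp only [Core.X_val]
  rw [h]
  congr 2
  refine List.map_congr_left fun c _ => ?_
  simp only [Function.comp_apply, Units.coeHom_apply, C.XN_val, Int.cast_mul, Int.cast_pow, Int.cast_neg,
    Int.cast_one]
  congr 1
  rw [neg_pow t]
  ring

end CommOK

theorem commOK_G2 : CommOK Cert.G2.core where
  formula r s hrs hne := Fast.commAll_sound _ _ Cert.G2.certified polyG2 r s hrs hne
  terms r s hrs hne c hc := by
    have key : allLt 12 (fun a => allLt 12 fun b => Nat.beq b a || Nat.beq b (11 - a) ||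
        (chevG2.commTerms a b).all fun c => Nat.blt c.1 12 && Nat.blt 0 c.2.2.1 && Nat.blt 0 c.2.2.2 &&
          allLt 2 fun m => decide (Data.G2.fast.v c.1 m =
            (c.2.2.1 : ℤ) * Data.G2.fast.v a m + (c.2.2.2 : ℤ) * Data.G2.fast.v b m)) = true := by
      decide +kernel
    simp only [allLt_iff, Bool.or_eq_true, List.all_eq_true, Bool.and_eq_true, decide_eq_true_eq] at key
    have hr : r.val < 12 := r.isLt
    have hs : s.val < 12 := s.isLt
    rcases key r.val hr s.val hs with (h | h) | h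
    · exact absurd (Fin.ext (Nat.eq_of_beq_eq_true h)) hrs
    · refine absurd (Fin.ext ?_) hne
      rw [Nat.eq_of_beq_eq_true h, Fin.val_rev]
      show _ = 12 - (r.val + 1)
      omega
    · obtain ⟨⟨⟨h1, h2⟩, h3⟩, h4⟩ := h c hc
      exact ⟨⟨c.1, Nat.le_of_ble_eq_true h1⟩, rfl, Nat.le_of_ble_eq_true h2, Nat.le_of_ble_eq_true h3,
        funext fun m => h4 m.val m.isLt⟩

/-- A `Core` with its commutator formula. -/
structure Sys (D : ChevalleyDatum) extends Core D where
  commOK : CommOK toCore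

theorem nonempty_sys (D : ChevalleyDatum)
    (hD : D ∈ [chevG2, chevB2, chevD4, chevF4, chevE6, chevE7, chevE8]) : Nonempty (Sys D) := by
  simp only [List.mem_cons, List.not_mem_nil, or_false] at hD
  rcases hD with rfl | rfl | rfl | rfl | rfl | rfl | rfl
  exacts [⟨⟨Cert.G2.core, commOK_G2⟩⟩, ⟨⟨Cert.B2.core, Cert.B2.core.commOK_mild mildB2⟩⟩,
    ⟨⟨Cert.D4.core, Cert.D4.core.commOK_mild mildD4⟩⟩, ⟨⟨Cert.F4.core, Cert.F4.core.commOK_mild mildF4⟩⟩,
    ⟨⟨Cert.E6.core, Cert.E6.core.commOK_mild mildE6⟩⟩, ⟨⟨Cert.E7.core, Cert.E7.core.commOK_mild mildE7⟩⟩,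
    ⟨⟨Cert.E8.core, Cert.E8.core.commOK_mild mildE8⟩⟩]

end Cfsg.Agent.Lib.ChevStructure
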