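import Cfsg.Agent.Lib.ChevStructure.WeylN

/-!
The homomorphism SL₂ → ⟨X_r, X_{-r}⟩, obtained from the graph of the correspondence of generators.
-/

set_option autoImplicit false
set_option linter.unusedSectionVars false

namespace Cfsg.Agent.Lib.ChevStructure

open Cfsg.Lie
open scoped MatrixGroups Matrix

variable {D : ChevalleyDatum}

/-- upper unitriangular -/
def slU {R : Type*} [CommRing R] (t : R) : Matrix.SpecialLinearGroup (Fin 2) R :=
  ⟨!![1, t; 0, 1], by simp [Matrix.det_fin_two_of]⟩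

/-- lower unitriangular -/
def slL {R : Type*} [CommRing R] (t : R) : Matrix.SpecialLinearGroup (Fin 2) R :=
  ⟨!![1, 0; t, 1], by simp [Matrix.det_fin_two_of]⟩

@[simp] theorem slU_val {R : Type*} [CommRing R] (t : R) :
    (slU t : Matrix (Fin 2) (Fin 2) R) = !![1, t; 0, 1] := rfl

@[simp] theorem slL_val {R : Type*} [CommRing R] (t : R) :
    (slL t : Matrix (Fin 2) (Fin 2) R) = !![1, 0; t, 1] := rfl

/-- monomial -/
def slN {R : Type*} [CommRing R] (u : Rˣ) : Matrix.SpecialLinearGroup (Fin 2) R :=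
  slU (u : R) * slL (-(↑u⁻¹ : R)) * slU (u : R)

/-- diagonal -/
def slH {R : Type*} [CommRing R] (u : Rˣ) : Matrix.SpecialLinearGroup (Fin 2) R := slN u * slN (-1)

theorem slN_val {R : Type*} [CommRing R] (u : Rˣ) :
    (slN u : Matrix (Fin 2) (Fin 2) R) = !![0, (u : R); -(↑u⁻¹ : R), 0] := by
  simp [slN, slU_val, slL_val, Matrix.mul_fin_two, Matrix.SpecialLinearGroup.coe_mul]

theorem slH_val {R : Type*} [CommRing R] (u : Rˣ) :
    (slH u : Matrix (Fin 2) (Fin 2) R) = !![(u : R), 0; 0, (↑u⁻¹ : R)] := by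
  simp [slH, slN_val, Matrix.mul_fin_two, Matrix.SpecialLinearGroup.coe_mul]

namespace Core

variable (C : Core D) (F : Type*) [Field F]

/-- The pairs (u(t), x_r(t)). -/
def gA (r : Rt D) (t : F) : Matrix.SpecialLinearGroup (Fin 2) F × GL D.Idx F := (slU t, C.X F r t)

/-- The pairs (n(u), n_r(u)). -/
def gN (r : Rt D) (u : Fˣ) : Matrix.SpecialLinearGroup (Fin 2) F × GL D.Idx F := (slN u, C.nR F r u)

/-- The pairs (h(u), h_r(u)). -/
def gH (r : Rt D) (u : Fˣ) : Matrix.SpecialLinearGroup (Fin 2) F × GL D.Idx F :=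
  C.gN F r u * C.gN F r (-1)

/-- The pairs (l(t), x_{-r}(t)). -/
def gB (r : Rt D) (t : F) : Matrix.SpecialLinearGroup (Fin 2) F × GL D.Idx F := (slL t, C.X F r.rev t)

include C

theorem nR_X_conj (r : Rt D) (u : Fˣ) (t : F) :
    C.nR F r u * C.X F r t * (C.nR F r u)⁻¹ = C.X F r.rev (-((↑u⁻¹ : F) * (↑u⁻¹ : F) * t)) := by
  revert u t
  refine C.ind (fun r => ∀ (u : Fˣ) (t : F), C.nR F r u * C.X F r t * (C.nR F r u)⁻¹ =
    C.X F r.rev (-((↑u⁻¹ : F) * (↑u⁻¹ : F) * t))) (fun i u t => ?_) (fun i r ih u t => ?_) r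
  · have hu : C.nR F (C.p i) u = C.T F (Pi.mulSingle i u) * C.P F i * (C.T F (Pi.mulSingle i u))⁻¹ := by
      rw [P, C.T_nR_conj, C.chr_single, C.v_p]
      simp
    set T := C.T F (Pi.mulSingle i u) with hT
    have h1 : T⁻¹ * C.X F (C.p i) t * T = C.X F (C.p i) ((↑u⁻¹ : F) * t) := by
      have := C.T_X_conj F (Pi.mulSingle i u) (C.p i) ((↑u⁻¹ : F) * t)
      rw [C.chr_single, C.v_p] at this
      simp only [Pi.single_eq_same, zpow_one, Units.mul_inv_cancel_left] at this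
      rw [← this, ← hT]; group
    calc C.nR F (C.p i) u * C.X F (C.p i) t * (C.nR F (C.p i) u)⁻¹
        = T * (C.P F i * (T⁻¹ * C.X F (C.p i) t * T) * (C.P F i)⁻¹) * T⁻¹ := by rw [hu]; group
      _ = _ := by
        rw [h1, C.P_X_conj, C.w_p, C.η_p, C.T_X_conj, C.chr_rev, C.chr_single, C.v_p]
        congr 1
        simp only [Pi.single_eq_same, zpow_one, Int.cast_neg, Int.cast_one]
        ring
  · set η := C.ηU F i r with hη
    have hηη : η * η = 1 := Units.ext η.val_inv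
    have hn : C.nR F (C.w i r) u = C.P F i * C.nR F r (η * u) * (C.P F i)⁻¹ := by
      rw [C.P_nR_conj, ← mul_assoc, hηη, one_mul]
    have hx : C.X F (C.w i r) t = C.P F i * C.X F r ((η : F) * t) * (C.P F i)⁻¹ := by
      rw [C.P_X_conj, ← mul_assoc]
      have : (C.η i r : F) * (η : F) = 1 := η.val_inv
      rw [this, one_mul]
    calc C.nR F (C.w i r) u * C.X F (C.w i r) t * (C.nR F (C.w i r) u)⁻¹
        = C.P F i * (C.nR F r (η * u) * C.X F r ((η : F) * t) * (C.nR F r (η * u))⁻¹) * (C.P F i)⁻¹ := by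
          rw [hn, hx]; group
      _ = _ := by
        rw [ih, C.P_X_conj, C.w_rev, C.η_rev]
        congr 1
        have h : (C.η i r : F) * (η : F) = 1 := η.val_inv
        have h' : ((η⁻¹ : Fˣ) : F) = (η : F) := rfl
        rw [mul_inv_rev, Units.val_mul, h']
        have h2 : (η : F) * (η : F) = 1 := η.val_inv
        linear_combination (-((↑u⁻¹ : F) * (↑u⁻¹ : F) * t * (η : F) * (η : F))) * h +
          (-((↑u⁻¹ : F) * (↑u⁻¹ : F) * t)) * h2

theorem gA_add (r : Rt D) (s t : F) : C.gA F r s * C.gA F r t = C.gA F r (s + t) := by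
  refine Prod.ext (Subtype.ext ?_) (C.X_add F r s t)
  simp [gA, slU_val, Matrix.mul_fin_two, add_comm, Matrix.SpecialLinearGroup.coe_mul]

theorem gA_zero (r : Rt D) : C.gA F r 0 = 1 := by
  refine Prod.ext (Subtype.ext ?_) (C.X_zero F r)
  simp [gA, slU, Matrix.one_fin_two]

theorem gN_inv (r : Rt D) (u : Fˣ) : (C.gN F r u)⁻¹ = C.gN F r (-u) := by
  refine inv_eq_of_mul_eq_one_right (Prod.ext (Subtype.ext ?_) ?_)
  · simp [gN, slN_val, Matrix.mul_fin_two, Matrix.one_fin_two, Matrix.SpecialLinearGroup.coe_mul]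
  · show C.nR F r u * C.nR F r (-u) = 1
    rw [← C.nR_inv, mul_inv_cancel]

theorem gH_snd (r : Rt D) (u : Fˣ) : (C.gH F r u).2 = hD F r u := C.hR_eq F r u

theorem gH_fst (r : Rt D) (u : Fˣ) : (C.gH F r u).1 = slH u := rfl

theorem gN_eq (r : Rt D) (u : Fˣ) : C.gN F r u = C.gH F r u * C.gN F r 1 := by
  have h : C.gN F r (-1) = (C.gN F r 1)⁻¹ := by rw [gN_inv]
  rw [gH, h, inv_mul_cancel_right]

theorem gH_mul (r : Rt D) (u v : Fˣ) : C.gH F r u * C.gH F r v = C.gH F r (u * v) := by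
  refine Prod.ext (Subtype.ext ?_) ?_
  · simp [gH_fst, slH_val, Matrix.mul_fin_two, mul_comm, Matrix.SpecialLinearGroup.coe_mul]
  · rw [Prod.snd_mul, gH_snd, gH_snd, gH_snd]
    simp only [hD, C.diag_mul]
    congr 1
    funext s
    exact (mul_zpow u v _).symm

theorem gH_one (r : Rt D) : C.gH F r 1 = 1 := by
  have h := C.gH_mul F r 1 1
  rwa [one_mul, mul_eq_left] at h

theorem gH_gA (r : Rt D) (u : Fˣ) (t : F) :
    C.gH F r u * C.gA F r t = C.gA F r ((u : F) * (u : F) * t) * C.gH F r u := by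
  refine Prod.ext (Subtype.ext ?_) ?_
  · simp [gH_fst, gA, slH_val, slU_val, Matrix.mul_fin_two, Matrix.SpecialLinearGroup.coe_mul]
    field_simp
  · rw [Prod.snd_mul, Prod.snd_mul, gH_snd]
    show hD F r u * C.X F r t = C.X F r _ * hD F r u
    rw [C.hD_X, C.pr_self]
    simp [sq, zpow_two]

theorem gN_gH (r : Rt D) (u : Fˣ) : C.gN F r 1 * C.gH F r u = C.gH F r u⁻¹ * C.gN F r 1 := by
  refine Prod.ext (Subtype.ext ?_) ?_
  · simp [gH_fst, gN, slH_val, slN_val, Matrix.mul_fin_two, Matrix.SpecialLinearGroup.coe_mul]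
  · rw [Prod.snd_mul, Prod.snd_mul, gH_snd, gH_snd]
    show C.nR F r 1 * hD F r u = hD F r u⁻¹ * C.nR F r 1
    rw [← C.hR_eq F r u, ← C.hR_eq F r u⁻¹, show C.nR F r (-1) = (C.nR F r 1)⁻¹ from (C.nR_inv F r 1).symm,
      inv_mul_cancel_right, ← mul_assoc, mul_inv_eq_iff_eq_mul, C.nR_mul]
    have e : C.nR F r u⁻¹ * C.nR F r 1 = hD F r (-u⁻¹) := by rw [C.nR_mul]; simp
    rw [e]
    simp

theorem gN_gA (r : Rt D) (t : F) : C.gN F r 1 * C.gA F r t * (C.gN F r 1)⁻¹ = C.gB F r (-t) := by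
  refine Prod.ext (Subtype.ext ?_) ?_
  · rw [gN_inv]; simp [gB, gA, gN, slN_val, slU_val, slL_val, Matrix.mul_fin_two, Matrix.SpecialLinearGroup.coe_mul]
  · simpa [gB, gA, gN] using C.nR_X_conj F r 1 t

theorem gN_gA_gN (r : Rt D) (t : Fˣ) : C.gN F r 1 * C.gA F r (t : F) * C.gN F r 1 =
    C.gA F r (-(↑t⁻¹ : F)) * C.gH F r (-t⁻¹) * C.gN F r 1 * C.gA F r (-(↑t⁻¹ : F)) := by
  have hB : C.gB F r (t : F) = C.gA F r ((↑t⁻¹ : F)) * C.gN F r (-t⁻¹) * C.gA F r ((↑t⁻¹ : F)) := by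
    have e : C.gN F r (-t⁻¹) = C.gA F r (-(↑t⁻¹ : F)) * C.gB F r (t : F) * C.gA F r (-(↑t⁻¹ : F)) := by
      refine Prod.ext ?_ ?_
      · simp [gN, slN, gA, gB]
      · simp [gN, gA, gB, nR]
    rw [e]
    simp only [← mul_assoc, C.gA_add, add_neg_cancel, C.gA_zero, one_mul]
    rw [mul_assoc, C.gA_add, neg_add_cancel, C.gA_zero, mul_one]
  have hh : C.gN F r 1 * C.gN F r 1 = C.gH F r (-1) := by
    refine Prod.ext (Subtype.ext ?_) ?_
    · simp [gN, gH_fst, slN_val, slH_val, Matrix.mul_fin_two, Matrix.SpecialLinearGroup.coe_mul]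
    · rw [gH_snd]; show C.nR F r 1 * C.nR F r 1 = _; rw [C.nR_mul]; simp
  calc C.gN F r 1 * C.gA F r (t : F) * C.gN F r 1
      = C.gN F r 1 * C.gA F r (t : F) * (C.gN F r 1)⁻¹ * (C.gN F r 1 * C.gN F r 1) := by group
    _ = C.gB F r (-(t : F)) * C.gH F r (-1) := by rw [C.gN_gA, hh]
    _ = _ := by
      have h := C.gN_gA F r (t : F)
      have hB' : C.gB F r (-(t : F)) = C.gA F r (-(↑t⁻¹ : F)) * C.gN F r t⁻¹ * C.gA F r (-(↑t⁻¹ : F)) := by
        have e : C.gN F r t⁻¹ = C.gA F r ((↑t⁻¹ : F)) * C.gB F r (-(t : F)) * C.gA F r ((↑t⁻¹ : F)) := by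
          refine Prod.ext ?_ ?_
          · simp [gN, slN, gA, gB]
          · simp [gN, gA, gB, nR]
        rw [e]
        simp only [← mul_assoc, C.gA_add, neg_add_cancel, C.gA_zero, one_mul]
        rw [mul_assoc, C.gA_add, add_neg_cancel, C.gA_zero, mul_one]
      rw [hB', C.gN_eq F r t⁻¹, mul_assoc _ (C.gA F r _) (C.gH F r (-1))]
      have hc : C.gA F r (-(↑t⁻¹ : F)) * C.gH F r (-1) = C.gH F r (-1) * C.gA F r (-(↑t⁻¹ : F)) := by
        rw [C.gH_gA]; simp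
      have h3 : C.gH F r t⁻¹ * C.gN F r 1 * C.gH F r (-1) = C.gH F r (-t⁻¹) * C.gN F r 1 := by
        rw [mul_assoc, C.gN_gH, inv_neg_one, ← mul_assoc, C.gH_mul, mul_neg_one]
      rw [hc, ← mul_assoc, mul_assoc (C.gA F r _) _ (C.gH F r (-1)), h3]
      simp only [mul_assoc]

/-- The graph of the homomorphism. -/
def slGraph (r : Rt D) : Subgroup (Matrix.SpecialLinearGroup (Fin 2) F × GL D.Idx F) :=
  Subgroup.closure ({x | ∃ t : F, x = C.gA F r t} ∪ {x | ∃ t : F, x = C.gB F r t})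

theorem gN_mem (r : Rt D) (u : Fˣ) : C.gN F r u ∈ C.slGraph F r := by
  have e : C.gN F r u = C.gA F r (u : F) * C.gB F r (-(↑u⁻¹ : F)) * C.gA F r (u : F) := Prod.ext rfl rfl
  rw [e]
  refine mul_mem (mul_mem ?_ ?_) ?_
  · exact Subgroup.subset_closure (Or.inl ⟨_, rfl⟩)
  · exact Subgroup.subset_closure (Or.inr ⟨_, rfl⟩)
  · exact Subgroup.subset_closure (Or.inl ⟨_, rfl⟩)

theorem slGraph_cases (r : Rt D) {x : Matrix.SpecialLinearGroup (Fin 2) F × GL D.Idx F}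
    (hx : x ∈ C.slGraph F r) :
    (∃ t u, x = C.gA F r t * C.gH F r u) ∨
      ∃ t u s, x = C.gA F r t * C.gH F r u * C.gN F r 1 * C.gA F r s := by
  let S : Set (Matrix.SpecialLinearGroup (Fin 2) F × GL D.Idx F) :=
    {x | (∃ t u, x = C.gA F r t * C.gH F r u) ∨
      ∃ t u s, x = C.gA F r t * C.gH F r u * C.gN F r 1 * C.gA F r s}
  have hA : ∀ (a : F), ∀ y ∈ S, C.gA F r a * y ∈ S := by
    rintro a y (⟨t, u, rfl⟩ | ⟨t, u, s, rfl⟩)
    · exact Or.inl ⟨a + t, u, by rw [← mul_assoc, C.gA_add]⟩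
    · exact Or.inr ⟨a + t, u, s, by simp only [← mul_assoc, C.gA_add]⟩
  have hN : ∀ y ∈ S, C.gN F r 1 * y ∈ S := by
    rintro y (⟨t, u, rfl⟩ | ⟨t, u, s, rfl⟩)
    · refine Or.inr ⟨0, u⁻¹, (↑u⁻¹ : F) * (↑u⁻¹ : F) * t, ?_⟩
      have e : C.gA F r t * C.gH F r u = C.gH F r u * C.gA F r ((↑u⁻¹ : F) * (↑u⁻¹ : F) * t) := by
        rw [C.gH_gA]
        congr 2
        field_simp
        simp
      rw [e, ← mul_assoc, C.gN_gH, C.gA_zero, one_mul]
    · by_cases ht : t = 0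
      · subst ht
        refine Or.inl ⟨(↑u⁻¹ : F) * (↑u⁻¹ : F) * (-1 * -1) * s, u⁻¹ * -1, ?_⟩
        have hh : C.gN F r 1 * C.gN F r 1 = C.gH F r (-1) := by
          refine Prod.ext (Subtype.ext ?_) ?_
          · simp [gN, gH_fst, slN_val, slH_val, Matrix.mul_fin_two, Matrix.SpecialLinearGroup.coe_mul]
          · rw [gH_snd]; show C.nR F r 1 * C.nR F r 1 = _; rw [C.nR_mul]; simp
        rw [C.gA_zero, one_mul, ← mul_assoc, ← mul_assoc, C.gN_gH, mul_assoc (C.gH F r u⁻¹) (C.gN F r 1),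
          hh, C.gH_mul, C.gH_gA]
        simp
      · set t' := Units.mk0 t ht
        have e := C.gN_gA_gN F r t'
        set w := -(↑t'⁻¹ : F)
        refine Or.inr ⟨w, -t'⁻¹ * u⁻¹⁻¹, (u : F) * (u : F) * w + s, ?_⟩
        have e2 : C.gA F r t * C.gH F r u * C.gN F r 1 =
            C.gA F r t * C.gN F r 1 * C.gH F r u⁻¹ := by
          rw [mul_assoc, mul_assoc, C.gN_gH, inv_inv]
        rw [e2]
        calc C.gN F r 1 * (C.gA F r t * C.gN F r 1 * C.gH F r u⁻¹ * C.gA F r s)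
            = C.gN F r 1 * C.gA F r (t' : F) * C.gN F r 1 * C.gH F r u⁻¹ * C.gA F r s := by
              simp [t', mul_assoc]
          _ = C.gA F r w * C.gH F r (-t'⁻¹) * C.gN F r 1 * (C.gA F r w * C.gH F r u⁻¹) * C.gA F r s := by
              rw [e]; group
          _ = C.gA F r w * C.gH F r (-t'⁻¹) * (C.gN F r 1 * C.gH F r u⁻¹) *
                C.gA F r ((u : F) * (u : F) * w) * C.gA F r s := by
              have e3 : C.gA F r w * C.gH F r u⁻¹ = C.gH F r u⁻¹ * C.gA F r ((u : F) * (u : F) * w) := by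
                rw [C.gH_gA]; congr 2; field_simp; simp
              rw [e3]; group
          _ = _ := by
              rw [C.gN_gH, mul_assoc _ (C.gA F r _) (C.gA F r s), C.gA_add, ← mul_assoc (_ * C.gH F r (-t'⁻¹)),
                mul_assoc (C.gA F r w) (C.gH F r _) (C.gH F r _), C.gH_mul]
  have hclosed : ∀ y ∈ S, ∀ g ∈ ({x | ∃ t : F, x = C.gA F r t} ∪ {x | ∃ t : F, x = C.gB F r t}),
      g * y ∈ S ∧ g⁻¹ * y ∈ S := by
    have hNinv : ∀ y ∈ S, (C.gN F r 1)⁻¹ * y ∈ S := by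
      intro y hy
      have hh : C.gN F r 1 * C.gN F r 1 * (C.gN F r 1 * C.gN F r 1) = 1 := by
        have h2 : C.gN F r 1 * C.gN F r 1 = C.gH F r (-1) := by
          refine Prod.ext (Subtype.ext ?_) ?_
          · simp [gN, gH_fst, slN_val, slH_val, Matrix.mul_fin_two, Matrix.SpecialLinearGroup.coe_mul]
          · rw [gH_snd]; show C.nR F r 1 * C.nR F r 1 = _; rw [C.nR_mul]; simp
        rw [h2, C.gH_mul, neg_mul_neg, one_mul, C.gH_one]
      rw [inv_eq_of_mul_eq_one_right (b := C.gN F r 1 * (C.gN F r 1 * C.gN F r 1))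
        (by rw [← mul_assoc]; exact hh), mul_assoc, mul_assoc]
      exact hN _ (hN _ (hN _ hy))
    have hB : ∀ (b : F), ∀ y ∈ S, C.gB F r b * y ∈ S := by
      intro b y hy
      rw [← neg_neg b, ← C.gN_gA, mul_assoc, mul_assoc]
      exact hN _ (hA _ _ (hNinv _ hy))
    rintro y hy g (⟨t, rfl⟩ | ⟨t, rfl⟩)
    · refine ⟨hA t y hy, ?_⟩
      rw [inv_eq_of_mul_eq_one_right (show C.gA F r t * C.gA F r (-t) = 1 by
        rw [C.gA_add, add_neg_cancel, C.gA_zero])]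
      exact hA _ y hy
    · refine ⟨hB t y hy, ?_⟩
      rw [inv_eq_of_mul_eq_one_right (show C.gB F r t * C.gB F r (-t) = 1 by
        rw [← neg_neg t, ← C.gN_gA, ← C.gN_gA, neg_neg]
        simp only [mul_assoc, inv_mul_cancel_left]
        rw [← mul_assoc (C.gA F r _), C.gA_add]
        simp [C.gA_zero])]
      exact hB _ y hy
  have h1 : (1 : Matrix.SpecialLinearGroup (Fin 2) F × GL D.Idx F) ∈ S :=
    Or.inl ⟨0, 1, by rw [C.gA_zero, C.gH_one, one_mul]⟩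
  refine (Subgroup.closure_induction_left (p := fun z _ => z ∈ S) h1 ?_ ?_ hx : x ∈ S)
  · exact fun g hg y _ hy => (hclosed y hy g hg).1
  · exact fun g hg y _ hy => (hclosed y hy g hg).2

theorem slGraph_inj (r : Rt D) {x : Matrix.SpecialLinearGroup (Fin 2) F × GL D.Idx F}
    (hx : x ∈ C.slGraph F r) (h : x.1 = 1) : x = 1 := by
  rcases C.slGraph_cases F r hx with ⟨t, u, rfl⟩ | ⟨t, u, s, rfl⟩
  · have h' := congrArg (fun g : Matrix.SpecialLinearGroup (Fin 2) F => (g : Matrix (Fin 2) (Fin 2) F)) h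
    simp [gA, gH_fst, slU_val, slH_val, Matrix.mul_fin_two, Matrix.one_fin_two, Matrix.SpecialLinearGroup.coe_mul] at h'
    obtain ⟨⟨h1, h2⟩, -⟩ := h'
    subst h2
    rw [C.gA_zero, one_mul, h1, C.gH_one]
  · have h' := congrArg (fun g : Matrix.SpecialLinearGroup (Fin 2) F => (g : Matrix (Fin 2) (Fin 2) F)) h
    simp [gA, gH_fst, gN, slU_val, slH_val, slN_val, Matrix.mul_fin_two, Matrix.one_fin_two, Matrix.SpecialLinearGroup.coe_mul] at h'

theorem slGraph_fst_surj (r : Rt D) (g : Matrix.SpecialLinearGroup (Fin 2) F) :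
    ∃ y, (g, y) ∈ C.slGraph F r := by
  have hA : ∀ t : F, C.gA F r t ∈ C.slGraph F r := fun t => Subgroup.subset_closure (Or.inl ⟨_, rfl⟩)
  have hH : ∀ u : Fˣ, C.gH F r u ∈ C.slGraph F r := fun u => mul_mem (C.gN_mem F r u) (C.gN_mem F r _)
  obtain ⟨g, hg⟩ := g
  obtain ⟨a, b, c, d, rfl⟩ : ∃ a b c d : F, g = !![a, b; c, d] := ⟨_, _, _, _, Matrix.eta_fin_two g⟩
  rw [Matrix.det_fin_two_of] at hg
  by_cases hc : c = 0
  · have hd : a * d = 1 := by rw [hc, mul_zero, sub_zero] at hg; exact hg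
    refine ⟨(C.gA F r (a * b) * C.gH F r ⟨a, d, hd, by rw [mul_comm]; exact hd⟩).2, ?_⟩
    convert mul_mem (hA (a * b)) (hH ⟨a, d, hd, by rw [mul_comm]; exact hd⟩) using 1
    refine Prod.ext (Subtype.ext ?_) rfl
    simp [gA, gH_fst, slU_val, slH_val, Matrix.mul_fin_two, hc, Matrix.SpecialLinearGroup.coe_mul]
    linear_combination (-b) * hd
  · set u : Fˣ := -(Units.mk0 c hc)⁻¹ with hu
    refine ⟨(C.gA F r (a / c) * C.gH F r u * C.gN F r 1 * C.gA F r (d / c)).2, ?_⟩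
    convert mul_mem (mul_mem (mul_mem (hA (a / c)) (hH u)) (C.gN_mem F r 1)) (hA (d / c)) using 1
    refine Prod.ext (Subtype.ext ?_) rfl
    have hb : b = (a * d - 1) / c := by rw [eq_div_iff hc]; linear_combination -hg
    simp [gA, gH_fst, gN, slU_val, slH_val, slN_val, Matrix.mul_fin_two, hu, hb, Matrix.SpecialLinearGroup.coe_mul]
    refine ⟨⟨?_, ?_⟩, ?_⟩ <;> field_simp
    ring

/-- The homomorphism SL₂(F) → ⟨X_r, X_{-r}⟩. -/
theorem exists_slHom (r : Rt D) : ∃ φ : Matrix.SpecialLinearGroup (Fin 2) F →* GL D.Idx F,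
    φ.range = C.US F {r} ⊔ C.US F {r.rev} ∧
      ∀ t : F, φ (slU t) = C.X F r t ∧ φ (slL t) = C.X F r.rev t := by
  let π : C.slGraph F r →* Matrix.SpecialLinearGroup (Fin 2) F := (MonoidHom.fst _ _).comp (C.slGraph F r).subtype
  have hπ : Function.Bijective π := by
    refine ⟨(injective_iff_map_eq_one π).2 fun x hx => Subtype.ext (C.slGraph_inj F r x.2 hx), fun g => ?_⟩
    obtain ⟨y, hy⟩ := C.slGraph_fst_surj F r g
    exact ⟨⟨_, hy⟩, rfl⟩
  let e := MulEquiv.ofBijective π hπ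
  let φ : Matrix.SpecialLinearGroup (Fin 2) F →* GL D.Idx F :=
    ((MonoidHom.snd _ _).comp (C.slGraph F r).subtype).comp e.symm.toMonoidHom
  have hφ : ∀ (g : Matrix.SpecialLinearGroup (Fin 2) F) (y : GL D.Idx F), (g, y) ∈ C.slGraph F r → φ g = y := by
    intro g y h
    have : e.symm g = ⟨(g, y), h⟩ := e.symm_apply_eq.2 rfl
    simp [φ, this]
  refine ⟨φ, ?_, fun t => ⟨hφ _ _ (Subgroup.subset_closure (Or.inl ⟨t, rfl⟩)),
    hφ _ _ (Subgroup.subset_closure (Or.inr ⟨t, rfl⟩))⟩⟩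
  have hr : φ.range = (C.slGraph F r).map (MonoidHom.snd _ _) := by
    ext y
    constructor
    · rintro ⟨g, rfl⟩
      obtain ⟨y, hy⟩ := C.slGraph_fst_surj F r g
      exact ⟨_, hy, (hφ g y hy).symm⟩
    · rintro ⟨⟨g, y⟩, hy, rfl⟩
      exact ⟨g, hφ g y hy⟩
  rw [hr, slGraph, MonoidHom.map_closure, Set.image_union, Subgroup.closure_union, US, US]
  congr 2 <;> ext y
  · exact ⟨fun ⟨_, ⟨t, rfl⟩, h⟩ => ⟨r, rfl, t, h.symm⟩, fun ⟨s, hs, t, h⟩ => by
      subst hs; exact ⟨_, ⟨t, rfl⟩, h.symm⟩⟩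
  · exact ⟨fun ⟨_, ⟨t, rfl⟩, h⟩ => ⟨r.rev, rfl, t, h.symm⟩, fun ⟨s, hs, t, h⟩ => by
      subst hs; exact ⟨_, ⟨t, rfl⟩, h.symm⟩⟩

end Core

end Cfsg.Agent.Lib.ChevStructure
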