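import Cfsg.Agent.Lib.ChevStructure.BN

/-!
The Bruhat normal form g = b n_w u (b ∈ B, u in the subgroup of the inverted roots of w) with uniqueness,
and the resulting count of G.
-/

set_option autoImplicit false
set_option linter.unusedSectionVars false

namespace Cfsg.Agent.Lib.ChevStructure

open Cfsg.Lie
open scoped MatrixGroups Matrix Pointwise
open DoubleCoset

variable {D : ChevalleyDatum}

namespace Core

/-- The positive roots of index at least k. -/
def posFrom (C : Core D) (k : ℕ) : Set (Rt D) := {r | r ∈ C.Pos ∧ k ≤ r.val}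

/-- The chosen representative in N of an element of W. -/
noncomputable def rep (C : Core D) (R : Type*) [CommRing R] (σ : C.WG) : GL D.Idx R :=
  C.wprod R (C.mem_WG_iff.1 σ.2).choose

variable (C : Core D)
include C

theorem pprod_choose (σ : C.WG) : C.pprod (C.mem_WG_iff.1 σ.2).choose = σ :=
  (C.mem_WG_iff.1 σ.2).choose_spec

theorem acts_rep (R : Type*) [CommRing R] (σ : C.WG) : C.Acts (C.rep R σ) (σ : Equiv.Perm (Rt D)) := by
  have h := C.acts_wprod R (C.mem_WG_iff.1 σ.2).choose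
  rwa [C.pprod_choose] at h

theorem rep_mem {F : Type*} [Field F] (σ : C.WG) : C.rep F σ ∈ D.monomialSubgroup F := C.wprod_mem_monomial _

theorem WG_rev (σ : C.WG) (r : Rt D) : (σ : Equiv.Perm (Rt D)) r.rev = ((σ : Equiv.Perm (Rt D)) r).rev := by
  rw [← C.pprod_choose σ]; exact C.pprod_rev _ r

/-- The inversion set of an element of W is closed under sums. -/
theorem inv'_closed (σ : C.WG) {r s q : Rt D} {i j : ℕ} (hr : r ∈ C.inv' (σ : Equiv.Perm (Rt D)))
    (hs : s ∈ C.inv' (σ : Equiv.Perm (Rt D))) (hj : 1 ≤ j)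
    (hv : C.v q = (i : ℤ) • C.v r + (j : ℤ) • C.v s) : q ∈ C.inv' (σ : Equiv.Perm (Rt D)) := by
  have hht := C.ht_combo hv
  have h1 := C.ht_pos hr.1
  have h2 := C.ht_pos hs.1
  have h3 := C.ht_neg hr.2
  have h4 := C.ht_neg hs.2
  have hj' : (1 : ℤ) ≤ (j : ℤ) := by exact_mod_cast hj
  have hi' : (0 : ℤ) ≤ (i : ℤ) := Int.natCast_nonneg i
  constructor
  · rw [C.pos_iff_ht, hht]; nlinarith
  · have e : C.v ((σ : Equiv.Perm (Rt D)) q) =
        (i : ℤ) • C.v ((σ : Equiv.Perm (Rt D)) r) + (j : ℤ) • C.v ((σ : Equiv.Perm (Rt D)) s) := by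
      funext m
      rw [← C.pprod_choose σ, C.pprod_v, hv, Pi.add_apply, Pi.smul_apply, Pi.smul_apply, C.pprod_v _ r m,
        C.pprod_v _ s m]
      simp only [Pi.add_apply, Pi.smul_apply, smul_eq_mul, add_mul, Finset.mul_sum,
        Finset.sum_add_distrib, mul_assoc]
    rw [C.neg_iff_ht, C.ht_combo e]; nlinarith

theorem absorb_posFrom (k : Rt D) (hk : k ∈ C.Pos) : C.Absorb k (C.posFrom (k.val + 1)) := by
  refine ⟨fun h => (C.neg_iff_not_pos _).1 (C.rev_neg hk) h.1, fun s hs _ q i j hi hj hv => ?_⟩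
  have hht := C.ht_combo hv
  have h1 := C.ht_pos hk
  have h2 := C.ht_pos hs.1
  have hi' : (1 : ℤ) ≤ (i : ℤ) := by exact_mod_cast hi
  have hj' : (1 : ℤ) ≤ (j : ℤ) := by exact_mod_cast hj
  have hlt : s < q := C.lt_of_ht_lt (by rw [hht]; nlinarith)
  refine ⟨(C.pos_iff_ht q).2 (by rw [hht]; nlinarith), ?_⟩
  have := hs.2
  have := Fin.lt_def.1 hlt
  omega

end Core

namespace CommOK

variable {C : Core D} (H : CommOK C) {R : Type*} [CommRing R]
include H

/-- If every positive root is in A or in S then U = (US A)(US S). -/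
theorem exists_factor {A S : Set (Rt D)} (hAS : C.Pos ⊆ A ∪ S) {g : GL D.Idx R}
    (hg : g ∈ C.US R C.Pos) : ∃ a ∈ C.US R (A ∩ C.Pos), ∃ b ∈ C.US R (S ∩ C.Pos), g = a * b := by
  have key : ∀ d k : ℕ, k + d = D.nroots → ∀ g : GL D.Idx R, g ∈ C.US R (C.posFrom k) →
      ∃ a ∈ C.US R (A ∩ C.posFrom k), ∃ b ∈ C.US R (S ∩ C.posFrom k), g = a * b := by
    intro d
    induction d with
    | zero =>
      intro k hk g hg
      have hbot : C.US R (C.posFrom k) ≤ ⊥ := (Subgroup.closure_le _).2 fun x ⟨r, hr, _⟩ => by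
        have := hr.2; have := r.isLt; omega
      exact ⟨1, one_mem _, 1, one_mem _, by simpa using hbot hg⟩
    | succ d ih =>
      intro k hk g hg
      have ih' := ih (k + 1) (by omega)
      have hk' : k < D.nroots := by omega
      set r : Rt D := ⟨k, hk'⟩ with hr
      have hmono : C.posFrom (k + 1) ⊆ C.posFrom k := fun s hs => ⟨hs.1, by have := hs.2; omega⟩
      by_cases hp : r ∈ C.Pos
      · have hN : C.US R {r} ≤ Subgroup.normalizer (C.US R (C.posFrom (k + 1)) : Set (GL D.Idx R)) := by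
          refine (Subgroup.closure_le _).2 ?_
          rintro g ⟨s, rfl, t, rfl⟩
          exact H.mem_normalizer (C.absorb_posFrom r hp) t
        have hle : C.US R (C.posFrom k) ≤ C.US R {r} ⊔ C.US R (C.posFrom (k + 1)) := by
          refine (Subgroup.closure_le _).2 ?_
          rintro g ⟨s, hs, t, rfl⟩
          by_cases h : s = r
          · exact Subgroup.mem_sup_left (C.X_mem_US R (S := {r}) h t)
          · refine Subgroup.mem_sup_right (C.X_mem_US R (S := C.posFrom (k + 1)) ⟨hs.1, ?_⟩ t)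
            have := hs.2
            have : s.val ≠ k := fun e => h (Fin.ext e)
            omega
        have hg' := hle hg
        rw [← SetLike.mem_coe, Subgroup.coe_mul_of_left_le_normalizer_right _ _ hN, Set.mem_mul] at hg'
        obtain ⟨x, hx, g', hg', rfl⟩ := hg'
        obtain ⟨t, rfl⟩ := C.mem_US_singleton hx
        obtain ⟨a, ha, b, hb, rfl⟩ := ih' g' hg'
        have up : ∀ T, C.US R (T ∩ C.posFrom (k + 1)) ≤ C.US R (T ∩ C.posFrom k) := fun T =>
          C.US_mono R (Set.inter_subset_inter_right _ hmono)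
        rcases hAS hp with hA | hS
        · exact ⟨_, mul_mem (C.X_mem_US R (S := A ∩ C.posFrom k) ⟨hA, hp, le_rfl⟩ t) (up A ha), b, up S hb,
            by rw [mul_assoc]⟩
        · have hconj : C.X R r t * a * (C.X R r t)⁻¹ ∈ C.US R (C.posFrom (k + 1)) :=
            (Subgroup.mem_normalizer_iff.1 (hN (C.X_mem_US R (S := {r}) rfl t)) a).1
              (C.US_mono R Set.inter_subset_right ha)
          obtain ⟨a', ha', b', hb', e⟩ := ih' _ hconj
          refine ⟨a', up A ha', b' * C.X R r t * b, mul_mem (mul_mem (up S hb')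
            (C.X_mem_US R (S := S ∩ C.posFrom k) ⟨hS, hp, le_rfl⟩ t)) (up S hb), ?_⟩
          calc C.X R r t * (a * b) = C.X R r t * a * (C.X R r t)⁻¹ * (C.X R r t * b) := by group
            _ = _ := by rw [e]; group
      · have heq : C.posFrom k = C.posFrom (k + 1) := by
          refine Set.Subset.antisymm (fun s hs => ⟨hs.1, ?_⟩) hmono
          have := hs.2
          have : s.val ≠ k := fun e => hp ((Fin.ext e : s = r) ▸ hs.1)
          omega
        rw [heq] at hg ⊢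
        exact ih' g hg
  have h0 : C.posFrom 0 = C.Pos := Set.ext fun r => ⟨fun h => h.1, fun h => ⟨h, Nat.zero_le _⟩⟩
  obtain ⟨a, ha, b, hb, e⟩ := key D.nroots 0 (by omega) g (by rwa [h0])
  rw [h0] at ha hb
  exact ⟨a, ha, b, hb, e⟩

/-- The order of the group of a closed set of positive roots. -/
theorem card_US {S : Set (Rt D)} (hS : S ⊆ C.Pos)
    (hcl : ∀ r ∈ S, ∀ s ∈ S, ∀ (q : Rt D) (i j : ℕ), 1 ≤ i → 1 ≤ j →
      C.v q = (i : ℤ) • C.v r + (j : ℤ) • C.v s → q ∈ S) :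
    Nat.card (C.US R S) = Nat.card R ^ S.ncard := by
  classical
  set L := C.posL.filter fun r => decide (r ∈ S) with hL
  have hmem : ∀ r, r ∈ L ↔ r ∈ S := by
    intro r; simp [hL, C.mem_posL]; exact fun h => hS h
  have hset : {r | r ∈ L} = S := Set.ext hmem
  have hsort : L.Pairwise (· < ·) := C.posL_sorted.filter _
  let ext0 : (S → R) → Rt D → R := fun t r => if h : r ∈ S then t ⟨r, h⟩ else 0
  let f : (S → R) → C.US R S := fun t => ⟨C.wordX R L (ext0 t), C.wordX_mem R (fun r hr => (hmem r).1 hr) _⟩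
  have hf : Function.Bijective f := by
    refine ⟨fun t t' h => funext fun ⟨r, hr⟩ => ?_, fun ⟨g, hg⟩ => ?_⟩
    · have := C.wordX_unique R hsort (fun r hr => hS ((hmem r).1 hr)) (congrArg Subtype.val h) r
        ((hmem r).2 hr)
      simpa [ext0, hr] using this
    · obtain ⟨t, rfl⟩ := H.exists_word (R := R) hsort (fun r hr => hS ((hmem r).1 hr))
        (fun r hr s hs q i j hi hj hv => (hmem q).2 (hcl r ((hmem r).1 hr) s ((hmem s).1 hs) q i j hi hj hv))
        (by rw [hset]; exact hg)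
      exact ⟨fun r => t r.1, Subtype.ext (C.wordX_congr R fun r hr => by simp [ext0, (hmem r).1 hr])⟩
  rw [← Nat.card_congr (Equiv.ofBijective f hf), Nat.card_fun, Nat.card_coe_set_eq]

theorem card_US_inv' (σ : C.WG) :
    Nat.card (C.US R (C.inv' (σ : Equiv.Perm (Rt D)))) = Nat.card R ^ C.len (σ : Equiv.Perm (Rt D)) :=
  H.card_US (fun _ h => h.1) fun _ hr _ hs _ _ _ _ hj hv => C.inv'_closed σ hr hs hj hv

variable {F : Type*} [Field F]

/-- Existence of the normal form. -/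
theorem exists_normalForm {g : GL D.Idx F} (hg : g ∈ D.group F) :
    ∃ σ : C.WG, ∃ b ∈ D.borelSubgroup F, ∃ u ∈ C.US F (C.inv' (σ : Equiv.Perm (Rt D))),
      g = b * C.rep F σ * u := by
  obtain ⟨n, hn, hgn⟩ := H.exists_bruhat hg
  obtain ⟨x, hx, y, hy, rfl⟩ := mem_doubleCoset.1 hgn
  let σ : C.WG := C.wHom ⟨n, hn⟩
  have hd : n * (C.rep F σ)⁻¹ ∈ D.diagonalSubgroup F := by
    refine C.mem_diagonal_of_acts_one (mul_mem hn (inv_mem (C.rep_mem σ))) ?_
    have := C.acts_mul F (C.acts_wOf ⟨n, hn⟩) (C.acts_inv F (C.acts_rep F σ))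
    rwa [show (C.wOf ⟨n, hn⟩ : C.WG) = σ from rfl, mul_inv_cancel] at this
  obtain ⟨v, hv, k, hk, rfl⟩ := C.mem_borel_iff.1 hy
  have hv' : k⁻¹ * v * k ∈ C.US F C.Pos := by
    have := (Subgroup.mem_normalizer_iff.1 (C.diag_le_normalizer C.Pos (inv_mem hk)) v).1 hv
    simpa using this
  obtain ⟨a, ha, u, hu, e⟩ := H.exists_factor (A := {r | (σ : Equiv.Perm (Rt D)) r ∈ C.Pos})
    (S := {r | (σ : Equiv.Perm (Rt D)) r ∈ C.Neg}) (fun r _ => (em _).imp_right (C.neg_iff_not_pos _).2) hv'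
  have ha' : C.rep F σ * a * (C.rep F σ)⁻¹ ∈ D.borelSubgroup F :=
    C.posUS_le_borel (C.conj_mem_US F (C.acts_rep F σ) (fun r hr => hr.1) ha)
  have hk' : C.rep F σ * k * (C.rep F σ)⁻¹ ∈ D.borelSubgroup F :=
    C.diagonal_le_borel (C.conj_diagonal (C.rep_mem σ) hk)
  refine ⟨σ, x * (n * (C.rep F σ)⁻¹) * (C.rep F σ * k * (C.rep F σ)⁻¹) * (C.rep F σ * a * (C.rep F σ)⁻¹),
    mul_mem (mul_mem (mul_mem hx (C.diagonal_le_borel hd)) hk') ha', u,
    C.US_mono F (fun r (hr : r ∈ _ ∩ C.Pos) => (⟨hr.2, hr.1⟩ : r ∈ C.inv' (σ : Equiv.Perm (Rt D)))) hu, ?_⟩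
  calc x * n * (v * k) = x * n * k * (k⁻¹ * v * k) := by group
    _ = x * n * k * (a * u) := by rw [e]
    _ = _ := by group

/-- Uniqueness of the normal form. -/
theorem normalForm_unique {σ τ : C.WG} {b c u v : GL D.Idx F} (hb : b ∈ D.borelSubgroup F)
    (hc : c ∈ D.borelSubgroup F) (hu : u ∈ C.US F (C.inv' (σ : Equiv.Perm (Rt D))))
    (hv : v ∈ C.US F (C.inv' (τ : Equiv.Perm (Rt D)))) (e : b * C.rep F σ * u = c * C.rep F τ * v) :
    σ = τ ∧ b = c ∧ u = v := by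
  have huB : u ∈ D.borelSubgroup F := C.posUS_le_borel (C.US_mono F (fun _ h => h.1) hu)
  have hvB : v ∈ D.borelSubgroup F := C.posUS_le_borel (C.US_mono F (fun _ h => h.1) hv)
  have e' : C.rep F τ = c⁻¹ * b * C.rep F σ * (u * v⁻¹) := by
    calc C.rep F τ = c⁻¹ * (c * C.rep F τ * v) * v⁻¹ := by group
      _ = _ := by rw [← e]; group
  have hd := H.bruhat_unique (C.rep_mem σ) (C.rep_mem τ) (mul_mem (inv_mem hc) hb)
    (mul_mem huB (inv_mem hvB)) e'
  have hστ : σ = τ := by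
    refine Subtype.ext (inv_mul_eq_one.1 (C.acts_unique F
      (C.acts_mul F (C.acts_inv F (C.acts_rep F σ)) (C.acts_rep F τ)) (C.acts_diagonal hd)))
  subst hστ
  have hz : C.rep F σ * (u * v⁻¹) * (C.rep F σ)⁻¹ = b⁻¹ * c := by
    calc C.rep F σ * (u * v⁻¹) * (C.rep F σ)⁻¹
        = b⁻¹ * (b * C.rep F σ * u) * v⁻¹ * (C.rep F σ)⁻¹ := by group
      _ = _ := by rw [e]; group
  have hV : C.rep F σ * (u * v⁻¹) * (C.rep F σ)⁻¹ ∈ C.US F C.Neg :=
    C.conj_mem_US F (C.acts_rep F σ) (fun r hr => hr.2) (mul_mem hu (inv_mem hv))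
  have h1 : C.rep F σ * (u * v⁻¹) * (C.rep F σ)⁻¹ = 1 := by
    rw [← Subgroup.mem_bot, ← C.borel_inf_negUS]
    refine Subgroup.mem_inf.2 ⟨?_, hV⟩
    rw [hz]
    exact mul_mem (inv_mem hb) hc
  refine ⟨rfl, ?_, ?_⟩
  · rwa [hz, inv_mul_eq_one] at h1
  · rwa [mul_inv_eq_one, mul_eq_left, mul_inv_eq_one] at h1

/-- Two elements of H conjugate in G are conjugate in N. -/
theorem diagonal_conj {h₁ h₂ g : GL D.Idx F} (h1 : h₁ ∈ D.diagonalSubgroup F)
    (h2 : h₂ ∈ D.diagonalSubgroup F) (hg : g ∈ D.group F) (hc : g * h₁ * g⁻¹ = h₂) :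
    ∃ n ∈ D.monomialSubgroup F, n * h₁ * n⁻¹ = h₂ := by
  obtain ⟨σ, b, hb, u, hu, rfl⟩ := H.exists_normalForm hg
  refine ⟨C.rep F σ, C.rep_mem σ, ?_⟩
  set n := C.rep F σ
  have hu' : h₁⁻¹ * u * h₁ ∈ C.US F (C.inv' (σ : Equiv.Perm (Rt D))) := by
    have := (Subgroup.mem_normalizer_iff.1 (C.diag_le_normalizer _ (inv_mem h1)) u).1 hu
    simpa using this
  have hk := C.conj_diagonal (C.rep_mem σ) h1
  have e : h₂ * b * n * u = b * (n * h₁ * n⁻¹) * n * (h₁⁻¹ * u * h₁) := by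
    calc h₂ * b * n * u = (b * n * u) * h₁ * (b * n * u)⁻¹ * (b * n * u) := by rw [hc]; group
      _ = _ := by group
  obtain ⟨-, e2, -⟩ := H.normalForm_unique (mul_mem (C.diagonal_le_borel h2) hb)
    (mul_mem hb (C.diagonal_le_borel hk)) hu hu' e
  obtain ⟨v, hv, k, hkd, rfl⟩ := C.mem_borel_iff.1 hb
  obtain ⟨c₁, hc₁⟩ := C.mem_diagonal_iff.1 hk
  obtain ⟨c₂, hc₂⟩ := C.mem_diagonal_iff.1 hkd
  have hcomm : k * (n * h₁ * n⁻¹) = n * h₁ * n⁻¹ * k := by
    rw [hc₁, hc₂, C.HT_mul, C.HT_mul, mul_comm]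
  rw [mul_assoc v k, hcomm, ← mul_assoc, ← mul_assoc] at e2
  have e3 : v⁻¹ * (h₂ * v * h₂⁻¹) = n * h₁ * n⁻¹ * h₂⁻¹ := by
    rw [← mul_assoc v⁻¹, ← mul_assoc v⁻¹, mul_assoc v⁻¹ h₂ v, mul_right_cancel e2]
    group
  have hz : n * h₁ * n⁻¹ * h₂⁻¹ ∈ C.US F C.Pos ⊓ D.diagonalSubgroup F := by
    refine Subgroup.mem_inf.2 ⟨?_, mul_mem hk (inv_mem h2)⟩
    rw [← e3]
    exact mul_mem (inv_mem hv)
      ((Subgroup.mem_normalizer_iff.1 (C.diag_le_normalizer C.Pos h2) v).1 hv)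
  rw [C.US_inf_diagonal, Subgroup.mem_bot, mul_inv_eq_one] at hz
  exact hz

theorem card_borel : Nat.card (D.borelSubgroup F) = Nat.card F ^ (D.nroots / 2) * Nat.card (D.diagonalSubgroup F) := by
  rw [← H.card_posUS F, ← Nat.card_prod]
  refine (Nat.card_congr (Equiv.ofBijective (fun x : C.US F C.Pos × D.diagonalSubgroup F =>
    (⟨x.1.1 * x.2.1, C.mem_borel_iff.2 ⟨_, x.1.2, _, x.2.2, rfl⟩⟩ : D.borelSubgroup F)) ⟨?_, ?_⟩)).symm
  · intro x y hxy
    refine Subgroup.mul_injective_of_disjoint (disjoint_iff.2 C.US_inf_diagonal) ?_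
    exact congrArg Subtype.val hxy
  · rintro ⟨g, hg⟩
    obtain ⟨u, hu, k, hk, rfl⟩ := C.mem_borel_iff.1 hg
    exact ⟨(⟨u, hu⟩, ⟨k, hk⟩), rfl⟩

/-- |G| = |B| Σ_w q^l(w). -/
theorem card_group [Finite F] [Fintype C.WG] : Nat.card (D.group F) =
    Nat.card (D.borelSubgroup F) * ∑ σ : C.WG, Nat.card F ^ C.len (σ : Equiv.Perm (Rt D)) := by
  rw [Finset.mul_sum]
  have e : ∀ σ : C.WG, Nat.card (D.borelSubgroup F) * Nat.card F ^ C.len (σ : Equiv.Perm (Rt D)) =
      Nat.card (D.borelSubgroup F × C.US F (C.inv' (σ : Equiv.Perm (Rt D)))) := fun σ => by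
    rw [Nat.card_prod, H.card_US_inv' σ]
  simp only [e]
  have : Finite (GL D.Idx F) := inferInstance
  rw [← Nat.card_sigma]
  refine (Nat.card_congr (Equiv.ofBijective
    (fun x : Σ σ : C.WG, D.borelSubgroup F × C.US F (C.inv' (σ : Equiv.Perm (Rt D))) =>
      (⟨x.2.1.1 * C.rep F x.1 * x.2.2.1, mul_mem (mul_mem (C.borel_le_group x.2.1.2)
        (C.monomial_le_group (C.rep_mem x.1))) (C.US_le_group _ x.2.2.2)⟩ : D.group F)) ⟨?_, ?_⟩)).symm
  · rintro ⟨σ, ⟨b, hb⟩, ⟨u, hu⟩⟩ ⟨τ, ⟨c, hc⟩, ⟨v, hv⟩⟩ h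
    obtain ⟨rfl, rfl, rfl⟩ := H.normalForm_unique hb hc hu hv (congrArg Subtype.val h)
    rfl
  · rintro ⟨g, hg⟩
    obtain ⟨σ, b, hb, u, hu, rfl⟩ := H.exists_normalForm hg
    exact ⟨⟨σ, ⟨b, hb⟩, ⟨u, hu⟩⟩, rfl⟩

end CommOK

end Cfsg.Agent.Lib.ChevStructure
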