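import Cfsg.Agent.Lib.ChevStructure.WeylN
import Cfsg.Agent.Lib.BNPair.Basic

/-!
The (B, N)-pair of a Chevalley group: X_{±p} normalise U_p, the double coset rule, the Bruhat
decomposition, the subgroups over B, and the trivial core of B.
-/

set_option autoImplicit false
set_option linter.unusedSectionVars false

namespace Cfsg.Agent.Lib.ChevStructure

open Cfsg.Lie
open scoped MatrixGroups Matrix Pointwise
open DoubleCoset

variable {D : ChevalleyDatum}

namespace Core

/-- The positive roots other than p_i. -/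
def posBut (C : Core D) (i : Fin D.rank) : Set (Rt D) := C.Pos \ {C.p i}

variable (C : Core D)
include C

theorem mem_US_singleton {R : Type*} [CommRing R] {r : Rt D} {g : GL D.Idx R} (h : g ∈ C.US R {r}) :
    ∃ t, g = C.X R r t := by
  induction h using Subgroup.closure_induction with
  | mem x hx => obtain ⟨s, rfl, t, rfl⟩ := hx; exact ⟨t, rfl⟩
  | one => exact ⟨0, (C.X_zero R r).symm⟩
  | mul x y _ _ hx hy =>
    obtain ⟨t, rfl⟩ := hx; obtain ⟨u, rfl⟩ := hy
    exact ⟨t + u, C.X_add R r t u⟩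
  | inv x _ hx => obtain ⟨t, rfl⟩ := hx; exact ⟨-t, C.X_inv R r t⟩

theorem combo_mem_posBut {i : Fin D.rank} {r s q : Rt D} {a b : ℕ} (hr : ∀ m, m ≠ i → C.v r m = 0)
    (hb : 1 ≤ b) (hs : s ∈ C.posBut i) (hv : C.v q = (a : ℤ) • C.v r + (b : ℤ) • C.v s) :
    q ∈ C.posBut i := by
  obtain ⟨hsp, hne⟩ := hs
  obtain ⟨m, hm, hpos⟩ := C.exists_other_coord hsp hne
  have hq : 0 < C.v q m := by
    rw [hv]
    simp only [Pi.add_apply, Pi.smul_apply, smul_eq_mul, hr m hm, mul_zero, zero_add]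
    positivity
  refine ⟨C.pos_of_coord hq, fun hqp => ?_⟩
  rw [Set.mem_singleton_iff] at hqp
  rw [hqp, C.v_p, Pi.single_apply, if_neg hm] at hq
  exact lt_irrefl 0 hq

theorem absorb_p (i : Fin D.rank) : C.Absorb (C.p i) (C.posBut i) :=
  ⟨fun h => (C.neg_iff_not_pos _).1 (C.rev_neg (C.p_pos i)) h.1, fun _ hs _ _ _ _ _ hb hv =>
    C.combo_mem_posBut (fun m hm => by simp [C.v_p, hm]) hb hs hv⟩

theorem absorb_p_rev (i : Fin D.rank) : C.Absorb (C.p i).rev (C.posBut i) :=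
  ⟨fun h => h.2 (C.rev_rev (C.p i)), fun _ hs _ _ _ _ _ hb hv =>
    C.combo_mem_posBut (fun m hm => by simp [C.v_rev, C.v_p, hm]) hb hs hv⟩

theorem w_posBut {i : Fin D.rank} {r : Rt D} (h : r ∈ C.posBut i) : C.w i r ∈ C.posBut i :=
  ⟨C.w_pos h.1 h.2, C.w_ne_p h.1⟩

end Core

namespace CommOK

variable {C : Core D} (H : CommOK C) {R : Type*} [CommRing R]
include H

theorem root_le_normalizer (i : Fin D.rank) :
    C.US R {C.p i} ⊔ C.US R {(C.p i).rev} ≤ Subgroup.normalizer (C.US R (C.posBut i) : Set (GL D.Idx R)) := by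
  refine sup_le ((Subgroup.closure_le _).2 ?_) ((Subgroup.closure_le _).2 ?_) <;>
    rintro g ⟨r, rfl, t, rfl⟩
  · exact H.mem_normalizer (C.absorb_p i) t
  · exact H.mem_normalizer (C.absorb_p_rev i) t

theorem posBut_sup (i : Fin D.rank) : C.US R (C.posBut i) ⊔ C.US R {C.p i} = C.US R C.Pos := by
  refine le_antisymm (sup_le (C.US_mono R Set.sdiff_subset)
    (C.US_mono R (Set.singleton_subset_iff.2 (C.p_pos i)))) ((Subgroup.closure_le _).2 ?_)
  rintro g ⟨r, hr, t, rfl⟩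
  by_cases h : r = C.p i
  · exact Subgroup.mem_sup_right (C.X_mem_US R (S := {C.p i}) h t)
  · exact Subgroup.mem_sup_left (C.X_mem_US R (S := C.posBut i) ⟨hr, h⟩ t)

theorem exists_split_p (i : Fin D.rank) {u : GL D.Idx R} (hu : u ∈ C.US R C.Pos) :
    ∃ a ∈ C.US R (C.posBut i), ∃ t, u = a * C.X R (C.p i) t := by
  rw [← H.posBut_sup i, ← SetLike.mem_coe, Subgroup.coe_mul_of_right_le_normalizer_left _ _
    (le_sup_left.trans (H.root_le_normalizer i)), Set.mem_mul] at hu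
  obtain ⟨a, ha, b, hb, rfl⟩ := hu
  obtain ⟨t, rfl⟩ := C.mem_US_singleton hb
  exact ⟨a, ha, t, rfl⟩

variable {F : Type*} [Field F]

/-- The double coset rule n_p B n ⊆ B n_p n B ∪ B n B. -/
theorem step (i : Fin D.rank) {n b : GL D.Idx F} (hn : n ∈ D.monomialSubgroup F)
    (hb : b ∈ D.borelSubgroup F) :
    C.P F i * b * n ∈ doubleCoset (C.P F i * n) (D.borelSubgroup F : Set (GL D.Idx F)) (D.borelSubgroup F) ∪
      doubleCoset n (D.borelSubgroup F : Set (GL D.Idx F)) (D.borelSubgroup F) := by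
  obtain ⟨v, hv, k, hk, rfl⟩ := C.mem_borel_iff.1 hb
  obtain ⟨a, ha, t, rfl⟩ := H.exists_split_p i hv
  obtain ⟨c, rfl⟩ := C.mem_diagonal_iff.1 hk
  obtain ⟨c', hc'⟩ := C.P_HT F i c
  obtain ⟨σ, -, hσ⟩ := C.exists_acts (mul_mem (C.HT_mem_monomial c) hn)
  have hP : C.Acts (C.P F i) (C.sref i) := by simpa [Core.wprod, Core.pprod] using C.acts_wprod F [i]
  have hB : ∀ c, C.HT F c ∈ D.borelSubgroup F := fun c => C.diagonal_le_borel (C.HT_mem_diagonal c)
  have ha' : C.P F i * a * (C.P F i)⁻¹ ∈ D.borelSubgroup F :=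
    C.posUS_le_borel (C.conj_mem_US F hP (fun r hr => (C.w_posBut hr).1) ha)
  by_cases hpos : σ⁻¹ (C.p i) ∈ C.Pos ∨ t = 0
  · left
    have hy : (C.HT F c * n)⁻¹ * C.X F (C.p i) t * (C.HT F c * n) ∈ D.borelSubgroup F := by
      rcases hpos with hpos | rfl
      · obtain ⟨e, he⟩ := C.acts_inv F hσ (C.p i)
        have := he t
        rw [inv_inv] at this
        rw [this]
        exact C.X_mem_borel hpos _
      · rw [C.X_zero]; simp
    rw [mem_doubleCoset]
    refine ⟨C.P F i * a * (C.P F i)⁻¹ * C.HT F c', mul_mem ha' (hB c'), _, hy, ?_⟩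
    calc C.P F i * (a * C.X F (C.p i) t * C.HT F c) * n
        = C.P F i * a * (C.P F i)⁻¹ * (C.P F i * C.HT F c) * n *
          ((C.HT F c * n)⁻¹ * C.X F (C.p i) t * (C.HT F c * n)) := by group
      _ = _ := by rw [hc']; group
  · right
    push Not at hpos
    obtain ⟨hneg, ht⟩ := hpos
    set u : Fˣ := (Units.mk0 t ht)⁻¹ with hu
    obtain ⟨d, hd⟩ := C.nR_p F i u
    obtain ⟨d', hd'⟩ := C.P_sq F i
    have hX : C.P F i * C.X F (C.p i) t * (C.P F i)⁻¹ =
        C.X F (C.p i) (-(u : F)) * (C.HT F d * C.P F i) * C.X F (C.p i) (-(u : F)) := by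
      rw [C.P_X_conj, C.w_p, C.η_p, ← hd, Core.nR, mul_assoc, mul_assoc, mul_assoc, C.X_add, ← mul_assoc, C.X_add]
      simp [hu, C.X_zero]
    have hy : (C.P F i * (C.HT F c * n))⁻¹ * C.X F (C.p i) (-(u : F)) * (C.P F i * (C.HT F c * n))
        ∈ D.borelSubgroup F := by
      obtain ⟨e, he⟩ := C.acts_inv F (C.acts_mul F hP hσ) (C.p i)
      have := he (-(u : F))
      rw [inv_inv] at this
      rw [this]
      refine C.X_mem_borel ?_ _
      have e1 : (C.sref i * σ)⁻¹ (C.p i) = σ⁻¹ (C.w i (C.p i)) := by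
        rw [mul_inv_rev, inv_eq_of_mul_eq_one_right (C.sref_mul_self i)]; rfl
      rw [e1, C.w_p]
      have hrev : ∀ r, σ r.rev = (σ r).rev := by
        intro r
        obtain ⟨_, L, hL⟩ := C.exists_word_monomial (mul_mem (C.HT_mem_monomial c) hn)
        have : σ = C.pprod L := by
          refine C.acts_unique F hσ ?_
          rw [hL]; exact C.acts_HT_wprod F _ L
        rw [this]; exact C.pprod_rev L r
      have : σ⁻¹ (C.p i).rev = (σ⁻¹ (C.p i)).rev := by
        rw [Equiv.Perm.inv_eq_iff_eq, hrev, Equiv.Perm.inv_def, Equiv.apply_symm_apply]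
      rw [this]
      exact C.rev_pos ((C.neg_iff_not_pos _).2 hneg)
    rw [mem_doubleCoset]
    refine ⟨C.P F i * a * (C.P F i)⁻¹ * C.X F (C.p i) (-(u : F)) * C.HT F d * C.HT F d' * C.HT F c,
      mul_mem (mul_mem (mul_mem (mul_mem ha' (C.X_mem_borel (C.p_pos i) _)) (hB d)) (hB d')) (hB c), _, hy, ?_⟩
    calc C.P F i * (a * C.X F (C.p i) t * C.HT F c) * n
        = C.P F i * a * (C.P F i)⁻¹ * (C.P F i * C.X F (C.p i) t * (C.P F i)⁻¹) *
            (C.P F i * (C.HT F c * n)) := by group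
      _ = C.P F i * a * (C.P F i)⁻¹ * C.X F (C.p i) (-(u : F)) * C.HT F d * (C.P F i * C.P F i) *
            C.HT F c * n * ((C.P F i * (C.HT F c * n))⁻¹ * C.X F (C.p i) (-(u : F)) *
              (C.P F i * (C.HT F c * n))) := by rw [hX]; group
      _ = _ := by rw [hd']

end CommOK

namespace Core

variable (C : Core D) {F : Type*} [Field F]
include C

theorem P_mem_group (i : Fin D.rank) : C.P F i ∈ D.group F := C.nR_mem_group _ _

theorem monomial_eq : Subgroup.closure (Set.range (C.P F)) ⊔ D.diagonalSubgroup F = D.monomialSubgroup F := by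
  refine le_antisymm (sup_le ((Subgroup.closure_le _).2 ?_) le_sup_left) fun g hg => ?_
  · rintro g ⟨i, rfl⟩; exact C.P_mem_monomial i
  · obtain ⟨c, L, rfl⟩ := C.exists_word_monomial hg
    refine mul_mem (Subgroup.mem_sup_right (C.HT_mem_diagonal c)) (Subgroup.mem_sup_left (list_prod_mem ?_))
    intro g hg
    rw [List.mem_map] at hg
    obtain ⟨i, -, rfl⟩ := hg
    exact Subgroup.subset_closure ⟨i, rfl⟩

theorem P_injective_mod {i j : Fin D.rank} (h : (C.P F i)⁻¹ * C.P F j ∈ D.borelSubgroup F) : i = j := by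
  have hN : (C.P F i)⁻¹ * C.P F j ∈ D.monomialSubgroup F :=
    mul_mem (inv_mem (C.P_mem_monomial i)) (C.P_mem_monomial j)
  have hd : (C.P F i)⁻¹ * C.P F j ∈ D.diagonalSubgroup F := by rw [← C.borel_inf_monomial]; exact ⟨h, hN⟩
  have hP : ∀ k, C.Acts (C.P F k) (C.sref k) := fun k => by
    simpa [wprod, pprod] using C.acts_wprod F [k]
  have he := C.acts_unique F (C.acts_diagonal hd) (C.acts_mul F (C.acts_inv F (hP i)) (hP j))
  rw [eq_comm, inv_mul_eq_one] at he
  refine C.p_inj (C.eq_p_of_w_neg (C.p_pos i) ?_)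
  rw [← C.sref_apply, ← he, C.sref_apply, C.w_p]
  exact C.rev_neg (C.p_pos i)

theorem P_X_P_not_mem (i : Fin D.rank) : C.P F i * C.X F (C.p i) 1 * C.P F i ∉ D.borelSubgroup F := by
  intro h
  obtain ⟨c, hc⟩ := C.P_sq F i
  have hcB : C.HT F c ∈ D.borelSubgroup F := C.diagonal_le_borel (C.HT_mem_diagonal c)
  have h2 := mul_mem h (inv_mem hcB)
  rw [← hc, mul_inv_rev, ← mul_assoc, mul_inv_cancel_right, C.P_X_conj, C.w_p] at h2
  have := C.X_neg_mem_borel (C.rev_neg (C.p_pos i)) h2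
  simp [C.η_p] at this

theorem range_P : Set.range (C.P F) =
    {g : GL D.Idx F | ∃ i < D.rank, (g : Matrix D.Idx D.Idx F) = D.nMat F (D.simple i) 1} := by
  ext g
  constructor
  · rintro ⟨i, rfl⟩; exact ⟨i, i.2, (C.nMat_one i).symm⟩
  · rintro ⟨i, hi, hg⟩; exact ⟨⟨i, hi⟩, Units.ext ((C.nMat_one ⟨i, hi⟩).symm.trans hg.symm)⟩

theorem image_S : Subtype.val '' {n : ↥(D.group F) | ∃ i < D.rank,
    ((n : GL D.Idx F) : Matrix D.Idx D.Idx F) = D.nMat F (D.simple i) 1} = Set.range (C.P F) := by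
  rw [C.range_P]
  ext g
  constructor
  · rintro ⟨n, hn, rfl⟩; exact hn
  · intro hg
    have hg' := hg
    rw [← C.range_P] at hg'
    obtain ⟨j, rfl⟩ := hg'
    exact ⟨⟨C.P F j, C.P_mem_group j⟩, hg, rfl⟩

theorem S_eq {n : ↥(D.group F)} (hn : ∃ i < D.rank,
    ((n : GL D.Idx F) : Matrix D.Idx D.Idx F) = D.nMat F (D.simple i) 1) : ∃ i, (n : GL D.Idx F) = C.P F i := by
  have : (n : GL D.Idx F) ∈ Set.range (C.P F) := by rw [C.range_P]; exact hn
  obtain ⟨i, hi⟩ := this
  exact ⟨i, hi.symm⟩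

end Core

namespace CommOK

variable {C : Core D} (H : CommOK C) (F : Type*) [Field F]
include H

theorem mem_doubleCoset_group {x g : ↥(D.group F)}
    (h : (x : GL D.Idx F) ∈ doubleCoset (g : GL D.Idx F) (D.borelSubgroup F : Set (GL D.Idx F)) (D.borelSubgroup F)) :
    x ∈ doubleCoset g ((D.borelSubgroup F).subgroupOf (D.group F) : Set ↥(D.group F))
      ((D.borelSubgroup F).subgroupOf (D.group F)) := by
  obtain ⟨a, ha, b, hb, e⟩ := mem_doubleCoset.1 h
  exact mem_doubleCoset.2 ⟨⟨a, C.borel_le_group ha⟩, ha, ⟨b, C.borel_le_group hb⟩, hb, Subtype.ext e⟩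

/-- The (B, N)-pair of the Chevalley group. -/
noncomputable def bnPair : Cfsg.BNPair ↥(D.group F) where
  B := (D.borelSubgroup F).subgroupOf (D.group F)
  N := (D.monomialSubgroup F).subgroupOf (D.group F)
  S := {n | ∃ i < D.rank, ((n : GL D.Idx F) : Matrix D.Idx D.Idx F) = D.nMat F (D.simple i) 1}
  sup_eq_top := by
    rw [← Subgroup.subgroupOf_sup C.borel_le_group C.monomial_le_group, C.borel_sup_monomial,
      Subgroup.subgroupOf_self]
  conj_mem := by
    rintro n hn t ⟨htB, htN⟩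
    have hd : (t : GL D.Idx F) ∈ D.diagonalSubgroup F := by
      rw [← C.borel_inf_monomial]; exact ⟨htB, htN⟩
    exact C.diagonal_le_borel (C.conj_diagonal hn hd)
  subset := fun n hn => by
    obtain ⟨i, hi⟩ := C.S_eq hn
    show (n : GL D.Idx F) ∈ D.monomialSubgroup F
    rw [hi]; exact C.P_mem_monomial i
  sq_mem := fun n hn => by
    obtain ⟨i, hi⟩ := C.S_eq hn
    obtain ⟨c, hc⟩ := C.P_sq F i
    show (n : GL D.Idx F) * n ∈ D.borelSubgroup F
    rw [hi, hc]; exact C.diagonal_le_borel (C.HT_mem_diagonal c)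
  inj := fun n hn m hm h => by
    obtain ⟨i, hi⟩ := C.S_eq hn
    obtain ⟨j, hj⟩ := C.S_eq hm
    have h' : (n : GL D.Idx F)⁻¹ * m ∈ D.borelSubgroup F := h
    rw [hi, hj] at h'
    exact Subtype.ext (by rw [hi, hj, C.P_injective_mod h'])
  closure_sup := by
    apply Subgroup.map_injective (D.group F).subtype_injective
    rw [Subgroup.map_sup, MonoidHom.map_closure, Subgroup.coe_subtype, C.image_S,
      Subgroup.map_inf _ _ _ (D.group F).subtype_injective, Subgroup.map_subgroupOf_eq_of_le C.borel_le_group,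
      Subgroup.map_subgroupOf_eq_of_le C.monomial_le_group, C.borel_inf_monomial, C.monomial_eq]
  mul_mem_union := fun s hs n hn b hb => by
    obtain ⟨i, hi⟩ := C.S_eq hs
    have := H.step i (n := (n : GL D.Idx F)) (b := (b : GL D.Idx F)) hn hb
    rw [← hi] at this
    rcases this with h | h
    · exact Or.inl (H.mem_doubleCoset_group F h)
    · exact Or.inr (H.mem_doubleCoset_group F h)
  conj_ne := fun s hs h => by
    obtain ⟨i, hi⟩ := C.S_eq hs
    have hx : (⟨C.X F (C.p i) 1, C.X_mem_group _ _⟩ : ↥(D.group F)) ∈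
        ((D.borelSubgroup F).subgroupOf (D.group F) : Set ↥(D.group F)) := C.X_mem_borel (C.p_pos i) 1
    have h2 : s * (⟨C.X F (C.p i) 1, C.X_mem_group _ _⟩ : ↥(D.group F)) * s ∈
        ((D.borelSubgroup F).subgroupOf (D.group F) : Set ↥(D.group F)) := by
      rw [← h]; exact ⟨_, hx, rfl⟩
    refine C.P_X_P_not_mem (F := F) i ?_
    rw [← hi]
    exact h2

variable {F}

/-- Bruhat decomposition G = B N B. -/
theorem exists_bruhat {g : GL D.Idx F} (hg : g ∈ D.group F) :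
    ∃ n ∈ D.monomialSubgroup F,
      g ∈ doubleCoset n (D.borelSubgroup F : Set (GL D.Idx F)) (D.borelSubgroup F) := by
  obtain ⟨n, hn, hgn⟩ := Lib.BNPair.Basic.bruhat (P := H.bnPair F) ⟨g, hg⟩
  obtain ⟨a, ha, b, hb, e⟩ := Lib.BNPair.Basic.mem_cell_iff.1 hgn
  exact ⟨n, hn, mem_doubleCoset.2 ⟨a, ha, b, hb, congrArg Subtype.val e⟩⟩

/-- The Bruhat cells are disjoint. -/
theorem bruhat_unique {n m : GL D.Idx F} (hn : n ∈ D.monomialSubgroup F) (hm : m ∈ D.monomialSubgroup F)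
    {x y : GL D.Idx F} (hx : x ∈ D.borelSubgroup F) (hy : y ∈ D.borelSubgroup F) (e : m = x * n * y) :
    n⁻¹ * m ∈ D.diagonalSubgroup F := by
  have h : (⟨m, C.monomial_le_group hm⟩ : ↥(D.group F)) ∈
      Lib.BNPair.Basic.cell (H.bnPair F) ⟨n, C.monomial_le_group hn⟩ :=
    H.mem_doubleCoset_group F (mem_doubleCoset.2 ⟨x, hx, y, hy, e⟩)
  have h2 := (Lib.BNPair.Basic.mem_cell_iff_sameW (P := H.bnPair F) hn hm).1 h
  rw [← C.borel_inf_monomial]
  exact ⟨h2, (D.monomialSubgroup F).mul_mem ((D.monomialSubgroup F).inv_mem hn) hm⟩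

/-- The subgroups over B are the standard parabolic subgroups. -/
theorem eq_parabolic_of_borel_le {M : Subgroup (GL D.Idx F)} (h₁ : D.borelSubgroup F ≤ M)
    (h₂ : M ≤ D.group F) :
    M = D.parabolicSubgroup F {i : ℕ | ∃ hi : i < D.rank, C.P F ⟨i, hi⟩ ∈ M} := by
  have e := Lib.BNPair.Basic.eq_parabolic_of_B_le (P := H.bnPair F) (M := M.subgroupOf (D.group F))
    (fun x hx => h₁ hx)
  have e' := congrArg (Subgroup.map (D.group F).subtype) e
  rw [Subgroup.map_subgroupOf_eq_of_le h₂, Cfsg.BNPair.parabolic, Subgroup.map_sup,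
    MonoidHom.map_closure] at e'
  rw [show (H.bnPair F).B = (D.borelSubgroup F).subgroupOf (D.group F) from rfl,
    Subgroup.map_subgroupOf_eq_of_le C.borel_le_group] at e'
  conv_lhs => rw [e']
  rw [ChevalleyDatum.parabolicSubgroup]
  congr 2
  ext g
  constructor
  · rintro ⟨n, ⟨⟨i, hi, hni⟩, hnM⟩, rfl⟩
    refine ⟨i, ⟨hi, ?_⟩, hi, hni⟩
    have : (n : GL D.Idx F) = C.P F ⟨i, hi⟩ := Units.ext (hni.trans (C.nMat_one ⟨i, hi⟩))
    rw [← this]; exact hnM
  · rintro ⟨i, ⟨hi, hM⟩, -, hgi⟩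
    have : g = C.P F ⟨i, hi⟩ := Units.ext (hgi.trans (C.nMat_one ⟨i, hi⟩))
    exact ⟨⟨g, this ▸ C.P_mem_group _⟩, ⟨⟨i, hi, hgi⟩, show g ∈ M from this ▸ hM⟩, rfl⟩

end CommOK

namespace Core

variable (C : Core D) {F : Type*} [Field F]
include C

theorem X_mem_diagonal {r : Rt D} {t : F} (h : C.X F r t ∈ D.diagonalSubgroup F) : t = 0 := by
  rcases C.pos_or_neg r with hr | hr
  · refine C.X_eq_one (r := r) ?_
    rw [← Subgroup.mem_bot, ← C.US_inf_diagonal]
    exact ⟨C.X_mem_US F ((C.pos_iff r).1 hr) t, h⟩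
  · exact C.X_neg_mem_borel ((C.negr_iff r).1 hr) (C.diagonal_le_borel h)

/-- The core of B in G is trivial. -/
theorem borel_core : ((D.borelSubgroup F).subgroupOf (D.group F)).normalCore = ⊥ := by
  set K := ((D.borelSubgroup F).subgroupOf (D.group F)).normalCore
  have hB : ∀ x ∈ K, (x : GL D.Idx F) ∈ D.borelSubgroup F := fun x hx => Subgroup.normalCore_le ((D.borelSubgroup F).subgroupOf (D.group F)) hx
  have hH : ∀ x ∈ K, (x : GL D.Idx F) ∈ D.diagonalSubgroup F := by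
    intro x hx
    obtain ⟨L, -, hLV⟩ := C.exists_opposition (F := F)
    let n : ↥(D.group F) := ⟨C.wprod F L, C.monomial_le_group (C.wprod_mem_monomial L)⟩
    have hy := hB _ ((Subgroup.normalCore_normal _).conj_mem x hx n⁻¹)
    obtain ⟨v, hv, k, hk, e⟩ := C.mem_borel_iff.1 hy
    have ex : (x : GL D.Idx F) = C.wprod F L * v * (C.wprod F L)⁻¹ *
        (C.wprod F L * k * (C.wprod F L)⁻¹) := by
      calc (x : GL D.Idx F) = C.wprod F L * ((n⁻¹ * x * n⁻¹⁻¹ : ↥(D.group F)) : GL D.Idx F) * (C.wprod F L)⁻¹ := by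
            simp [n, mul_assoc]
        _ = _ := by rw [e]; group
    rw [← C.borel_inf_negUS_sup]
    refine ⟨hB x hx, ?_⟩
    rw [ex]
    refine mul_mem (Subgroup.mem_sup_left ?_) (Subgroup.mem_sup_right
      (C.conj_diagonal (C.wprod_mem_monomial L) hk))
    rw [← hLV]
    exact ⟨v, hv, rfl⟩
  refine eq_bot_iff.2 fun x hx => ?_
  rw [Subgroup.mem_bot]
  obtain ⟨c, hc⟩ := C.mem_diagonal_iff.1 (hH x hx)
  have hχ : ∀ r, C.chA c r = 1 := by
    intro r
    let y : ↥(D.group F) := ⟨C.X F r 1, C.X_mem_group r 1⟩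
    have h1 := hH _ ((Subgroup.normalCore_normal _).conj_mem x hx y)
    have h2 := mul_mem h1 (inv_mem (hH x hx))
    have e : ((y * x * y⁻¹ : ↥(D.group F)) : GL D.Idx F) * (x : GL D.Idx F)⁻¹ =
        C.X F r (1 + -(C.chA c r : F)) := by
      have hh : C.X F r (-(C.chA c r : F)) = C.HT F c * C.X F r (-1) * (C.HT F c)⁻¹ := by
        rw [C.HT_X_conj, mul_neg_one]
      rw [← C.X_add, hh]
      simp [y, hc, C.X_inv, mul_assoc]
    rw [e] at h2
    have := C.X_mem_diagonal h2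
    refine Units.ext ?_
    rw [Units.val_one]
    linear_combination -this
  refine Subtype.ext (hc.trans ?_)
  rw [Subgroup.coe_one, HT, ← C.diag_one]
  congr 1
  funext s
  exact hχ s

end Core

end Cfsg.Agent.Lib.ChevStructure

namespace Cfsg.Agent.Lib.ChevStructure.Core

open Cfsg.Lie
open scoped MatrixGroups Matrix

variable {D : ChevalleyDatum} (C : Core D) {F : Type*} [Field F]
include C

/-- The subgroup generated by the x_r(t) with r in a set of natural numbers, as a `US`. -/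
theorem closure_eq_US (q : ℕ → Prop) (hq : ∀ r, q r → r < D.nroots) :
    Subgroup.closure {g : GL D.Idx F | ∃ (r : ℕ) (t : F), q r ∧ (g : Matrix D.Idx D.Idx F) = D.x F r t} =
      C.US F {r : Rt D | q r.val} := by
  rw [US]
  congr 1
  ext g
  constructor
  · rintro ⟨r, t, hr, hg⟩; exact ⟨⟨r, hq r hr⟩, hr, t, C.eq_X hg⟩
  · rintro ⟨r, hr, t, rfl⟩; exact ⟨r.val, t, hr, C.X_val_x r t⟩

theorem eq_P {g : GL D.Idx F} {i : ℕ} (hi : i < D.rank)
    (h : (g : Matrix D.Idx D.Idx F) = D.nMat F (D.simple i) 1) : g = C.P F ⟨i, hi⟩ :=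
  Units.ext (h.trans (C.nMat_one ⟨i, hi⟩))

theorem posBut_closure_eq (i : Fin D.rank) :
    Subgroup.closure {g : GL D.Idx F | ∃ (s : ℕ) (t : F), D.IsPosRoot s ∧ s ≠ D.simple i.val ∧
      (g : Matrix D.Idx D.Idx F) = D.x F s t} = C.US F (C.posBut i) := by
  have h := C.closure_eq_US (F := F) (fun s => D.IsPosRoot s ∧ s ≠ D.simple i.val) (fun s hs => hs.1.1)
  simp only [and_assoc] at h
  rw [h]
  congr 1
  ext r
  simp [posBut, C.simple_eq, C.pos_iff, Fin.val_inj, Pos]

end Cfsg.Agent.Lib.ChevStructure.Core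

namespace Cfsg.Agent.Lib.ChevStructure.CommOK

open Cfsg.Lie
open scoped MatrixGroups Matrix
open DoubleCoset

variable {D : ChevalleyDatum} {C : Core D} (H : CommOK C) {F : Type*} [Field F]
include H

/-- B ∪ B n_p B is a subgroup. -/
theorem borel_union_cell (i : Fin D.rank) : ∃ M : Subgroup (GL D.Idx F), (M : Set (GL D.Idx F)) =
    (D.borelSubgroup F : Set (GL D.Idx F)) ∪
      doubleCoset (C.P F i) (D.borelSubgroup F : Set (GL D.Idx F)) (D.borelSubgroup F) := by
  refine ⟨{ carrier := (D.borelSubgroup F : Set (GL D.Idx F)) ∪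
              doubleCoset (C.P F i) (D.borelSubgroup F : Set (GL D.Idx F)) (D.borelSubgroup F)
            one_mem' := Or.inl (one_mem _)
            mul_mem' := ?_
            inv_mem' := ?_ }, rfl⟩
  · intro a b ha hb
    rcases ha with ha | ha <;> rcases hb with hb | hb
    · exact Or.inl (mul_mem ha hb)
    · obtain ⟨x, hx, y, hy, rfl⟩ := mem_doubleCoset.1 hb
      exact Or.inr (mem_doubleCoset.2 ⟨a * x, mul_mem ha hx, y, hy, by group⟩)
    · obtain ⟨x, hx, y, hy, rfl⟩ := mem_doubleCoset.1 ha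
      exact Or.inr (mem_doubleCoset.2 ⟨x, hx, y * b, mul_mem hy hb, by group⟩)
    · obtain ⟨x, hx, y, hy, rfl⟩ := mem_doubleCoset.1 ha
      obtain ⟨x', hx', y', hy', rfl⟩ := mem_doubleCoset.1 hb
      obtain ⟨c, hc⟩ := C.P_sq F i
      rcases H.step i (C.P_mem_monomial (F := F) i) (mul_mem hy hx') with h | h <;>
        obtain ⟨u, hu, v, hv, e⟩ := mem_doubleCoset.1 h
      · left
        have e2 : x * C.P F i * y * (x' * C.P F i * y') = x * (u * C.HT F c * v) * y' := by
          rw [← hc, ← e]; group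
        rw [e2]
        exact mul_mem (mul_mem hx (mul_mem (mul_mem hu (C.diagonal_le_borel (C.HT_mem_diagonal c))) hv)) hy'
      · right
        refine mem_doubleCoset.2 ⟨x * u, mul_mem hx hu, v * y', mul_mem hv hy', ?_⟩
        calc x * C.P F i * y * (x' * C.P F i * y') = x * (C.P F i * (y * x') * C.P F i) * y' := by group
          _ = _ := by rw [e]; group
  · intro a ha
    rcases ha with ha | ha
    · exact Or.inl (inv_mem (x := a) ha)
    · obtain ⟨x, hx, y, hy, rfl⟩ := mem_doubleCoset.1 ha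
      obtain ⟨c, hc⟩ := C.P_inv F i
      exact Or.inr (mem_doubleCoset.2 ⟨y⁻¹ * C.HT F c,
        mul_mem (inv_mem hy) (C.diagonal_le_borel (C.HT_mem_diagonal c)), x⁻¹, inv_mem hx,
        by rw [mul_inv_rev, mul_inv_rev, hc]; group⟩)

end Cfsg.Agent.Lib.ChevStructure.CommOK
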