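import Cfsg.Agent.Lib.ChevStructure.Check

/-!
Assembly of `Core D` from a certified table.
-/

set_option autoImplicit false
set_option linter.unusedSectionVars false

namespace Cfsg.Agent.Lib.ChevStructure

open Cfsg.Lie
open scoped Matrix

namespace Fast.Certified

variable {F : Fast} {D : ChevalleyDatum}

/-- signs of n_p -/
def etaF (_H : Certified F D) (i : Fin D.rank) (r : Rt D) : ℤ := F.eta i r

/-- coefficients on fundamental roots -/
def vF (_H : Certified F D) (r : Rt D) (m : Fin D.rank) : ℤ := F.v r m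

variable (H : Certified F D)
include H

theorem chM_self' (k : ℕ) (r u : Rt D) : chM D (k + 1) r r u = 0 ∧ chM D (k + 1) r r.rev u = 0 := by
  have h : ∀ s : Rt D, F.code r s = 0 → node (D.chainEntry r s) s (k + 1) = none := by
    intro s hs
    have h0 := H.L.node_succ (s := s.val) (H.lt_n r) 0
    simp only [node, List.getElem?_cons_zero] at h0
    have e := h0.1 hs
    simp only [List.getElem?_cons_succ] at e
    simp only [node, List.getElem?_cons_succ]
    rw [List.getElem?_eq_none_iff] at e ⊢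
    omega
  constructor
  · rw [H.chM_node, h r]
    by_contra hc; exact (H.L.key_ok (H.lt_n r) hc).2.1 rfl
  · rw [H.chM_node, h r.rev]
    by_contra hc; exact (H.L.key_ok (H.lt_n r) hc).2.2 (H.rev_val r)

theorem chM_big' (k : ℕ) (r s u : Rt D) (hk : 4 ≤ k) : chM D k r s u = 0 := by
  rw [H.chM_node]
  have : node (D.chainEntry r s) s k = none := by
    have := (H.L.chain_steps (H.lt_n r) s.val).2
    simp only [node]
    rw [List.getElem?_eq_none_iff, List.length_cons]
    omega
  rw [this]

theorem chM_tgt' (k : ℕ) (r s u : Rt D) (h : chM D (k + 1) r s u ≠ 0) :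
    u ≠ r.rev ∧ H.vF u = H.vF s + ((k : ℤ) + 1) • H.vF r := by
  rw [H.chM_node] at h
  cases hn : node (D.chainEntry r s) s (k + 1) with
  | none => rw [hn] at h; exact absurd rfl h
  | some x =>
    obtain ⟨w, M⟩ := x
    rw [hn] at h
    simp only [ne_eq, ite_eq_right_iff, Classical.not_imp] at h
    obtain ⟨-, hne, hv⟩ := H.node_lt r s (k + 1) w M hn
    refine ⟨fun e => hne (by omega) (by rw [h.1, e, H.rev_val]), funext fun m => ?_⟩
    have := hv m (H.lt_l m)
    rw [h.1] at this
    simpa [vF] using this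

theorem coeff' (r s u : Rt D) :
    ((D.chainCoeff r.val s.val u.val).map fun km => Polynomial.C km.2 * Polynomial.X ^ km.1).sum =
      ∑ k ∈ Finset.range 3, Polynomial.C (chM D (k + 1) r s u) * Polynomial.X ^ (k + 1) := by
  obtain ⟨-, hlen⟩ := H.L.chain_steps (H.lt_n r) s.val
  have e : D.chainCoeff r s u =
      ((D.chainEntry r s).zipIdx.filter (fun q => q.1.1 = u.val)).map (fun q => (q.2 + 1, q.1.2)) := by
    have hk := keys_pairwise _ (H.L.row_spec (H.lt_n r)).2.1
    rw [ChevalleyDatum.chainCoeff, filter_key _ hk, ChevalleyDatum.chainEntry]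
    cases (D.chain.getD r.val #[]).toList.find? (fun e => e.1 = s.val) <;> simp
  rw [e]
  simp only [H.chM_node, node, List.getElem?_cons_succ, Finset.sum_range_succ, Finset.sum_range_zero]
  match hL : D.chainEntry r s with
  | [] => simp
  | [a] => by_cases ha : a.1 = u.val <;> simp [List.filter_cons, ha]
  | [a, b] => by_cases ha : a.1 = u.val <;> by_cases hb : b.1 = u.val <;> simp [List.filter_cons, ha, hb]
  | [a, b, c] =>
    by_cases ha : a.1 = u.val <;> by_cases hb : b.1 = u.val <;> by_cases hc : c.1 = u.val <;>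
      simp [List.filter_cons, ha, hb, hc] <;> ring
  | a :: b :: c :: d :: L' => rw [hL] at hlen; simp at hlen; omega

theorem pr_self' (r : Rt D) : ChevStructure.pr D r r = 2 := by
  rw [H.pr_val]; exact (H.root_spec (H.lt_n r)).1

theorem co_rev' (r : Rt D) (j : Fin D.rank) : co D r.rev j = - co D r j := by
  rw [H.co_val, H.co_val, H.rev_val]
  exact ((H.root_spec (H.lt_n r)).2.2.2.1 j (H.lt_l j)).2.1

theorem A_rev' (j : Fin D.rank) (r : Rt D) : A D j r.rev = - A D j r := by
  rw [H.A_lin', H.A_lin' j r, ← Finset.sum_neg_distrib]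
  refine Finset.sum_congr rfl fun m _ => ?_
  rw [H.v_rev']; ring

theorem ne_rev' (r : Rt D) : r.rev ≠ r := fun h =>
  (H.root_spec (H.lt_n r)).2.1 (by rw [← H.rev_val, h])

theorem pow_succ' (k : ℕ) (r : Rt D) : E D 1 r * E D k r = ((k : ℤ) + 1) • E D (k + 1) r := by
  rcases k with _ | k
  · simp [E]
  ext a b
  rw [Matrix.mul_apply, Fintype.sum_sum_type, Matrix.smul_apply, smul_eq_mul]
  rcases a with a | a <;> rcases b with b | b
  · -- inl inl
    rw [Finset.sum_eq_zero (fun x _ => by simp [E]), Finset.sum_eq_zero, show E D (k + 1 + 1) r (Sum.inl a) (Sum.inl b) = 0 from rfl]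
    · simp
    · intro x _
      simp only [E, Matrix.of_apply]
      split_ifs <;> simp_all [(H.ne_rev' r).symm]
  · -- inl inr
    rw [Finset.sum_eq_zero (fun x _ => by simp [E]), Finset.sum_eq_zero]
    · simp [E]
    · intro x _
      simp only [E, Matrix.of_apply, true_and]
      split_ifs with h1 h2 h3 <;> simp_all [(H.ne_rev' r).symm]
      refine Or.inr ?_
      by_contra hne
      exact (H.chM_tgt' k r b r.rev hne).1 rfl
  · -- inr inl
    rw [Finset.sum_eq_zero (fun x _ => by simp [E]), Finset.sum_eq_zero]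
    · simp [E]
    · intro x _
      simp only [E, Matrix.of_apply, true_and, zero_add]
      split_ifs <;> simp_all [(H.chM_self' 0 r a).1, (H.ne_rev' r).symm]
  · -- inr inr
    by_cases hb : b = r.rev
    · subst hb
      rcases k with _ | _ | k
      · have h1 : ∀ x : Rt D, E D 1 r (Sum.inr a) (Sum.inr x) * E D 1 r (Sum.inr x) (Sum.inr r.rev) = 0 := by
          intro x; simp [E]
        simp only [h1, Finset.sum_const_zero, add_zero]
        have h2 : ∀ j : Fin D.rank, E D 1 r (Sum.inr a) (Sum.inl j) * E D 1 r (Sum.inl j) (Sum.inr r.rev)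
            = if a = r then -(co D r j * A D j r) else 0 := by
          intro j; by_cases ha : a = r <;> simp [E, ha, mul_comm]
        simp only [h2]
        by_cases ha : a = r
        · simp only [ha, ↓reduceIte, Finset.sum_neg_distrib]
          rw [show ∑ j, co D r j * A D j r = 2 from H.pr_self' r]
          simp [E]
        · simp [E, ha]
      · rw [Finset.sum_eq_zero (fun x _ => by simp [E]), zero_add, Finset.sum_eq_single r]
        · simp [E, (H.ne_rev' r).symm, (H.chM_self' 0 r a).1]
        · intro x _ hx; simp [E, hx]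
        · simp
      · simp [E]
    · rw [Finset.sum_eq_zero (fun x _ => by simp [E, hb]), zero_add]
      simp only [E, Matrix.of_apply, hb, ↓reduceIte]
      rw [← H.chM_succ (k + 1) r b a]
      refine Finset.sum_congr rfl fun x _ => ?_
      by_cases hx : x = r.rev
      · subst hx
        have h0 : chM D (k + 1) r b r.rev = 0 := by
          by_contra hne; exact (H.chM_tgt' k r b r.rev hne).1 rfl
        simp [h0]
      · simp [hx, mul_comm]

theorem wF_rev (i : Fin D.rank) (r : Rt D) (hinj : Function.Injective H.vF) :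
    H.wF i r.rev = (H.wF i r).rev := by
  apply hinj
  funext m
  have h1 := ((H.refl_spec (H.lt_l i) (H.lt_n r.rev)).2.2.2 m (H.lt_l m)).1
  have h2 := ((H.refl_spec (H.lt_l i) (H.lt_n r)).2.2.2 m (H.lt_l m)).1
  show F.v (F.w i r.rev.val) m = F.v (H.wF i r).rev.val m
  rw [H.v_rev', h1]
  show _ = - F.v (F.w i r.val) m
  rw [h2, H.v_rev', ← H.A_val, ← H.A_val, H.A_rev']
  split_ifs <;> ring

theorem phi_strict' : StrictMono fun r : Rt D => phi (H.vF r) := by
  have e : ∀ r : Rt D, phi (H.vF r) = F.phiV r := by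
    intro r
    rw [Fast.phiV, sumL_eq, phi, ← sum_fin H.hl]
    simp only [vF, H.hl]
  have hm : ∀ a b : ℕ, a < b → b < F.n → F.phiV a < F.phiV b := by
    intro a b hab hb
    induction b with
    | zero => omega
    | succ b ih =>
      have hstep := (H.root_spec (show b < F.n by omega)).2.2.2.2.2 hb
      rcases Nat.lt_succ_iff_lt_or_eq.mp hab with h | h
      · exact lt_trans (ih h (by omega)) hstep
      · subst h; exact hstep
  intro a b hab
  show phi (H.vF a) < phi (H.vF b)
  rw [e, e]
  exact hm a b hab (H.lt_n b)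

theorem A_w' (i j : Fin D.rank) (r : Rt D) :
    A D j (H.wF i r) = A D j r - A D i r * A D j (H.pF i) := by
  rw [H.A_lin', H.A_lin' j r]
  have hv : ∀ m : Fin D.rank, F.v (H.wF i r).val m = F.v r m - (if m = i then A D i r else 0) := by
    intro m
    have h1 := ((H.refl_spec (H.lt_l i) (H.lt_n r)).2.2.2 m (H.lt_l m)).1
    rw [← H.A_val] at h1
    show F.v (F.w i r.val) m = _
    rw [h1]
    simp [Fin.ext_iff]
  simp only [hv, sub_mul, Finset.sum_sub_distrib]
  simp

theorem A_p' (i : Fin D.rank) : A D i (H.pF i) = 2 := by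
  have h := H.pr_self' (H.pF i)
  have hc : ∀ j : Fin D.rank, co D (H.pF i) j = if j = i then 1 else 0 := by
    intro j
    rw [H.co_val]
    have := ((H.simple_spec (H.lt_l i)).2.2 j (H.lt_l j)).2
    simpa [pF, Fin.ext_iff] using this
  simpa [ChevStructure.pr, hc] using h

theorem co_w' (i : Fin D.rank) (r : Rt D) (j : Fin D.rank) :
    co D (H.wF i r) j = co D r j - (if j = i then ChevStructure.pr D r (H.pF i) else 0) := by
  rw [H.co_val, H.co_val, H.pr_val]
  have h1 := ((H.refl_spec (H.lt_l i) (H.lt_n r)).2.2.2 j (H.lt_l j)).2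
  simpa [wF, pF, Fin.ext_iff] using h1

theorem eta_rev' (i : Fin D.rank) (r : Rt D) : H.etaF i r.rev = H.etaF i r := by
  show F.eta i r.rev.val = _
  rw [H.rev_val]; exact (H.refl_spec (H.lt_l i) (H.lt_n r)).2.2.1

theorem wF_wF (i : Fin D.rank) (r : Rt D) : H.wF i (H.wF i r) = r :=
  Fin.ext (H.refl_spec (H.lt_l i) (H.lt_n r)).2.1

omit H in
theorem eta_one' (i r : ℕ) : F.eta i r = 1 ∨ F.eta i r = -1 := by
  unfold Fast.eta
  cases Nat.beq (Nat.land (F.wd i r) 1) 0
  · exact Or.inr rfl
  · exact Or.inl rfl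

theorem Pm_conj' (i : Fin D.rank) (r : Rt D) :
    E D 1 (H.wF i r) * Pm D (H.pF i) i (H.wF i) (H.etaF i) =
      H.etaF i r • (Pm D (H.pF i) i (H.wF i) (H.etaF i) * E D 1 r) := by
  have hinj : Function.Injective H.vF := fun a b h => H.phi_strict'.injective (congrArg phi h)
  have hsq : H.etaF i r * H.etaF i r = 1 := by
    rcases eta_one' (F := F) i r with h | h <;> simp [etaF, h]
  ext a b
  rw [Matrix.smul_apply, Matrix.mul_apply, Matrix.mul_apply, Fintype.sum_sum_type, Fintype.sum_sum_type,
    smul_eq_mul]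
  rcases a with a | a <;> rcases b with b | b
  · simp [E, Pm]
  · simp only [E, Pm, Matrix.of_apply, true_and, mul_zero, Finset.sum_const_zero, zero_add]
    rw [Finset.sum_eq_single (H.wF i b) (fun x _ hx => by simp [hx]) (by simp)]
    by_cases hb : b = r.rev
    · subst hb
      simp only [H.wF_rev i r hinj, ↓reduceIte, H.eta_rev', zero_mul, Finset.sum_const_zero, add_zero,
        sub_mul, ite_mul, one_mul]
      rw [H.co_w', Finset.sum_sub_distrib, Finset.sum_ite_eq]
      by_cases ha : a = i
      · simp only [ha, ↓reduceIte, Finset.mem_univ, ChevStructure.pr]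
        simp only [mul_comm (co D r _)]
        ring
      · simp [ha, mul_comm]
    · have : H.wF i b ≠ (H.wF i r).rev := by
        rw [← H.wF_rev i r hinj]; exact fun h => hb (by simpa [H.wF_wF] using congrArg (H.wF i) h)
      simp [this, hb]
  · simp only [E, Pm, Matrix.of_apply, true_and, mul_zero, Finset.sum_const_zero, add_zero, zero_mul,
      zero_add]
    rw [Finset.sum_eq_single (H.wF i a) (fun x _ hx => by
      rw [if_neg (show ¬ a = H.wF i x from fun h => hx (by rw [h, H.wF_wF]))]; simp) (by simp)]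
    simp only [H.wF_wF, ↓reduceIte]
    by_cases ha : a = H.wF i r
    · subst ha
      simp only [↓reduceIte, H.wF_wF, true_and, mul_sub, Finset.sum_sub_distrib, mul_ite, mul_one,
        mul_zero, Finset.sum_ite_eq', Finset.mem_univ, H.A_w', H.A_p']
      linear_combination (A D b r) * hsq
    · have : H.wF i a ≠ r := fun h => ha (by rw [← h, H.wF_wF])
      simp [ha, this]
  · simp only [E, Pm, Matrix.of_apply, mul_zero, Finset.sum_const_zero, zero_add, zero_mul]
    rw [Finset.sum_eq_single (H.wF i b) (fun x _ hx => by simp [hx]) (by simp)]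
    rw [Finset.sum_eq_single (H.wF i a) (fun x _ hx => by
      rw [if_neg (show ¬ a = H.wF i x from fun h => hx (by rw [h, H.wF_wF]))]; simp) (by simp)]
    simp only [H.wF_wF, ↓reduceIte, false_and]
    by_cases hb : b = r.rev
    · subst hb; simp [H.wF_rev i r hinj]
    · have hne : H.wF i b ≠ (H.wF i r).rev := by
        rw [← H.wF_rev i r hinj]; exact fun h => hb (by simpa [H.wF_wF] using congrArg (H.wF i) h)
      simp only [hne, hb, ↓reduceIte, zero_add]
      have h := H.chM_w i r b (H.wF i a)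
      rw [H.wF_wF] at h
      rw [← h]
      have hb2 : H.etaF i b * H.etaF i b = 1 := by
        rcases eta_one' (F := F) i b with h | h <;> simp [etaF, h]
      simp only [etaF] at hb2 ⊢
      linear_combination (F.eta i r * F.eta i (H.wF i a).val * chM D 1 r b (H.wF i a)) * hb2

theorem appP_sem (i : Fin D.rank) (x : D.Idx) :
    sem D (F.appP i (cod x, 1)) = Pm D (H.pF i) i (H.wF i) (H.etaF i) *ᵥ Pi.single x 1 := by
  have h1 := H.hl
  funext a
  rw [Matrix.mulVec_single_one]
  rcases x with j | s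
  · have hb : Nat.blt j.val F.l = true := blt_true (H.lt_l j)
    have hA : A D j (H.pF i) = F.a j (F.p i) := H.A_val j (H.pF i)
    simp only [appP, cod, hb, cond_true, sem, sumKey_cons, show ∀ k, sumKey k [] = 0 from fun _ => rfl]
    rcases a with a | a
    · have ea : (j.val = a.val) ↔ (a = j) := by rw [Fin.ext_iff]; omega
      have eb : (i.val = a.val) ↔ (a = i) := by rw [Fin.ext_iff]; omega
      simp only [cod, Pm, Matrix.col_apply, Matrix.of_apply, hA, ea, eb]
      split_ifs <;> ring
    · have := j.isLt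
      have := i.isLt
      simp only [cod, Pm, Matrix.col_apply, Matrix.of_apply]
      rw [if_neg (by omega), if_neg (by omega)]
      rfl
  · have hb : Nat.blt (D.rank + s.val) F.l = false := blt_false (by omega)
    simp only [appP, cod, hb, cond_false, sem, sumKey_cons, show ∀ k, sumKey k [] = 0 from fun _ => rfl,
      show D.rank + s.val - F.l = s.val by omega, mul_one]
    rcases a with a | a
    · have := a.isLt
      simp only [cod, Pm, Matrix.col_apply, Matrix.of_apply]
      rw [if_neg (by omega)]; rfl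
    · have e : (F.l + F.w i s = D.rank + a.val) ↔ a = H.wF i s := by
        rw [Fin.ext_iff]; show _ ↔ a.val = F.w i s; omega
      simp only [cod, Pm, Matrix.col_apply, Matrix.of_apply, e, etaF, add_zero]

theorem E_comp (r : Rt D) : E D 1 r * E D 1 r = (2 : ℤ) • E D 2 r ∧
    E D 1 r * (E D 1 r * E D 1 r) = (6 : ℤ) • E D 3 r := by
  have h1 := H.pow_succ' 1 r
  have h2 := H.pow_succ' 2 r
  refine ⟨by simpa using h1, ?_⟩
  rw [show E D 1 r * E D 1 r = (2 : ℤ) • E D 2 r by simpa using h1, Matrix.mul_smul, h2, smul_smul]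
  norm_num

theorem appQ_sem (r : Rt D) (t : ℤ) (M : List (ℕ × ℤ)) :
    sem D (F.appQ r t M) = ((6 : ℤ) • xI D ℤ r t) *ᵥ sem D M := by
  obtain ⟨h2, h3⟩ := H.E_comp r
  have hE : ∀ k, Ek D ℤ k r = E D k r := fun k => by ext a b; simp [Ek]
  have h23 : E D 1 r * E D 2 r = (3 : ℤ) • E D 3 r := by
    have := H.pow_succ' 2 r; norm_num at this ⊢; exact this
  have a2 : E D 1 r *ᵥ (E D 1 r *ᵥ sem D M) = (2 : ℤ) • (E D 2 r *ᵥ sem D M) := by
    rw [Matrix.mulVec_mulVec, h2, Matrix.smul_mulVec]
  have a3 : E D 1 r *ᵥ (E D 1 r *ᵥ (E D 1 r *ᵥ sem D M)) = (6 : ℤ) • (E D 3 r *ᵥ sem D M) := by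
    rw [a2, Matrix.mulVec_smul, Matrix.mulVec_mulVec, h23, Matrix.smul_mulVec, smul_smul]
    norm_num
  simp only [appQ, sem_append, sem_scale, sem_appE H.L, a3]
  simp only [a2, xI, Finset.sum_range_succ, Finset.sum_range_zero, zero_add, hE, smul_add,
    Matrix.add_mulVec, Matrix.smul_mulVec, show E D 0 r = 1 from rfl, Matrix.one_mulVec]
  module

theorem Pm_eq'' (i : Fin D.rank) :
    xI D ℤ (H.pF i).rev (-1) * xI D ℤ (H.pF i) 1 =
      xI D ℤ (H.pF i) (-1) * Pm D (H.pF i) i (H.wF i) (H.etaF i) := by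
  refine Fast.matrix_ext fun x => ?_
  have hc : cod x < F.l + F.n := by
    have := H.hl; have := H.hn
    rcases x with x | x <;> simp only [cod] <;> have := x.isLt <;> omega
  have h := H.pm
  simp only [pmOK, allLt_iff] at h
  have hz : sem D (F.appQ (F.rv (F.p i)) (-1) (F.appQ (F.p i) 1 [(cod x, 1)]) ++
      scale (-6) (F.appQ (F.p i) (-1) (F.appP i (cod x, 1)))) = 0 :=
    sem_isZero (h i.val (H.lt_l i) (cod x) hc)
  have e1 : F.rv (F.p i) = (H.pF i).rev.val := (H.rev_val (H.pF i)).symm
  have e2 : F.p i = (H.pF i).val := rfl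
  rw [e1, e2, sem_append, sem_scale, H.appQ_sem, H.appQ_sem, H.appQ_sem, H.appP_sem, sem_single,
    Matrix.smul_mulVec, Matrix.smul_mulVec, Matrix.smul_mulVec, Matrix.mulVec_smul] at hz
  rw [← Matrix.mulVec_mulVec, ← Matrix.mulVec_mulVec]
  funext a
  have := congrFun hz a
  simp only [Pi.add_apply, Pi.smul_apply, smul_eq_mul, Pi.zero_apply] at this
  linarith

theorem comm_col (p s : Rt D) (h : ∀ c < F.l + F.n, F.commCol p s c = true) :
    E D 1 p * E D 1 s - E D 1 s * E D 1 p = ∑ u, chM D 1 p s u • E D 1 u := by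
  refine Fast.matrix_ext fun x => ?_
  have hc : cod x < F.l + F.n := by
    have := H.hl; have := H.hn
    rcases x with x | x <;> simp only [cod] <;> have := x.isLt <;> omega
  have hz : sem D _ = 0 := sem_isZero (h (cod x) hc)
  rw [sem_append, sem_append, sem_scale, sem_appE H.L, sem_appE H.L, sem_appE H.L, sem_appE H.L,
    sem_single, Matrix.mulVec_mulVec, Matrix.mulVec_mulVec] at hz
  rw [Matrix.sub_mulVec, Matrix.sum_mulVec]
  simp only [Matrix.smul_mulVec, chM_one H.L]
  cases hb : Nat.beq (F.code p s) 0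
  · have h0 := Nat.ne_of_beq_eq_false hb
    have htl : tgt (F.code p s) < D.nroots := lt_of_lt_of_eq (H.tgt_lt h0) H.hn.symm
    rw [hb, cond_false, sem_scale, sem_appE' H.L htl, sem_single] at hz
    rw [Finset.sum_eq_single ⟨tgt (F.code p s), htl⟩ (fun b _ hb' => by
      have : ¬ tgt (F.code p s) = b.val := fun e => hb' (Fin.ext e.symm)
      simp [this]) (by simp)]
    simp only [ne_eq, h0, not_false_eq_true, and_self, ↓reduceIte]
    linear_combination (norm := module) hz
  · have h0 := Nat.eq_of_beq_eq_true hb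
    rw [hb, cond_true, sem_nil] at hz
    simp only [ne_eq, h0, not_true_eq_false, false_and, ↓reduceIte, zero_smul, Finset.sum_const_zero]
    linear_combination (norm := module) hz

theorem ind' (motive : Rt D → Prop) (hp : ∀ i, motive (H.pF i))
    (hw : ∀ i r, motive r → motive (H.wF i r)) (r : Rt D) : motive r := by
  induction hd : F.dep r using Nat.strong_induction_on generalizing r with
  | _ d ih =>
    have h := H.reach
    simp only [reachOK, Bool.and_eq_true, allLt_iff] at h
    have h1 := h.1.1 r.val (H.lt_n r)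
    simp only [reachOK1, Bool.or_eq_true, List.any_eq_true, List.mem_range, Bool.and_eq_true,
      Nat.blt_eq] at h1
    rcases h1 with ⟨i, hi, hb⟩ | ⟨hpi, hdl⟩
    · have hi' : i < D.rank := lt_of_lt_of_eq hi H.hl.symm
      have e : H.pF ⟨i, hi'⟩ = r := Fin.ext (Nat.eq_of_beq_eq_true hb)
      exact e ▸ hp _
    · have hpi' : F.parI r < D.rank := lt_of_lt_of_eq hpi H.hl.symm
      have := hw ⟨F.parI r, hpi'⟩ _ (ih _ (lt_of_lt_of_eq hdl hd) (H.wF ⟨F.parI r, hpi'⟩ r) rfl)
      rwa [H.wF_wF] at this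

omit H in
/-- The pair represented by two indices, if both are in range. -/
def mkPair (D : ChevalleyDatum) (a b : ℕ) : Option (Rt D × Rt D) :=
  if h : a < D.nroots ∧ b < D.nroots then some (⟨a, h.1⟩, ⟨b, h.2⟩) else none

omit H in
/-- Representatives of pairs of roots. -/
def baseF (F : Fast) (D : ChevalleyDatum) : List (Rt D × Rt D) :=
  F.top.flatMap fun q => q.2.2.filterMap (mkPair D q.1)

theorem base_comm (q : Rt D × Rt D) (hq : q ∈ baseF F D) :
    E D 1 q.1 * E D 1 q.2 - E D 1 q.2 * E D 1 q.1 = ∑ u, chM D 1 q.1 q.2 u • E D 1 u := by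
  simp only [baseF, List.mem_flatMap, List.mem_filterMap] at hq
  obtain ⟨T, hT, s, hs, hsome⟩ := hq
  unfold mkPair at hsome
  split_ifs at hsome with hh
  have h := H.comm
  simp only [commOK, List.all_eq_true, allLt_iff] at h
  simp only [Option.some.injEq] at hsome
  subst hsome
  exact H.comm_col ⟨T.1, hh.1⟩ ⟨s, hh.2⟩ (h T hT s hs)

theorem ind2' (motive : Rt D → Rt D → Prop) (hb : ∀ q ∈ baseF F D, motive q.1 q.2)
    (hw : ∀ i r s, s ≠ r.rev → motive r s → motive (H.wF i r) (H.wF i s)) :
    ∀ r s, s ≠ r.rev → motive r s := by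
  have hinj : Function.Injective H.vF := fun a b h => H.phi_strict'.injective (congrArg phi h)
  have hne : ∀ i r s, s ≠ r.rev → H.wF i s ≠ (H.wF i r).rev := by
    intro i r s h e
    rw [← H.wF_rev i r hinj] at e
    exact h (by simpa [H.wF_wF] using congrArg (H.wF i) e)
  have hreach := H.reach
  simp only [reachOK, Bool.and_eq_true, allLt_iff, List.all_eq_true] at hreach
  intro r
  induction hd : F.dep' r using Nat.strong_induction_on generalizing r with
  | _ d ih =>
    have h1 := hreach.1.2 r.val (H.lt_n r)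
    simp only [reachTop1, Bool.or_eq_true, List.any_eq_true, Bool.and_eq_true, Nat.blt_eq] at h1
    rcases h1 with ⟨T, hT, hTr⟩ | ⟨hpi, hdl⟩
    · have hTr' : T.1 = r.val := Nat.eq_of_beq_eq_true hTr
      obtain ⟨⟨-, hbs⟩, hstab⟩ := hreach.2 T hT
      intro s
      induction hd2 : depS T.2.1 s using Nat.strong_induction_on generalizing s with
      | _ d2 ih2 =>
        intro hs
        have hh := hstab s.val (H.lt_n s)
        simp only [stabOK1, Bool.or_eq_true, List.any_eq_true, Bool.and_eq_true, Nat.blt_eq] at hh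
        rcases hh with (hh | ⟨b, hb', hbe⟩) | ⟨⟨hp, hfix⟩, hdl⟩
        · exact absurd (Fin.ext (by rw [Nat.eq_of_beq_eq_true hh, H.rev_val, hTr'])) hs
        · have hbe' := Nat.eq_of_beq_eq_true hbe
          refine hb (r, s) ?_
          simp only [baseF, List.mem_flatMap, List.mem_filterMap]
          refine ⟨T, hT, b, hb', ?_⟩
          have hh : T.1 < D.nroots ∧ b < D.nroots := ⟨lt_of_eq_of_lt hTr' r.isLt, lt_of_eq_of_lt hbe' s.isLt⟩
          rw [mkPair, dif_pos hh]
          simp [Fin.ext_iff, hTr', hbe']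
        · have hp' : parS T.2.1 s < D.rank := lt_of_lt_of_eq hp H.hl.symm
          have hfix' : H.wF ⟨parS T.2.1 s, hp'⟩ r = r :=
            Fin.ext (by show F.w _ r.val = _; rw [← hTr']; exact Nat.eq_of_beq_eq_true hfix)
          have hs' : H.wF ⟨parS T.2.1 s, hp'⟩ s ≠ r.rev := by
            have := hne ⟨parS T.2.1 s, hp'⟩ r s hs
            rwa [hfix'] at this
          have := hw ⟨parS T.2.1 s, hp'⟩ r _ hs' (ih2 _ (lt_of_lt_of_eq hdl hd2) (H.wF ⟨parS T.2.1 s, hp'⟩ s) rfl hs')
          rwa [hfix', H.wF_wF] at this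
    · have hpi' : F.parI' r < D.rank := lt_of_lt_of_eq hpi H.hl.symm
      intro s hs
      have hs' := hne ⟨F.parI' r, hpi'⟩ r s hs
      have := hw ⟨F.parI' r, hpi'⟩ _ _ hs'
        (ih _ (lt_of_lt_of_eq hdl hd) (H.wF ⟨F.parI' r, hpi'⟩ r) rfl (H.wF ⟨F.parI' r, hpi'⟩ s) hs')
      rwa [H.wF_wF, H.wF_wF] at this

theorem iter_node {r : ℕ} (hr : r < F.n) (s k : ℕ) (hk : 0 < k) : D.chainRoot r s k = F.iter r s k := by
  rw [H.L.node_iter hr, node]
  obtain ⟨k, rfl⟩ := Nat.exists_eq_add_of_le' hk
  simp [ChevalleyDatum.chainRoot]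

theorem w_eq' (i : Fin D.rank) (r : Rt D) : D.reflectRoot i r = (H.wF i r).val := by
  have h := H.wRefl
  simp only [wOK, allLt_iff] at h
  show _ = F.w i r
  rw [← Nat.eq_of_beq_eq_true (h i.val (H.lt_l i) r.val (H.lt_n r))]
  have hp := (H.simple_spec (H.lt_l i)).1
  simp only [ChevalleyDatum.reflectRoot, reflF, H.L.simple_val (H.lt_l i), ChevalleyDatum.neg,
    H.L.neg_val hp, H.L.cartan_val (H.lt_n r) (H.lt_l i)]
  split_ifs with h1 h2 h3 h4
  · rfl
  · rfl
  · rw [H.iter_node (by simp [Fast.rv]; omega) _ _ (by omega)]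
  · rw [H.iter_node hp _ _ (by omega)]
  · rfl

theorem pos_iff' (r : Rt D) : (∀ j < F.l, 0 ≤ F.c r j) ↔ D.nroots ≤ 2 * r.val := by
  have := H.half_eq; have := H.hn
  constructor
  · intro h
    rcases (H.root_spec (H.lt_n r)).2.2.2.2.1 with hh | ⟨j, hj, hneg⟩
    · omega
    · exact absurd (h j hj) (by omega)
  · intro h j hj
    exact (((H.root_spec (H.lt_n r)).2.2.2.1 j hj).2.2.2 (by omega)).2

theorem coroot_list (r : Rt D) : (D.coroot.getD r.val #[]).toList = (List.range F.l).map (F.c r) := by
  have h := H.L.link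
  simp only [linkOK, Bool.and_eq_true, decide_eq_true_eq] at h
  have e := congrArg (fun l => l.getD r.val []) h.1.2
  simp only [Array.getD_eq_getD_getElem?, ← Array.getElem?_toList]
  cases hx : D.coroot.toList[r.val]? <;>
    simpa [List.getD_eq_getElem?_getD, H.lt_n r, hx] using e

/-- `Core D` from a certified table. -/
def core : Core D where
  v := H.vF
  η := H.etaF
  p := H.pF
  w := H.wF
  base := baseF F D
  rank_pos := lt_of_lt_of_eq H.l_pos H.hl.symm
  simple_eq i := H.L.simple_val (H.lt_l i)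
  w_eq := H.w_eq'
  neg_eq r := by rw [H.L.neg_val (H.lt_n r), H.rev_val]
  ne_rev := H.ne_rev'
  v_p i := funext fun m => by
    rw [Pi.single_apply]
    simpa [vF, pF, Fin.ext_iff] using ((H.simple_spec (H.lt_l i)).2.2 m (H.lt_l m)).1
  co_p i := funext fun m => by
    rw [Pi.single_apply, H.co_val]
    simpa [pF, Fin.ext_iff] using ((H.simple_spec (H.lt_l i)).2.2 m (H.lt_l m)).2
  v_rev r := funext fun m => H.v_rev' r m
  co_rev r := funext fun m => H.co_rev' r m
  A_lin := H.A_lin'
  pr_self := H.pr_self'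
  co_odd r := by
    obtain ⟨j, hj, ho⟩ := (H.root_spec (H.lt_n r)).2.2.1
    exact ⟨⟨j, lt_of_lt_of_eq hj H.hl.symm⟩, by rw [H.co_val, Int.odd_iff]; exact ho⟩
  pos_iff r := by
    rw [← H.pos_iff' r, ChevalleyDatum.IsPosRoot, H.coroot_list]
    simp [r.isLt]
  negr_iff r := by
    have h1 := H.hn
    have h3 := H.rev_val r
    rw [ChevalleyDatum.IsNegRoot, H.coroot_list]
    have hp := H.pos_iff' r.rev
    simp only [r.isLt, true_and, List.mem_map, List.mem_range, forall_exists_index, and_imp,
      forall_apply_eq_imp_iff₂]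
    have e : (∀ a < F.l, F.c r a ≤ 0) ↔ ∀ j < F.l, 0 ≤ F.c r.rev.val j := by
      refine forall₂_congr fun a ha => ?_
      rw [h3, ((H.root_spec (H.lt_n r)).2.2.2.1 a ha).2.1]
      omega
    rw [e, hp]
    have := H.half_eq
    have := H.lt_n r
    simp only [h3, Fast.rv]
    omega
  v_sign r hr m := by
    have h1 := H.hn
    have := H.half_eq
    exact (((H.root_spec (H.lt_n r)).2.2.2.1 m (H.lt_l m)).2.2.2 (by omega)).1
  phi_strict := H.phi_strict'
  v_w i r := funext fun m => by
    have h1 := ((H.refl_spec (H.lt_l i) (H.lt_n r)).2.2.2 m (H.lt_l m)).1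
    show F.v (F.w i r.val) m = _
    rw [h1, ← H.A_val]
    simp [vF, Pi.single_apply, Fin.ext_iff]
  co_w i r := funext fun j => by
    rw [H.co_w']
    simp [Pi.single_apply]
  w_w := H.wF_wF
  η_one i r := eta_one' i r
  η_rev := H.eta_rev'
  η_p i := (H.simple_spec (H.lt_l i)).2.1
  chM_self k r u := (H.chM_self' k r u).1
  chM_rev k r u := (H.chM_self' k r u).2
  chM_tgt := H.chM_tgt'
  chM_big := H.chM_big'
  antisymm r s u _ := H.antisymm' r s u
  coeff r s u _ _ := H.coeff' r s u
  pow_succ := H.pow_succ'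
  Pm_conj := H.Pm_conj'
  Pm_eq' := H.Pm_eq''
  comm_base := H.base_comm
  ind := H.ind'
  ind2 := H.ind2'

end Fast.Certified

end Cfsg.Agent.Lib.ChevStructure
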