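import Cfsg.Agent.Lib.ChevStructure.NormalForm
import Cfsg.Agent.Lib.ChevStructure.CheckCore

/-!
The Poincaré series of W along the chain of parabolic subgroups ⟨s_0, …, s_{k-1}⟩, from lists of minimal
coset representatives checked on the packed tables.
-/

set_option autoImplicit false
set_option linter.unusedSectionVars false

namespace Cfsg.Agent.Lib.ChevStructure

open Cfsg.Lie

variable {D : ChevalleyDatum}

namespace Core

/-- The parabolic subgroup of W of the first k nodes. -/
def WJ (C : Core D) (k : ℕ) : Subgroup (Equiv.Perm (Rt D)) :=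
  Subgroup.closure {x | ∃ i : Fin D.rank, (i : ℕ) < k ∧ x = C.sref i}

/-- `R` lists minimal representatives of the cosets of `WJ k` in `WJ (k + 1)`. -/
structure LevelOK (C : Core D) (k : ℕ) (R : List (List (Fin D.rank))) : Prop where
  le : ∀ L ∈ R, ∀ i ∈ L, (i : ℕ) ≤ k
  nil : [] ∈ R
  pos : ∀ L ∈ R, ∀ j : Fin D.rank, (j : ℕ) < k → C.pprod L (C.p j) ∈ C.Pos
  red : ∀ L ∈ R, C.len (C.pprod L) = L.length
  closed : ∀ L ∈ R, ∀ i : Fin D.rank, (i : ℕ) ≤ k →
    ∃ L' ∈ R, ∃ y ∈ C.WJ k, C.sref i * C.pprod L = C.pprod L' * y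
  nodup : (R.map C.pprod).Nodup

variable (C : Core D)
include C

theorem WJ_le (k : ℕ) : C.WJ k ≤ C.WG :=
  (Subgroup.closure_le _).2 fun _ ⟨i, _, e⟩ => e ▸ Subgroup.subset_closure ⟨i, rfl⟩

theorem WJ_rank : C.WJ D.rank = C.WG := by
  refine le_antisymm (C.WJ_le _) ((Subgroup.closure_le _).2 ?_)
  rintro x ⟨i, rfl⟩
  exact Subgroup.subset_closure ⟨i, i.2, rfl⟩

theorem pprod_mem_WJ {k : ℕ} {L : List (Fin D.rank)} (h : ∀ i ∈ L, (i : ℕ) < k) : C.pprod L ∈ C.WJ k :=
  list_prod_mem fun g hg => by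
    rw [List.mem_map] at hg
    obtain ⟨i, hi, rfl⟩ := hg
    exact Subgroup.subset_closure ⟨i, h i hi, rfl⟩

theorem WJ_coord {k : ℕ} {y : Equiv.Perm (Rt D)} (hy : y ∈ C.WJ k) :
    ∀ r : Rt D, ∀ m : Fin D.rank, k ≤ (m : ℕ) → C.v (y r) m = C.v r m := by
  induction hy using Subgroup.closure_induction with
  | mem x hx =>
    obtain ⟨i, hi, rfl⟩ := hx
    intro r m hm
    have : m ≠ i := fun e => by subst e; omega
    simp [C.sref_apply, C.v_w, this]
  | one => intro r m _; rfl
  | mul a b _ _ ha hb => intro r m hm; rw [Equiv.Perm.mul_apply, ha _ m hm, hb _ m hm]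
  | inv a _ ha =>
    intro r m hm
    have := ha (a⁻¹ r) m hm
    rw [Equiv.Perm.inv_def, Equiv.apply_symm_apply] at this
    exact this.symm

theorem v_ne_zero (r : Rt D) : C.v r ≠ 0 := fun h => by
  rcases em (r ∈ C.Pos) with hr | hr
  · have := C.ht_pos hr; simp [ht, h, phi] at this
  · have := C.ht_neg ((C.neg_iff_not_pos r).2 hr); simp [ht, h, phi] at this

/-- Length additivity for a minimal representative. -/
theorem len_mul {k : ℕ} {L : List (Fin D.rank)}
    (hx : ∀ j : Fin D.rank, (j : ℕ) < k → C.pprod L (C.p j) ∈ C.Pos)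
    {y : Equiv.Perm (Rt D)} (hy : y ∈ C.WJ k) :
    C.len (C.pprod L * y) = C.len (C.pprod L) + C.len y := by
  have hsmall : ∀ r ∈ C.Pos, (∀ m : Fin D.rank, k ≤ (m : ℕ) → C.v r m = 0) → C.pprod L r ∈ C.Pos := by
    intro r hr hz
    by_contra hn
    have hneg := (C.neg_iff_not_pos _).2 hn
    refine C.v_ne_zero (C.pprod L r) (funext fun m => le_antisymm (C.v_nonpos hneg m) ?_)
    rw [C.pprod_v]
    refine Finset.sum_nonneg fun j _ => ?_
    by_cases hj : (j : ℕ) < k
    · exact mul_nonneg (C.v_nonneg hr j) (C.v_nonneg (hx j hj) m)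
    · simp [hz j (not_lt.1 hj)]
  have hinv : ∀ r, r ∈ C.inv' y → ∀ m : Fin D.rank, k ≤ (m : ℕ) → C.v r m = 0 := by
    intro r hr m hm
    have h1 := C.v_nonneg hr.1 m
    have h2 := C.v_nonpos hr.2 m
    rw [C.WJ_coord hy r m hm] at h2
    omega
  have hrev : ∀ r, y r.rev = (y r).rev := C.WG_rev ⟨y, C.WJ_le k hy⟩
  have e : C.inv' (C.pprod L * y) = C.inv' y ∪ y ⁻¹' C.inv' (C.pprod L) := by
    ext r
    constructor
    · rintro ⟨hr, hn⟩
      by_cases h : y r ∈ C.Pos
      · exact Or.inr ⟨h, hn⟩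
      · exact Or.inl ⟨hr, (C.neg_iff_not_pos _).2 h⟩
    · rintro (hr | ⟨hp, hn⟩)
      · refine ⟨hr.1, ?_⟩
        have h := hsmall (y r).rev (C.rev_pos hr.2) fun m hm => by
          rw [C.v_rev, Pi.neg_apply, C.WJ_coord hy r m hm, hinv r hr m hm, neg_zero]
        rw [C.pprod_rev] at h
        have := C.rev_neg h
        rwa [C.rev_rev] at this
      · refine ⟨?_, hn⟩
        by_contra hc
        have hr' : r.rev ∈ C.inv' y :=
          ⟨C.rev_pos ((C.neg_iff_not_pos r).2 hc), by rw [hrev]; exact C.rev_neg hp⟩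
        refine (C.neg_iff_not_pos _).1 hn (hsmall (y r) hp fun m hm => ?_)
        have := hinv _ hr' m hm
        rw [C.v_rev, Pi.neg_apply, neg_eq_zero] at this
        rw [C.WJ_coord hy r m hm, this]
  have hd : Disjoint (C.inv' y) (y ⁻¹' C.inv' (C.pprod L)) :=
    Set.disjoint_left.2 fun r h1 h2 => (C.neg_iff_not_pos _).1 h1.2 h2.1
  rw [len, len, len, e, Set.ncard_union_eq hd, Set.ncard_preimage_of_injective_subset_range y.injective
    (by rw [y.range_eq_univ]; exact Set.subset_univ _)]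
  omega

theorem eq_one_of_len_zero {σ : Equiv.Perm (Rt D)} (hσ : σ ∈ C.WG) (h : C.len σ = 0) : σ = 1 := by
  obtain ⟨L, rfl⟩ := C.mem_WG_iff.1 hσ
  by_contra hne
  obtain ⟨i, hi⟩ := C.exists_descent hne
  rw [len, Set.ncard_eq_zero] at h
  exact (Set.eq_empty_iff_forall_notMem.1 h (C.p i)) ⟨C.p_pos i, hi⟩

variable {C}

theorem LevelOK.bijective {k : ℕ} {R : List (List (Fin D.rank))} (h : C.LevelOK k R) :
    Function.Bijective (fun x : Fin R.length × C.WJ k =>
      (⟨C.pprod R[x.1] * x.2, mul_mem (C.pprod_mem_WJ fun i hi => Nat.lt_succ_of_le (h.le _ (List.getElem_mem _) i hi))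
        ((Subgroup.closure_mono fun _ ⟨i, hi, e⟩ => ⟨i, Nat.lt_succ_of_lt hi, e⟩ : C.WJ k ≤ C.WJ (k + 1)) x.2.2)⟩ :
        C.WJ (k + 1))) := by
  constructor
  · rintro ⟨a, y⟩ ⟨b, z⟩ e
    have e' : C.pprod R[a] * (y : Equiv.Perm (Rt D)) = C.pprod R[b] * z := congrArg Subtype.val e
    have hyz : (z : Equiv.Perm (Rt D)) * (y : Equiv.Perm (Rt D))⁻¹ ∈ C.WJ k := mul_mem z.2 (inv_mem y.2)
    have h1 : C.pprod R[a] = C.pprod R[b] * ((z : Equiv.Perm (Rt D)) * (y : Equiv.Perm (Rt D))⁻¹) := by
      rw [← mul_assoc, ← e', mul_inv_cancel_right]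
    have h2 : C.pprod R[b] = C.pprod R[a] * ((z : Equiv.Perm (Rt D)) * (y : Equiv.Perm (Rt D))⁻¹)⁻¹ := by
      rw [h1, mul_inv_cancel_right]
    have l1 := C.len_mul (h.pos R[b] (List.getElem_mem _)) hyz
    have l2 := C.len_mul (h.pos R[a] (List.getElem_mem _)) (inv_mem hyz)
    rw [← h1] at l1
    rw [← h2] at l2
    have h0 := C.eq_one_of_len_zero (C.WJ_le k hyz) (by omega)
    rw [h0, mul_one] at h1
    have hab : a = b := by
      have := (List.Nodup.getElem_inj_iff h.nodup (i := a.val) (hi := by simp) (j := b.val) (hj := by simp)).1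
        (by simpa using h1)
      exact Fin.ext this
    subst hab
    rw [mul_inv_eq_one] at h0
    exact Prod.ext rfl (Subtype.ext h0.symm)
  · rintro ⟨w, hw⟩
    suffices hh : ∃ L ∈ R, ∃ y ∈ C.WJ k, w = C.pprod L * y by
      obtain ⟨L, hL, y, hy, rfl⟩ := hh
      obtain ⟨a, ha, rfl⟩ := List.getElem_of_mem hL
      exact ⟨(⟨a, ha⟩, ⟨y, hy⟩), rfl⟩
    have step : ∀ (i : Fin D.rank), (i : ℕ) < k + 1 → ∀ w, (∃ L ∈ R, ∃ y ∈ C.WJ k, w = C.pprod L * y) →
        ∃ L ∈ R, ∃ y ∈ C.WJ k, C.sref i * w = C.pprod L * y := by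
      rintro i hi w ⟨L, hL, y, hy, rfl⟩
      obtain ⟨L', hL', z, hz, e⟩ := h.closed L hL i (Nat.le_of_lt_succ hi)
      exact ⟨L', hL', z * y, mul_mem hz hy, by rw [← mul_assoc, e, mul_assoc]⟩
    induction hw using Subgroup.closure_induction_left with
    | one => exact ⟨[], h.nil, 1, one_mem _, by rw [C.pprod_nil, one_mul]⟩
    | mul_left x hx y _ ih =>
      obtain ⟨i, hi, rfl⟩ := hx
      exact step i hi y ih
    | inv_mul_cancel x hx y _ ih =>
      obtain ⟨i, hi, rfl⟩ := hx
      rw [inv_eq_of_mul_eq_one_right (C.sref_mul_self i)]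
      exact step i hi y ih

variable (C)

theorem WJ_zero : C.WJ 0 = ⊥ := by
  rw [eq_bot_iff]
  exact (Subgroup.closure_le _).2 fun _ ⟨i, hi, _⟩ => absurd hi (Nat.not_lt_zero _)

open scoped Classical in
theorem sum_WJ (R : ℕ → List (List (Fin D.rank))) (n : ℕ) (h : ∀ k < n, C.LevelOK k (R k)) (q : ℕ) :
    ∑ σ : C.WJ n, q ^ C.len (σ : Equiv.Perm (Rt D)) =
      ∏ k ∈ Finset.range n, ((R k).map fun L => q ^ L.length).sum := by
  induction n with
  | zero =>
    have : Subsingleton (C.WJ 0) := by rw [C.WJ_zero]; infer_instance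
    rw [Fintype.sum_subsingleton _ (1 : C.WJ 0)]
    simp [C.len_one]
  | succ n ih =>
    have hn := h n (Nat.lt_succ_self n)
    rw [Finset.prod_range_succ, ← ih (fun k hk => h k (Nat.lt_succ_of_lt hk)),
      ← Fin.sum_univ_fun_getElem, Finset.sum_mul_sum,
      ← (Equiv.ofBijective _ hn.bijective).sum_comp, Fintype.sum_prod_type, Finset.sum_comm]
    refine Finset.sum_congr rfl fun a _ => Finset.sum_congr rfl fun b _ => ?_
    simp only [Equiv.ofBijective_apply, Fin.getElem_fin]
    rw [C.len_mul (hn.pos _ (List.getElem_mem _)) a.2, hn.red _ (List.getElem_mem _), pow_add, mul_comm]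

end Core

/-! ### the Boolean check on packed tables -/

namespace Fast

variable (F : Fast)

/-- The action of a word. -/
def actW (L : List ℕ) (r : ℕ) : ℕ := L.foldr F.w r

/-- One level of the chain: representatives and closure witnesses. -/
def levelOK (k : ℕ) (R : List (List ℕ)) (T : List (List (ℕ × List ℕ))) : Bool :=
  Nat.blt k F.l && Nat.beq R.length T.length && R.any (fun L => L.isEmpty) &&
  allLt R.length (fun a =>
    (R.getD a []).all (fun i => Nat.ble i k) &&
    allLt k (fun j => Nat.ble F.half (F.actW (R.getD a []) (F.p j))) &&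
    allLt (R.getD a []).length (fun m => Nat.ble F.half (F.actW ((R.getD a []).take m) (F.p ((R.getD a []).getD m 0)))) &&
    allLt (k + 1) (fun i =>
      Nat.blt ((T.getD a []).getD i (0, [])).1 R.length &&
      ((T.getD a []).getD i (0, [])).2.all (fun m => Nat.blt m k) &&
      allLt F.l (fun j => Nat.beq (F.actW (i :: R.getD a []) (F.p j))
        (F.actW (R.getD ((T.getD a []).getD i (0, [])).1 [] ++ ((T.getD a []).getD i (0, [])).2) (F.p j))))) &&
  decide ((R.map fun L => (List.range F.l).map fun j => F.actW L (F.p j)).Nodup)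

end Fast

/-- A word of natural numbers as a word in the nodes. -/
def toFinL (n : ℕ) (L : List ℕ) : List (Fin n) := L.filterMap fun i => if h : i < n then some ⟨i, h⟩ else none

theorem toFinL_val {n : ℕ} : ∀ {L : List ℕ}, (∀ i ∈ L, i < n) → (toFinL n L).map Fin.val = L
  | [], _ => rfl
  | i :: L, h => by
    have ih := toFinL_val (n := n) (L := L) fun j hj => h j (List.mem_cons_of_mem _ hj)
    unfold toFinL at ih ⊢
    rw [List.filterMap_cons, dif_pos (h i List.mem_cons_self)]
    simp [ih]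

namespace Fast.Certified

variable {F : Fast} {D : ChevalleyDatum} (H : Certified F D)
include H

theorem actW_eq : ∀ (L : List (Fin D.rank)) (r : Rt D), (H.core.pprod L r).val = F.actW (L.map Fin.val) r.val
  | [], _ => rfl
  | i :: L, r => by
    rw [Core.pprod_cons, Equiv.Perm.mul_apply, Core.sref_apply, List.map_cons, actW, List.foldr_cons]
    show F.w i.val (H.core.pprod L r).val = _
    rw [actW_eq L r]
    rfl

theorem p_val (j : Fin D.rank) : (H.core.p j).val = F.p j.val := rfl

theorem pos_half {r : Rt D} (h : F.half ≤ r.val) : r ∈ H.core.Pos := by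
  show D.nroots ≤ 2 * r.val
  have := H.hn; have := H.half_eq
  omega

theorem level {k : ℕ} {R : List (List ℕ)} {T : List (List (ℕ × List ℕ))} (h : F.levelOK k R T = true) :
    H.core.LevelOK k (R.map (toFinL D.rank)) := by
  set C := H.core
  simp only [levelOK, Bool.and_eq_true, allLt_iff, List.all_eq_true, List.any_eq_true, decide_eq_true_eq,
    Nat.ble_eq, Nat.blt_eq] at h
  obtain ⟨⟨⟨⟨hk, -⟩, ⟨L0, hL0, hL0'⟩⟩, hall⟩, hnd⟩ := h
  have hl := H.hl
  have hlt : ∀ L ∈ R, ∀ i ∈ L, i < D.rank := by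
    intro L hL i hi
    obtain ⟨a, ha, rfl⟩ := List.getElem_of_mem hL
    have := (hall a ha).1.1.1 i (by rwa [List.getD_eq_getElem _ _ ha])
    omega
  have hval : ∀ L ∈ R, (toFinL D.rank L).map Fin.val = L := fun L hL => toFinL_val (hlt L hL)
  have hget : ∀ a (ha : a < R.length), R.getD a [] = R[a] := fun a ha => List.getD_eq_getElem _ _ ha
  refine
    { le := ?_, nil := ?_, pos := ?_, red := ?_, closed := ?_, nodup := ?_ }
  · intro L' hL' i hi
    obtain ⟨L, hL, rfl⟩ := List.mem_map.1 hL'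
    obtain ⟨a, ha, rfl⟩ := List.getElem_of_mem hL
    have hi' : i.val ∈ R.getD a [] := by
      rw [hget a ha, ← hval _ hL]; exact List.mem_map_of_mem hi
    exact (hall a ha).1.1.1 _ hi'
  · refine List.mem_map.2 ⟨L0, hL0, ?_⟩
    rw [List.isEmpty_iff.1 hL0']; rfl
  · intro L' hL' j hj
    obtain ⟨L, hL, rfl⟩ := List.mem_map.1 hL'
    obtain ⟨a, ha, rfl⟩ := List.getElem_of_mem hL
    refine H.pos_half ?_
    rw [H.actW_eq, hval _ hL, H.p_val, ← hget a ha]
    exact (hall a ha).1.1.2 j.val hj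
  · intro L' hL'
    obtain ⟨L, hL, rfl⟩ := List.mem_map.1 hL'
    obtain ⟨a, ha, rfl⟩ := List.getElem_of_mem hL
    have hv := hval _ hL
    generalize toFinL D.rank R[a] = M at hv
    suffices hh : ∀ m ≤ M.length, C.len (C.pprod (M.take m)) = m by
      simpa using hh M.length le_rfl
    intro m hm
    induction m with
    | zero => rw [List.take_zero, C.pprod_nil]; exact C.len_one
    | succ m ih =>
      rw [List.take_succ_eq_append_getElem (by omega), C.pprod_concat, C.len_mul_sref_pos (C.pprod_rev _) ?_,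
        ih (by omega)]
      refine H.pos_half ?_
      rw [H.actW_eq, H.p_val, List.map_take, hv, ← hget a ha]
      have hlen : M.length = (R.getD a []).length := by rw [hget a ha, ← hv, List.length_map]
      have h3 := (hall a ha).1.2 m (by omega)
      convert h3 using 3
      rw [List.getD_eq_getElem _ _ (by omega)]
      simp only [hget a ha, ← hv, List.getElem_map]
  · intro L' hL' i hi
    obtain ⟨L, hL, rfl⟩ := List.mem_map.1 hL'
    obtain ⟨a, ha, rfl⟩ := List.getElem_of_mem hL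
    obtain ⟨⟨hb, hM⟩, heq⟩ := (hall a ha).2 i.val (Nat.lt_succ_of_le hi)
    set e := (T.getD a []).getD i.val (0, [])
    have hbR : R.getD e.1 [] ∈ R := by rw [hget _ hb]; exact List.getElem_mem _
    refine ⟨toFinL D.rank (R.getD e.1 []), List.mem_map_of_mem hbR, C.pprod (toFinL D.rank e.2), ?_, ?_⟩
    · refine C.pprod_mem_WJ fun m hm => ?_
      refine hM m.val ?_
      rw [← toFinL_val (n := D.rank) (L := e.2) fun j hj => by have := hM j hj; omega]
      exact List.mem_map_of_mem hm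
    · rw [← C.pprod_append, ← C.pprod_cons]
      refine Equiv.ext fun r => C.v_inj (funext fun m => ?_)
      rw [C.pprod_v, C.pprod_v]
      refine Finset.sum_congr rfl fun j _ => ?_
      congr 2
      refine Fin.ext ?_
      rw [H.actW_eq, H.actW_eq, H.p_val, List.map_cons, List.map_append, hval _ hL, hval _ hbR,
        toFinL_val (fun x hx => by have := hM x hx; omega), ← hget a ha]
      exact Nat.eq_of_beq_eq_true (heq j.val (H.lt_l j))
  · rw [List.map_map]
    refine List.Nodup.map_on ?_ (List.Nodup.of_map _ hnd)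
    intro L hL L' hL' e
    have hinj := List.inj_on_of_nodup_map hnd hL hL'
    refine hinj (List.map_congr_left fun j hj => ?_)
    rw [List.mem_range, ← hl] at hj
    have := congrArg (fun σ : Equiv.Perm (Rt D) => (σ (C.p ⟨j, hj⟩)).val) e
    simp only [Function.comp_apply] at this
    rwa [H.actW_eq, H.actW_eq, H.p_val, hval _ hL, hval _ hL'] at this

end Fast.Certified

end Cfsg.Agent.Lib.ChevStructure
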