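import Cfsg.Agent.Lib.ChevStructure.Basic
import Cfsg.Agent.Lib.ChevStructure.Cert.G2
import Cfsg.Agent.Lib.ChevStructure.Cert.B2
import Cfsg.Agent.Lib.ChevStructure.Cert.D4
import Cfsg.Agent.Lib.ChevStructure.Cert.F4
import Cfsg.Agent.Lib.ChevStructure.Cert.E6
import Cfsg.Agent.Lib.ChevStructure.Cert.E7
import Cfsg.Agent.Lib.ChevStructure.Cert.E8
import Cfsg.Prelude.Def_LieTypes
import Cfsg.Prelude.Def_ChevB2

/-! The seven tabulated data. -/

set_option autoImplicit false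

namespace Cfsg.Agent.Lib.ChevStructure

open Cfsg.Lie

theorem nonempty_core (D : ChevalleyDatum)
    (hD : D ∈ [chevG2, chevB2, chevD4, chevF4, chevE6, chevE7, chevE8]) : Nonempty (Core D) := by
  simp only [List.mem_cons, List.not_mem_nil, or_false] at hD
  rcases hD with rfl | rfl | rfl | rfl | rfl | rfl | rfl
  exacts [⟨Cert.G2.core⟩, ⟨Cert.B2.core⟩, ⟨Cert.D4.core⟩, ⟨Cert.F4.core⟩, ⟨Cert.E6.core⟩, ⟨Cert.E7.core⟩,
    ⟨Cert.E8.core⟩]

end Cfsg.Agent.Lib.ChevStructure
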