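import Cfsg.Agent.Lib.ChevStructure.Core

/-!
Consequences of `Core D` over an arbitrary commutative ring: divided powers, the one-parameter law, the
elements n_r(t) and h_r(t), torus conjugation and conjugation by the n_p.
-/

set_option autoImplicit false
set_option linter.unusedSectionVars false

namespace Cfsg.Agent.Lib.ChevStructure

open Cfsg.Lie
open scoped MatrixGroups Matrix

variable {D : ChevalleyDatum}

/-- The weight of a basis vector. -/
def Core.wt (C : Core D) : D.Idx → Fin D.rank → ℤ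
  | Sum.inl _ => 0
  | Sum.inr s => C.v s

namespace Core

variable (C : Core D)

include C

theorem v_inj : Function.Injective C.v := fun a b h =>
  C.phi_strict.injective (congrArg phi h)

theorem phi_neg {l : ℕ} (a : Fin l → ℤ) : phi (-a) = - phi a := by
  simp [phi, Finset.sum_neg_distrib]

theorem phi_add {l : ℕ} (a b : Fin l → ℤ) : phi (a + b) = phi a + phi b := by
  simp [phi, add_mul, Finset.sum_add_distrib]

theorem phi_smul {l : ℕ} (c : ℤ) (a : Fin l → ℤ) : phi (c • a) = c * phi a := by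
  simp [phi, Finset.mul_sum, mul_assoc]

include C in
theorem rev_rev (r : Rt D) : r.rev.rev = r := Fin.rev_rev r

theorem A_rev (j : Fin D.rank) (r : Rt D) : A D j r.rev = - A D j r := by
  rw [C.A_lin, C.A_lin j r, C.v_rev, ← Finset.sum_neg_distrib]
  simp

theorem pr_p (i : Fin D.rank) (s : Rt D) : pr D (C.p i) s = A D i s := by
  simp [pr, C.co_p, Pi.single_apply]

theorem A_p (i : Fin D.rank) : A D i (C.p i) = 2 := by
  rw [← C.pr_p, C.pr_self]

theorem w_rev (i : Fin D.rank) (r : Rt D) : C.w i r.rev = (C.w i r).rev := by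
  apply C.v_inj
  simp only [C.v_w, C.v_rev, C.A_rev, neg_smul]
  abel

theorem w_p (i : Fin D.rank) : C.w i (C.p i) = (C.p i).rev := by
  apply C.v_inj
  rw [C.v_w, C.v_rev, C.A_p, C.v_p]
  module

theorem A_w (i j : Fin D.rank) (r : Rt D) :
    A D j (C.w i r) = A D j r - A D i r * A D j (C.p i) := by
  rw [C.A_lin, C.A_lin j r, C.v_w]
  simp [sub_mul, Finset.sum_sub_distrib, Pi.single_apply]

theorem pr_w (i : Fin D.rank) (r s : Rt D) : pr D (C.w i r) (C.w i s) = pr D r s := by
  have h1 : pr D (C.w i r) (C.w i s)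
      = ∑ j, co D r j * A D j (C.w i s) - pr D r (C.p i) * A D i (C.w i s) := by
    simp [pr, C.co_w, sub_mul, Finset.sum_sub_distrib, Pi.single_apply]
  have h2 : ∑ j, co D r j * A D j (C.w i s) = pr D r s - A D i s * pr D r (C.p i) := by
    simp only [C.A_w, pr, Finset.mul_sum, ← Finset.sum_sub_distrib]
    exact Finset.sum_congr rfl fun j _ => by ring
  rw [h1, h2, C.A_w, C.A_p]
  ring

theorem pr_rev (r s : Rt D) : pr D r.rev s = - pr D r s := by
  simp [pr, C.co_rev, Finset.sum_neg_distrib]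

theorem η_mul_self (i : Fin D.rank) (r : Rt D) : C.η i r * C.η i r = 1 := by
  rcases C.η_one i r with h | h <;> simp [h]

/-! ### divided powers -/

theorem E_one (r : Rt D) : Ek D ℤ 1 r = E D 1 r := by
  ext a b; simp [Ek]

theorem E_big (k : ℕ) (r : Rt D) (hk : 4 ≤ k) : E D k r = 0 := by
  obtain ⟨k, rfl⟩ := Nat.exists_eq_add_of_le hk
  rw [Nat.add_comm]
  ext a b
  have h := fun s u => C.chM_big (k + 3 + 1) r s u (by omega)
  rcases a with a | a <;> rcases b with b | b <;> simp [E, h]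

theorem E_mul (a b : ℕ) (r : Rt D) :
    E D a r * E D b r = ((a + b).choose a : ℤ) • E D (a + b) r := by
  induction a generalizing b with
  | zero => simp [E]
  | succ a ih =>
    apply smul_right_injective (Matrix D.Idx D.Idx ℤ) (show ((a : ℤ) + 1) ≠ 0 by omega)
    simp only
    rw [← Matrix.smul_mul, ← C.pow_succ a r, Matrix.mul_assoc, ih, Matrix.mul_smul, C.pow_succ,
      smul_smul, smul_smul, show a + b + 1 = a + 1 + b by ring]
    congr 1
    have h := Nat.add_one_mul_choose_eq (a + b) a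
    have h' : ((a + b : ℕ) + 1 : ℤ) * ((a + b).choose a : ℤ) = ((a + b + 1).choose (a + 1) : ℤ) * ((a : ℤ) + 1) := by
      exact_mod_cast h
    rw [show a + 1 + b = a + b + 1 by ring, mul_comm ((a : ℤ) + 1)]
    linarith

variable (R : Type*) [CommRing R]

theorem Ek_mul (a b : ℕ) (r : Rt D) :
    Ek D R a r * Ek D R b r = ((a + b).choose a : R) • Ek D R (a + b) r := by
  rw [Ek, Ek, Ek, ← Matrix.map_mul, C.E_mul]
  ext x y
  rw [Matrix.map_apply, Matrix.smul_apply, Matrix.smul_apply, Matrix.map_apply]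
  simp [smul_eq_mul]

theorem Ek_big (k : ℕ) (r : Rt D) (hk : 4 ≤ k) : Ek D R k r = 0 := by
  rw [Ek, C.E_big k r hk]; ext x y; simp

theorem Ek_zero (r : Rt D) : Ek D R 0 r = 1 := by
  simp [Ek, E, Matrix.map_one]

theorem xI_zero (r : Rt D) : xI D R r 0 = 1 := by
  simp [xI, Finset.sum_range_succ, C.Ek_zero]

theorem xI_add (r : Rt D) (t u : R) : xI D R r t * xI D R r u = xI D R r (t + u) := by
  simp only [xI, Finset.sum_range_succ, Finset.sum_range_zero, zero_add, add_mul, mul_add,
    Matrix.smul_mul, Matrix.mul_smul, smul_smul, C.Ek_mul]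
  norm_num [C.Ek_big, Nat.choose]
  match_scalars <;> ring

theorem xI_map {S : Type*} [CommRing S] (f : R →+* S) (r : Rt D) (t : R) :
    (xI D R r t).map f = xI D S r (f t) := by
  ext a b
  simp [xI, Matrix.sum_apply, Ek]

theorem xI_eq_x (F : Type*) [Field F] (r : Rt D) (t : F) : D.x F r.val t = xI D F r t := by
  have key : ∀ s u : Rt D, s ≠ r → s ≠ r.rev →
      ((D.chainCoeff r.val s.val u.val).map fun km => ((km.2 : ℤ) : F) * t ^ km.1).sum =
        ∑ k ∈ Finset.range 3, ((chM D (k + 1) r s u : ℤ) : F) * t ^ (k + 1) := by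
    intro s u h1 h2
    have h := congrArg (Polynomial.eval₂ (Int.castRingHom F) t) (C.coeff r s u h1 h2)
    rw [← Polynomial.coe_eval₂RingHom, map_list_sum, map_sum, List.map_map] at h
    simp only [Function.comp_def, Polynomial.coe_eval₂RingHom, Polynomial.eval₂_mul, Polynomial.eval₂_X_pow, Polynomial.eval₂_C] at h
    simpa only [eq_intCast] using h
  ext a b
  have hn : ∀ s : Rt D, (s.val = D.negIdx.getD r.val 0) ↔ s = r.rev := by
    intro s; rw [C.neg_eq, Fin.ext_iff]
  rcases a with a | a <;> rcases b with b | b <;>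
    simp only [ChevalleyDatum.x, r.isLt, dite_true, ChevalleyDatum.xMat, Matrix.of_apply, xI,
      Matrix.sum_apply, Matrix.smul_apply, Finset.sum_range_succ, Finset.sum_range_zero, zero_add,
      Ek, Matrix.map_apply, E, hn, Fin.eta, Matrix.one_apply, smul_eq_mul]
  · split_ifs <;> simp_all
  · by_cases h1 : b = r
    · subst h1; simp [(C.ne_rev b).symm]
    · by_cases h2 : b = r.rev <;> simp [h1, h2, co, C.ne_rev, mul_comm]
  · split_ifs <;> simp_all [A, ChevalleyDatum.cartan, mul_comm]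
  · by_cases h1 : b = r
    · subst h1
      simp [(C.ne_rev b).symm, C.chM_self]
    · by_cases h2 : b = r.rev
      · subst h2
        simp [C.ne_rev]
        split_ifs <;> simp_all [(C.ne_rev r).symm]
      · rw [if_neg h1, if_neg h2, key b a h1 h2]
        simp [Finset.sum_range_succ, h2]
        split_ifs <;> simp_all <;> ring

/-! ### the group elements -/

/-- x_r(t) as a unit. -/
def X (r : Rt D) (t : R) : GL D.Idx R where
  val := xI D R r t
  inv := xI D R r (-t)
  val_inv := by rw [C.xI_add, add_neg_cancel, C.xI_zero]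
  inv_val := by rw [C.xI_add, neg_add_cancel, C.xI_zero]

@[simp] theorem X_val (r : Rt D) (t : R) :
    ((C.X R r t : GL D.Idx R) : Matrix D.Idx D.Idx R) = xI D R r t := rfl

theorem X_add (r : Rt D) (t u : R) : C.X R r t * C.X R r u = C.X R r (t + u) :=
  Units.ext (C.xI_add R r t u)

theorem X_zero (r : Rt D) : C.X R r 0 = 1 := Units.ext (C.xI_zero R r)

theorem X_inv (r : Rt D) (t : R) : (C.X R r t)⁻¹ = C.X R r (-t) := Units.ext rfl

theorem X_map {S : Type*} [CommRing S] (f : R →+* S) (r : Rt D) (t : R) :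
    Matrix.GeneralLinearGroup.map f (C.X R r t) = C.X S r (f t) :=
  Units.ext (C.xI_map R f r t)

/-- n_r(u) = x_r(u) x_{-r}(-u⁻¹) x_r(u) for a unit u. -/
def nR (r : Rt D) (u : Rˣ) : GL D.Idx R :=
  C.X R r u * C.X R r.rev (-(↑u⁻¹ : R)) * C.X R r u

theorem nR_inv (r : Rt D) (u : Rˣ) : (C.nR R r u)⁻¹ = C.nR R r (-u) := by
  simp [nR, C.X_inv, mul_assoc]

/-- n_p for a fundamental root. -/
def P (i : Fin D.rank) : GL D.Idx R := C.nR R (C.p i) 1

theorem Pm_eq (i : Fin D.rank) :
    Pm D (C.p i) i (C.w i) (C.η i) = xI D ℤ (C.p i) 1 * xI D ℤ (C.p i).rev (-1) * xI D ℤ (C.p i) 1 := by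
  rw [mul_assoc, C.Pm_eq', ← mul_assoc, C.xI_add, add_neg_cancel, C.xI_zero, one_mul]

theorem P_val (i : Fin D.rank) :
    ((C.P R i : GL D.Idx R) : Matrix D.Idx D.Idx R)
      = (Pm D (C.p i) i (C.w i) (C.η i)).map (Int.castRingHom R) := by
  rw [C.Pm_eq, Matrix.map_mul, Matrix.map_mul]
  simp only [C.xI_map]
  simp [P, nR]

theorem conjE (i : Fin D.rank) (r : Rt D) (k : ℕ) :
    E D k (C.w i r) * Pm D (C.p i) i (C.w i) (C.η i)
      = C.η i r ^ k • (Pm D (C.p i) i (C.w i) (C.η i) * E D k r) := by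
  induction k with
  | zero => simp [E]
  | succ k ih =>
    apply smul_right_injective (Matrix D.Idx D.Idx ℤ) (show ((k : ℤ) + 1) ≠ 0 by omega)
    simp only
    rw [← Matrix.smul_mul, ← C.pow_succ, Matrix.mul_assoc, ih, Matrix.mul_smul, ← Matrix.mul_assoc,
      C.Pm_conj, Matrix.smul_mul, smul_smul, Matrix.mul_assoc, C.pow_succ, Matrix.mul_smul, smul_smul,
      smul_smul]
    congr 1
    ring

theorem P_X (i : Fin D.rank) (r : Rt D) (t : R) :
    C.P R i * C.X R r t = C.X R (C.w i r) ((C.η i r : R) * t) * C.P R i := by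
  apply Units.ext
  simp only [Units.val_mul, X_val, C.P_val, xI, Finset.mul_sum, Finset.sum_mul, Matrix.mul_smul,
    Matrix.smul_mul, Ek, ← Matrix.map_mul, C.conjE]
  refine Finset.sum_congr rfl fun k _ => ?_
  ext a b
  simp only [Matrix.smul_apply, Matrix.map_apply, smul_eq_mul, map_mul, map_pow, eq_intCast]
  have h : (C.η i r : R) * (C.η i r : R) = 1 := by exact_mod_cast congrArg (Int.cast (R := R)) (C.η_mul_self i r)
  have hk : (C.η i r : R) ^ k * (C.η i r : R) ^ k = 1 := by rw [← mul_pow, h, one_pow]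
  simp only [mul_pow]
  linear_combination (-(t ^ k * ((Pm D (C.p i) i (C.w i) (C.η i) * E D k r) a b : R))) * hk

/-- the sign η as a unit. -/
def ηU (i : Fin D.rank) (r : Rt D) : Rˣ where
  val := (C.η i r : R)
  inv := (C.η i r : R)
  val_inv := by rw [← Int.cast_mul, C.η_mul_self, Int.cast_one]
  inv_val := by rw [← Int.cast_mul, C.η_mul_self, Int.cast_one]

theorem P_X_conj (i : Fin D.rank) (r : Rt D) (t : R) :
    C.P R i * C.X R r t * (C.P R i)⁻¹ = C.X R (C.w i r) ((C.η i r : R) * t) := by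
  rw [C.P_X, mul_inv_cancel_right]

theorem P_nR_conj (i : Fin D.rank) (r : Rt D) (u : Rˣ) :
    C.P R i * C.nR R r u * (C.P R i)⁻¹ = C.nR R (C.w i r) (C.ηU R i r * u) := by
  have h : C.P R i * C.nR R r u * (C.P R i)⁻¹ =
      (C.P R i * C.X R r u * (C.P R i)⁻¹) * (C.P R i * C.X R r.rev (-(↑u⁻¹ : R)) * (C.P R i)⁻¹) *
      (C.P R i * C.X R r u * (C.P R i)⁻¹) := by
    simp only [nR]; group
  rw [h, C.P_X_conj, C.P_X_conj, C.w_rev, C.η_rev]
  simp [nR, ηU, mul_comm]

/-! ### diagonal elements -/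

/-- The diagonal element with entries 1 on the coroots and `d` on the root vectors. -/
def diag (d : Rt D → Rˣ) : GL D.Idx R where
  val := Matrix.diagonal (Sum.elim (fun _ => 1) fun s => (d s : R))
  inv := Matrix.diagonal (Sum.elim (fun _ => 1) fun s => ((d s)⁻¹ : Rˣ))
  val_inv := by
    rw [Matrix.diagonal_mul_diagonal, ← Matrix.diagonal_one]
    congr 1; funext x; rcases x with x | x <;> simp
  inv_val := by
    rw [Matrix.diagonal_mul_diagonal, ← Matrix.diagonal_one]
    congr 1; funext x; rcases x with x | x <;> simp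

theorem diag_mul (d e : Rt D → Rˣ) : diag R d * diag R e = diag R (d * e) := by
  apply Units.ext
  simp only [diag, Units.val_mul, Matrix.diagonal_mul_diagonal]
  congr 1; funext x; rcases x with x | x <;> simp

theorem diag_one : diag (D := D) R 1 = 1 := by
  apply Units.ext
  simp only [diag, Units.val_one]
  rw [← Matrix.diagonal_one]
  congr 1; funext x; rcases x with x | x <;> simp

theorem diag_inv (d : Rt D → Rˣ) : (diag R d)⁻¹ = diag R d⁻¹ := Units.ext rfl

theorem diag_inj : Function.Injective (diag (D := D) R) := by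
  intro d e h
  funext s
  apply Units.ext
  have h' : ((diag R d : GL D.Idx R) : Matrix D.Idx D.Idx R) = (diag R e : GL D.Idx R) := congrArg Units.val h
  simpa [diag] using Matrix.ext_iff.mpr h' (Sum.inr s) (Sum.inr s)

/-- The value at a root of a character of the root lattice. -/
def chr (χ : Fin D.rank → Rˣ) (s : Rt D) : Rˣ := ∏ m, χ m ^ C.v s m

/-- The torus element of a character of the root lattice. -/
def T (χ : Fin D.rank → Rˣ) : GL D.Idx R := diag R (C.chr R χ)

theorem chr_single (i : Fin D.rank) (a : Rˣ) (s : Rt D) :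
    C.chr R (Pi.mulSingle i a) s = a ^ C.v s i := by
  rw [chr, Finset.prod_eq_single i] <;> simp +contextual [Pi.mulSingle_apply]

theorem chr_rev (χ : Fin D.rank → Rˣ) (s : Rt D) : C.chr R χ s.rev = (C.chr R χ s)⁻¹ := by
  simp [chr, C.v_rev, ← Finset.prod_inv_distrib, zpow_neg]

theorem chr_mul (χ : Fin D.rank → Rˣ) (r s u : Rt D) (k : ℕ)
    (h : C.v u = C.v s + (k : ℤ) • C.v r) :
    C.chr R χ u = C.chr R χ s * C.chr R χ r ^ k := by
  simp [chr, h, zpow_add, zpow_mul, ← Finset.prod_pow, Finset.prod_mul_distrib, mul_comm (k : ℤ)]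

theorem E_weight (k : ℕ) (r : Rt D) (a b : D.Idx) (h : E D k r a b ≠ 0) :
    C.wt a = C.wt b + (k : ℤ) • C.v r := by
  cases k with
  | zero =>
    have : a = b := by by_contra hne; simp [E, Matrix.one_apply, hne] at h
    simp [this]
  | succ k =>
    rcases a with a | a <;> rcases b with b | b <;> simp only [E, Matrix.of_apply] at h <;>
      simp only [wt]
    · simp at h
    · split_ifs at h with hb
      · obtain ⟨rfl, rfl⟩ := hb; simp [C.v_rev]
      · simp at h
    · split_ifs at h with hb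
      · obtain ⟨rfl, rfl⟩ := hb; simp
      · simp at h
    · split_ifs at h with hb hc
      · obtain ⟨rfl, rfl⟩ := hc; subst hb; rw [C.v_rev]; push_cast; module
      · simp at h
      · rw [(C.chM_tgt k r b a h).2]; push_cast; rfl

theorem T_X (χ : Fin D.rank → Rˣ) (r : Rt D) (t : R) :
    C.T R χ * C.X R r t = C.X R r ((C.chr R χ r : R) * t) * C.T R χ := by
  apply Units.ext
  ext a b
  simp only [Units.val_mul, T, diag, X_val, Matrix.diagonal_mul, Matrix.mul_diagonal, xI,
    Matrix.sum_apply, Matrix.smul_apply, smul_eq_mul, Finset.mul_sum, Finset.sum_mul]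
  refine Finset.sum_congr rfl fun k _ => ?_
  by_cases h0 : E D k r a b = 0
  · simp [Ek, h0]
  have hw := C.E_weight k r a b h0
  have key : ∀ x : D.Idx, (Sum.elim (fun _ => (1 : R)) (fun s => (C.chr R χ s : R)) x)
      = ((∏ m, χ m ^ C.wt x m : Rˣ) : R) := by
    intro x; rcases x with x | x <;> simp [wt, chr]
  rw [key a, key b, hw]
  simp only [Pi.add_apply, Pi.smul_apply, smul_eq_mul, zpow_add, Finset.prod_mul_distrib, zpow_mul,
    mul_comm (k : ℤ), zpow_natCast, Finset.prod_pow, Units.val_mul, Units.val_pow_eq_pow_val, mul_pow]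
  simp only [chr]
  ring

theorem T_X_conj (χ : Fin D.rank → Rˣ) (r : Rt D) (t : R) :
    C.T R χ * C.X R r t * (C.T R χ)⁻¹ = C.X R r ((C.chr R χ r : R) * t) := by
  rw [C.T_X, mul_inv_cancel_right]

theorem T_nR_conj (χ : Fin D.rank → Rˣ) (r : Rt D) (u : Rˣ) :
    C.T R χ * C.nR R r u * (C.T R χ)⁻¹ = C.nR R r (C.chr R χ r * u) := by
  have h : C.T R χ * C.nR R r u * (C.T R χ)⁻¹ =
      (C.T R χ * C.X R r u * (C.T R χ)⁻¹) * (C.T R χ * C.X R r.rev (-(↑u⁻¹ : R)) * (C.T R χ)⁻¹) *
      (C.T R χ * C.X R r u * (C.T R χ)⁻¹) := by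
    simp only [nR]; group
  rw [h, C.T_X_conj, C.T_X_conj, C.chr_rev]
  simp [nR, mul_comm]

theorem P_diag (i : Fin D.rank) (d : Rt D → Rˣ) :
    C.P R i * diag R d = diag R (fun s => d (C.w i s)) * C.P R i := by
  apply Units.ext
  ext a b
  simp only [Units.val_mul, C.P_val, diag, Matrix.mul_diagonal, Matrix.diagonal_mul]
  rcases a with a | a <;> rcases b with b | b <;> simp only [Pm, Matrix.map_apply, Matrix.of_apply, Sum.elim_inl, Sum.elim_inr] <;> simp
  split_ifs with h
  · subst h; rw [C.w_w]; ring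
  · simp

theorem P_diag_conj (i : Fin D.rank) (d : Rt D → Rˣ) :
    C.P R i * diag R d * (C.P R i)⁻¹ = diag R (fun s => d (C.w i s)) := by
  rw [C.P_diag, mul_inv_cancel_right]

/-- h_r(c) as a diagonal element. -/
def hD (r : Rt D) (c : Rˣ) : GL D.Idx R := diag R fun s => c ^ pr D r s

/-- The product of two n_r's is diagonal. -/
theorem nR_mul (r : Rt D) : ∀ a b : Rˣ, C.nR R r a * C.nR R r b = hD R r (-(a * b⁻¹)) := by
  refine C.ind (fun r => ∀ a b : Rˣ, C.nR R r a * C.nR R r b = hD R r (-(a * b⁻¹))) ?_ ?_ r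
  · intro i a b
    have hn : ∀ c : Rˣ, C.nR R (C.p i) c =
        C.T R (Pi.mulSingle i c) * C.P R i * (C.T R (Pi.mulSingle i c))⁻¹ := by
      intro c
      rw [P, C.T_nR_conj, C.chr_single, C.v_p]
      simp
    have hb : C.nR R (C.p i) b = (C.nR R (C.p i) (-b))⁻¹ := by rw [C.nR_inv, neg_neg]
    rw [hb, hn a, hn (-b)]
    set Ta := C.T R (Pi.mulSingle i a)
    set Tb := C.T R (Pi.mulSingle i (-b))
    have e : Ta * C.P R i * Ta⁻¹ * (Tb * C.P R i * Tb⁻¹)⁻¹
        = Ta * (C.P R i * (Ta⁻¹ * Tb) * (C.P R i)⁻¹) * Tb⁻¹ := by group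
    rw [e]
    simp only [Ta, Tb, T, C.diag_inv, C.diag_mul, C.P_diag_conj, hD]
    congr 1
    funext s
    simp only [Pi.mul_apply, Pi.inv_apply, C.chr_single, C.pr_p, C.v_w, Pi.sub_apply, Pi.smul_apply,
      Pi.single_eq_same, smul_eq_mul, mul_one]
    have hq : (-(a * b⁻¹) : Rˣ) = a * (-b)⁻¹ := by
      rw [show (-b)⁻¹ = -b⁻¹ from Units.ext (by simp), mul_neg]
    rw [hq, mul_zpow, inv_zpow', zpow_sub, zpow_sub, zpow_neg]
    simp [mul_comm, mul_left_comm]
    rw [mul_assoc, mul_inv_cancel_right]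
  · intro i r ih a b
    have := ih (C.ηU R i r * a) (C.ηU R i r * b)
    have e := congrArg (fun g => C.P R i * g * (C.P R i)⁻¹) this
    rw [show C.P R i * (C.nR R r (C.ηU R i r * a) * C.nR R r (C.ηU R i r * b)) * (C.P R i)⁻¹ =
      (C.P R i * C.nR R r (C.ηU R i r * a) * (C.P R i)⁻¹) *
        (C.P R i * C.nR R r (C.ηU R i r * b) * (C.P R i)⁻¹) by group,
      C.P_nR_conj, C.P_nR_conj, ← mul_assoc, ← mul_assoc] at e
    have hη : C.ηU R i r * C.ηU R i r = 1 := Units.ext (C.ηU R i r).val_inv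
    rw [hη, one_mul, one_mul] at e
    rw [e]
    simp only [hD, C.P_diag_conj]
    congr 1
    funext s
    rw [← C.pr_w i r (C.w i s), C.w_w, mul_inv_rev]
    congr 2
    rw [show C.ηU R i r * a * (b⁻¹ * (C.ηU R i r)⁻¹) = a * b⁻¹ * (C.ηU R i r * (C.ηU R i r)⁻¹) by
      simp [mul_comm, mul_left_comm], mul_inv_cancel, mul_one]

/-- h_r(t) = n_r(t) n_r(-1) is diagonal. -/
theorem hR_eq (r : Rt D) (t : Rˣ) : C.nR R r t * C.nR R r (-1) = hD R r t := by
  rw [C.nR_mul]; simp

end Core

end Cfsg.Agent.Lib.ChevStructure
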