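import Cfsg.Agent.Lib.ChevStructure.Words

/-!
Matrices that raise a grading: the filtration of the unitriangular group, used for the unipotent
subgroups of the Chevalley groups.
-/

set_option autoImplicit false
set_option linter.unusedSectionVars false

namespace Cfsg.Agent.Lib.ChevStructure

open Cfsg.Lie
open scoped MatrixGroups Matrix

section Above

variable {ι : Type*} [Fintype ι] [DecidableEq ι] {R : Type*} [CommRing R] (f : ι → ℤ)

/-- Every nonzero entry raises `f` by more than `c`. -/
def Above (c : ℤ) (M : Matrix ι ι R) : Prop := ∀ a b, M a b ≠ 0 → f b + c < f a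

variable {f}

theorem Above.zero (c : ℤ) : Above f c (0 : Matrix ι ι R) := fun _ _ h => absurd rfl h

theorem Above.mono {c d : ℤ} {M : Matrix ι ι R} (h : Above f c M) (hd : d ≤ c) : Above f d M :=
  fun a b hab => by have := h a b hab; omega

theorem Above.add {c : ℤ} {M N : Matrix ι ι R} (hM : Above f c M) (hN : Above f c N) :
    Above f c (M + N) := fun a b h => by
  by_cases h0 : M a b = 0
  · exact hN a b (by simpa [h0] using h)
  · exact hM a b h0

theorem Above.neg {c : ℤ} {M : Matrix ι ι R} (hM : Above f c M) : Above f c (-M) :=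
  fun a b h => hM a b (by simpa using h)

theorem Above.sub {c : ℤ} {M N : Matrix ι ι R} (hM : Above f c M) (hN : Above f c N) :
    Above f c (M - N) := by rw [sub_eq_add_neg]; exact hM.add hN.neg

theorem Above.smul {c : ℤ} {M : Matrix ι ι R} (hM : Above f c M) (t : R) : Above f c (t • M) :=
  fun a b h => hM a b (fun h0 => h (by simp [h0]))

theorem Above.mul {c d : ℤ} {M N : Matrix ι ι R} (hM : Above f c M) (hN : Above f d N) :
    Above f (c + d + 1) (M * N) := fun a b h => by
  obtain ⟨x, -, hx⟩ := Finset.exists_ne_zero_of_sum_ne_zero (Matrix.mul_apply (M := M) (N := N) ▸ h)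
  have h1 := hM a x (left_ne_zero_of_mul hx)
  have h2 := hN x b (right_ne_zero_of_mul hx)
  omega

theorem Above.mul_one_add {c : ℤ} {M N : Matrix ι ι R} (hM : Above f c M) (hN : Above f 0 (N - 1)) :
    Above f c (M * N) := by
  have e : M * N = M + M * (N - 1) := by rw [mul_sub, mul_one]; abel
  rw [e]
  exact hM.add ((hM.mul hN).mono (by omega))

theorem Above.eq_zero {c : ℤ} {M : Matrix ι ι R} (hM : Above f c M) (hb : ∀ a b, f a - f b ≤ c) : M = 0 := by
  ext a b
  by_contra h
  have := hM a b h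
  have := hb a b
  omega

variable (f R)

/-- The subgroup of g with g - 1 raising `f` by more than `c`. -/
def upperU (c : ℤ) (hc : 0 ≤ c) : Subgroup (GL ι R) where
  carrier := {g | Above f c ((g : Matrix ι ι R) - 1) ∧ Above f c (((g⁻¹ : GL ι R) : Matrix ι ι R) - 1)}
  one_mem' := by simp [Above.zero]
  mul_mem' := by
    intro a b ha hb
    have key : ∀ M N : Matrix ι ι R, Above f c (M - 1) → Above f c (N - 1) → Above f c (M * N - 1) := by
      intro M N hM hN
      have e : M * N - 1 = (M - 1) + (N - 1) + (M - 1) * (N - 1) := by noncomm_ring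
      rw [e]
      exact (hM.add hN).add ((hM.mul hN).mono (by omega))
    refine ⟨by simpa using key _ _ ha.1 hb.1, ?_⟩
    rw [mul_inv_rev, Units.val_mul]
    exact key _ _ hb.2 ha.2
  inv_mem' := by
    intro a ha
    exact ⟨ha.2, by simpa using ha.1⟩

theorem upperU_mono {c d : ℤ} (hc : 0 ≤ c) (hd : 0 ≤ d) (h : d ≤ c) :
    upperU R f c hc ≤ upperU R f d hd := fun _ hg => ⟨hg.1.mono h, hg.2.mono h⟩

theorem upperU_comm {c : ℤ} (hc : 0 ≤ c) {g h : GL ι R} (hg : g ∈ upperU R f c hc)
    (hh : h ∈ upperU R f 0 le_rfl) : g * h * g⁻¹ * h⁻¹ ∈ upperU R f (c + 1) (by omega) := by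
  have key : ∀ a b : GL ι R, a ∈ upperU R f c hc → b ∈ upperU R f 0 le_rfl →
      Above f (c + 1) (((a * b * a⁻¹ * b⁻¹ : GL ι R) : Matrix ι ι R) - 1) ∧
      Above f (c + 1) (((b * a * b⁻¹ * a⁻¹ : GL ι R) : Matrix ι ι R) - 1) := by
    intro a b ha hb
    have h1 : Above f (c + 1) ((a : Matrix ι ι R) * (b : Matrix ι ι R) - (b : Matrix ι ι R) * (a : Matrix ι ι R)) := by
      have e : (a : Matrix ι ι R) * (b : Matrix ι ι R) - (b : Matrix ι ι R) * (a : Matrix ι ι R) = ((a : Matrix ι ι R) - 1) * ((b : Matrix ι ι R) - 1) -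
          ((b : Matrix ι ι R) - 1) * ((a : Matrix ι ι R) - 1) := by noncomm_ring
      rw [e]
      exact ((ha.1.mul hb.1).mono (by omega)).sub ((hb.1.mul ha.1).mono (by omega))
    have ha0 := upperU_mono R f hc le_rfl hc ha
    constructor
    · have e : ((a * b * a⁻¹ * b⁻¹ : GL ι R) : Matrix ι ι R) - 1 =
          ((a : Matrix ι ι R) * (b : Matrix ι ι R) - (b : Matrix ι ι R) * (a : Matrix ι ι R)) * ((a⁻¹ : GL ι R) : Matrix ι ι R) * ((b⁻¹ : GL ι R) : Matrix ι ι R) := by
        simp [sub_mul, mul_assoc]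
      rw [e]
      exact (h1.mul_one_add ha0.2).mul_one_add hb.2
    · have e : ((b * a * b⁻¹ * a⁻¹ : GL ι R) : Matrix ι ι R) - 1 =
          (-((a : Matrix ι ι R) * (b : Matrix ι ι R) - (b : Matrix ι ι R) * (a : Matrix ι ι R))) * ((b⁻¹ : GL ι R) : Matrix ι ι R) * ((a⁻¹ : GL ι R) : Matrix ι ι R) := by
        simp [sub_mul, mul_assoc]
      rw [e]
      exact (h1.neg.mul_one_add hb.2).mul_one_add ha0.2
  obtain ⟨k1, k2⟩ := key g h hg hh
  refine ⟨k1, ?_⟩
  rw [show (g * h * g⁻¹ * h⁻¹)⁻¹ = h * g * h⁻¹ * g⁻¹ by group]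
  exact k2

/-- Any group of matrices inside the unitriangular group is nilpotent. -/
theorem isNilpotent_of_le_upperU (K : Subgroup (GL ι R)) (hK : K ≤ upperU R f 0 le_rfl) :
    Group.IsNilpotent K := by
  have key : ∀ m : ℕ, K.lowerCentralSeries m ≤ upperU R f (m : ℤ) (by omega) := by
    intro m
    induction m with
    | zero => intro x hx; simpa using hK hx
    | succ m ih =>
      rw [Subgroup.lowerCentralSeries_succ, Subgroup.commutator_le]
      intro p hp q hq
      have := upperU_comm R f (c := (m : ℤ)) (by omega) (ih hp) (hK hq)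
      simpa [commutatorElement_def] using this
  rw [Subgroup.isNilpotent_iff_lowerCentralSeries]
  refine ⟨(∑ a, |f a|).toNat * 2, eq_bot_iff.2 fun x hx => ?_⟩
  have hx' := key _ hx
  have hz := hx'.1.eq_zero (fun a b => by
    have h1 := Finset.single_le_sum (f := fun a => |f a|) (fun a _ => abs_nonneg (f a)) (Finset.mem_univ a)
    have h2 := Finset.single_le_sum (f := fun a => |f a|) (fun a _ => abs_nonneg (f a)) (Finset.mem_univ b)
    have h3 := abs_le.mp h1
    have h4 := abs_le.mp h2
    push_cast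
    rw [Int.toNat_of_nonneg (Finset.sum_nonneg fun a _ => abs_nonneg (f a))]
    omega)
  rw [Subgroup.mem_bot]
  exact Units.ext (sub_eq_zero.mp hz)

end Above

end Cfsg.Agent.Lib.ChevStructure
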