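import Cfsg.Agent.Lib.ChevStructure.CommGL
import Cfsg.Agent.Lib.ChevStructure.Triangular

/-!
Unipotent subgroups generated by closed sets of roots: product form and uniqueness.
-/

set_option autoImplicit false
set_option linter.unusedSectionVars false

namespace Cfsg.Agent.Lib.ChevStructure

open Cfsg.Lie
open scoped MatrixGroups Matrix

variable {D : ChevalleyDatum}

namespace Core

/-- The additive height of a root. -/
def ht (C : Core D) (r : Rt D) : ℤ := phi (C.v r)

/-- The height of a basis vector. -/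
def fht (C : Core D) (a : D.Idx) : ℤ := phi (C.wt a)

/-- positive roots -/
def Pos (_C : Core D) : Set (Rt D) := {r | D.nroots ≤ 2 * r.val}

/-- negative roots -/
def Neg (_C : Core D) : Set (Rt D) := {r | 2 * r.val < D.nroots}

/-- X_r normalises the group of a set of roots. -/
def Absorb (C : Core D) (r : Rt D) (I : Set (Rt D)) : Prop :=
  r.rev ∉ I ∧ ∀ s ∈ I, s ≠ r → ∀ (q : Rt D) (i j : ℕ), 1 ≤ i → 1 ≤ j →
    C.v q = (i : ℤ) • C.v r + (j : ℤ) • C.v s → q ∈ I

/-- The subgroup generated by the root subgroups of a set of roots. -/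
def US (C : Core D) (R : Type*) [CommRing R] (S : Set (Rt D)) : Subgroup (GL D.Idx R) :=
  Subgroup.closure {g | ∃ r ∈ S, ∃ t : R, g = C.X R r t}

/-- The ordered product ∏ x_r(t_r). -/
def wordX (C : Core D) (R : Type*) [CommRing R] (L : List (Rt D)) (t : Rt D → R) : GL D.Idx R :=
  (L.map fun r => C.X R r (t r)).prod

/-- The positive roots in increasing order. -/
def posL (_C : Core D) : List (Rt D) :=
  (List.finRange D.nroots).filter fun r => decide (D.nroots ≤ 2 * r.val)

/-- The negative roots in increasing order. -/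
def negL (_C : Core D) : List (Rt D) :=
  (List.finRange D.nroots).filter fun r => decide (2 * r.val < D.nroots)

variable (C : Core D)
include C

theorem even_nroots : 2 ∣ D.nroots := by
  rcases Nat.even_or_odd D.nroots with h | ⟨m, hm⟩
  · exact h.two_dvd
  · exfalso
    have hlt : m < D.nroots := by omega
    exact C.ne_rev ⟨m, hlt⟩ (Fin.ext (by rw [Fin.val_rev]; show D.nroots - (m + 1) = m; omega))

theorem ht_rev (r : Rt D) : C.ht r.rev = - C.ht r := by
  rw [ht, C.v_rev, Core.phi_neg C]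
  rfl

theorem ht_lt {r s : Rt D} (h : r < s) : C.ht r < C.ht s := C.phi_strict h

theorem lt_of_ht_lt {r s : Rt D} (h : C.ht r < C.ht s) : r < s := C.phi_strict.lt_iff_lt.mp h

theorem ht_pos {r : Rt D} (h : r ∈ C.Pos) : 0 < C.ht r := by
  have hlt : r.rev < r := by
    have hne := C.ne_rev r
    have h' : D.nroots ≤ 2 * r.val := h
    rw [Fin.lt_def, Fin.val_rev]
    rw [Ne, Fin.ext_iff, Fin.val_rev] at hne
    omega
  have := C.ht_lt hlt
  rw [C.ht_rev] at this
  omega

theorem ht_neg {r : Rt D} (h : r ∈ C.Neg) : C.ht r < 0 := by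
  have h' : r.rev ∈ C.Pos := by
    have : 2 * r.val < D.nroots := h
    obtain ⟨m, hm⟩ := C.even_nroots
    show D.nroots ≤ 2 * r.rev.val
    rw [Fin.val_rev]; omega
  have := C.ht_pos h'
  rw [C.ht_rev] at this
  omega

theorem pos_iff_ht (r : Rt D) : r ∈ C.Pos ↔ 0 < C.ht r := by
  refine ⟨C.ht_pos, fun h => ?_⟩
  by_contra hn
  have : r ∈ C.Neg := by
    show 2 * r.val < D.nroots
    exact Nat.lt_of_not_le hn
  have := C.ht_neg this
  omega

theorem neg_iff_ht (r : Rt D) : r ∈ C.Neg ↔ C.ht r < 0 := by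
  refine ⟨C.ht_neg, fun h => ?_⟩
  by_contra hn
  have : r ∈ C.Pos := Nat.le_of_not_lt hn
  have := C.ht_pos this
  omega

theorem ht_combo {r s q : Rt D} {i j : ℤ} (h : C.v q = i • C.v r + j • C.v s) :
    C.ht q = i * C.ht r + j * C.ht s := by
  rw [ht, h, Core.phi_add C, Core.phi_smul C, Core.phi_smul C]
  rfl

theorem fht_inl (j : Fin D.rank) : C.fht (Sum.inl j) = 0 := by
  simp [fht, wt, phi]

theorem fht_inr (r : Rt D) : C.fht (Sum.inr r) = C.ht r := rfl

variable (R : Type*) [CommRing R]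

theorem X_mem_US {S : Set (Rt D)} {r : Rt D} (h : r ∈ S) (t : R) : C.X R r t ∈ C.US R S :=
  Subgroup.subset_closure ⟨r, h, t, rfl⟩

theorem US_mono {S T : Set (Rt D)} (h : S ⊆ T) : C.US R S ≤ C.US R T := by
  refine (Subgroup.closure_le _).2 ?_
  rintro g ⟨r, hr, t, rfl⟩
  exact C.X_mem_US R (h hr) t

theorem XN_mem_US {S : Set (Rt D)} {q : Rt D} (h : q ∈ S) {k : ℕ} (hk : k = q.val) (c : R) :
    C.XN R k c ∈ C.US R S := by
  subst hk; rw [C.XN_fin]; exact C.X_mem_US R h c

theorem absorb_of_closed {S I : Set (Rt D)} (hS : S ⊆ C.Pos) (hI : I ⊆ C.Pos)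
    (hcl : ∀ r ∈ S, ∀ s ∈ I, ∀ (q : Rt D) (i j : ℕ), 1 ≤ i → 1 ≤ j →
      C.v q = (i : ℤ) • C.v r + (j : ℤ) • C.v s → q ∈ I) {r : Rt D} (hr : r ∈ S) : C.Absorb r I := by
  refine ⟨fun h => ?_, fun s hs _ => hcl r hr s hs⟩
  have h1 := C.ht_pos (hI h)
  have h2 := C.ht_pos (hS hr)
  rw [C.ht_rev] at h1
  omega

theorem wordX_mem {S : Set (Rt D)} {L : List (Rt D)} (hL : ∀ r ∈ L, r ∈ S) (t : Rt D → R) :
    C.wordX R L t ∈ C.US R S := by
  refine list_prod_mem fun g hg => ?_
  rw [List.mem_map] at hg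
  obtain ⟨r, hr, rfl⟩ := hg
  exact C.X_mem_US R (hL r hr) _

theorem wordX_congr {L : List (Rt D)} {t t' : Rt D → R} (h : ∀ r ∈ L, t r = t' r) :
    C.wordX R L t = C.wordX R L t' := by
  unfold wordX
  rw [List.map_congr_left fun r hr => by rw [h r hr]]

end Core

namespace CommOK

variable {C : Core D} (H : CommOK C) {R : Type*} [CommRing R]
include H

theorem conj_mem {r s : Rt D} {I : Set (Rt D)} (ha : C.Absorb r I) (hs : s ∈ I) (t u : R) :
    C.X R r t * C.X R s u * (C.X R r t)⁻¹ ∈ C.US R I := by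
  by_cases hrs : s = r
  · subst hrs
    rw [C.X_inv, C.X_add, C.X_add, show t + u + -t = u by ring]
    exact C.X_mem_US R hs u
  have hne : s ≠ r.rev := fun h => ha.1 (h ▸ hs)
  have e := H.comm_X r s hrs hne (-t) u
  rw [C.X_inv, mul_assoc, e, ← mul_assoc, ← mul_assoc, C.X_add, add_neg_cancel, C.X_zero, one_mul]
  refine mul_mem (C.X_mem_US R hs u) (list_prod_mem fun g hg => ?_)
  rw [List.mem_map] at hg
  obtain ⟨c, hc, rfl⟩ := hg
  obtain ⟨q, hq, hi, hj, hv⟩ := H.terms r s hrs hne c hc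
  exact C.XN_mem_US R (ha.2 s hs hrs q _ _ hi hj hv) hq _

theorem mem_normalizer {r : Rt D} {I : Set (Rt D)} (ha : C.Absorb r I) (t : R) :
    C.X R r t ∈ Subgroup.normalizer (C.US R I : Set (GL D.Idx R)) := by
  have key : ∀ (t : R), ∀ g ∈ C.US R I, C.X R r t * g * (C.X R r t)⁻¹ ∈ C.US R I := by
    intro t g hg
    have hle : C.US R I ≤ (C.US R I).comap (MulAut.conj (C.X R r t)).toMonoidHom := by
      refine (Subgroup.closure_le _).2 ?_
      rintro x ⟨s, hs, u, rfl⟩
      exact H.conj_mem ha hs t u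
    exact hle hg
  rw [Subgroup.mem_normalizer_iff]
  intro g
  refine ⟨key t g, fun h => ?_⟩
  have := key (-t) _ h
  rw [← C.X_inv] at this
  simpa [mul_assoc] using this

/-- Ordered products over a sorted list of positive roots, closed under sums, form a subgroup. -/
theorem exists_word : ∀ {L : List (Rt D)}, L.Pairwise (· < ·) → (∀ r ∈ L, r ∈ C.Pos) →
    (∀ r ∈ L, ∀ s ∈ L, ∀ (q : Rt D) (i j : ℕ), 1 ≤ i → 1 ≤ j →
      C.v q = (i : ℤ) • C.v r + (j : ℤ) • C.v s → q ∈ L) →
    ∀ {g : GL D.Idx R}, g ∈ C.US R {r | r ∈ L} → ∃ t : Rt D → R, g = C.wordX R L t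
  | [], _, _, _, g, hg => by
    refine ⟨0, ?_⟩
    have hb : g ∈ (⊥ : Subgroup (GL D.Idx R)) := by
      refine (Subgroup.closure_le _).2 ?_ hg
      rintro x ⟨r, hr, -⟩
      simp at hr
    simpa [Core.wordX] using (Subgroup.mem_bot.1 hb)
  | k :: L, hp, hpos, hcl, g, hg => by
    obtain ⟨hk, hp'⟩ := List.pairwise_cons.1 hp
    have hpos' : ∀ r ∈ L, r ∈ C.Pos := fun r hr => hpos r (List.mem_cons_of_mem _ hr)
    have tail : ∀ (a b : Rt D), a ∈ k :: L → b ∈ L → ∀ (q : Rt D) (i j : ℕ), 1 ≤ i → 1 ≤ j →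
        C.v q = (i : ℤ) • C.v a + (j : ℤ) • C.v b → q ∈ L := by
      intro a b ha hb q i j hi hj hv
      have hq := hcl a ha b (List.mem_cons_of_mem _ hb) q i j hi hj hv
      rcases List.mem_cons.1 hq with h | h
      · exfalso
        have h1 := C.ht_combo hv
        have h2 := C.ht_pos (hpos a ha)
        have h3 := C.ht_pos (hpos' b hb)
        have h4 := C.ht_lt (hk b hb)
        rw [h] at h1
        have : (1 : ℤ) * C.ht b ≤ (j : ℤ) * C.ht b := mul_le_mul_of_nonneg_right (by omega) (by omega)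
        have : (0 : ℤ) ≤ (i : ℤ) * C.ht a := mul_nonneg (by omega) (by omega)
        omega
      · exact h
    have ih := fun {g : GL D.Idx R} => exists_word hp' hpos'
      (fun r hr s hs => tail r s (List.mem_cons_of_mem _ hr) hs) (g := g)
    have habs : C.Absorb k {r | r ∈ L} := by
      refine ⟨fun h => ?_, fun s hs _ => tail k s (List.mem_cons_self ..) hs⟩
      have h1 := C.ht_pos (hpos' _ h)
      have h2 := C.ht_pos (hpos k (List.mem_cons_self ..))
      rw [C.ht_rev] at h1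
      omega
    suffices hh : ∃ a : R, ∃ g' ∈ C.US R {r | r ∈ L}, g = C.X R k a * g' by
      obtain ⟨a, g', hg', rfl⟩ := hh
      obtain ⟨t, rfl⟩ := ih hg'
      refine ⟨Function.update t k a, ?_⟩
      have hkL : k ∉ L := fun h => lt_irrefl k (hk k h)
      simp only [Core.wordX, List.map_cons, List.prod_cons, Function.update_self]
      congr 1
      refine congrArg List.prod (List.map_congr_left fun r hr => ?_)
      rw [Function.update_of_ne]
      rintro rfl
      exact hkL hr
    have conj : ∀ (a : R) (g' : GL D.Idx R), g' ∈ C.US R {r | r ∈ L} →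
        C.X R k a * g' * (C.X R k a)⁻¹ ∈ C.US R {r | r ∈ L} := fun a g' hg' =>
      (Subgroup.mem_normalizer_iff.1 (H.mem_normalizer habs a) g').1 hg'
    induction hg using Subgroup.closure_induction with
    | mem x hx =>
      obtain ⟨r, hr, t, rfl⟩ := hx
      rcases List.mem_cons.1 hr with rfl | hr
      · exact ⟨t, 1, one_mem _, by rw [mul_one]⟩
      · exact ⟨0, _, C.X_mem_US R hr t, by rw [C.X_zero, one_mul]⟩
    | one => exact ⟨0, 1, one_mem _, by rw [C.X_zero, one_mul]⟩
    | mul x y _ _ hx hy =>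
      obtain ⟨a, g₁, h₁, rfl⟩ := hx
      obtain ⟨b, g₂, h₂, rfl⟩ := hy
      refine ⟨a + b, (C.X R k b)⁻¹ * g₁ * C.X R k b * g₂, mul_mem ?_ h₂, ?_⟩
      · have := conj (-b) g₁ h₁
        rwa [← C.X_inv, inv_inv] at this
      · rw [← C.X_add]; group
    | inv x _ hx =>
      obtain ⟨a, g₁, h₁, rfl⟩ := hx
      refine ⟨-a, C.X R k a * g₁⁻¹ * (C.X R k a)⁻¹, conj a _ (inv_mem h₁), ?_⟩
      rw [← C.X_inv]; group

end CommOK

namespace Core

variable (C : Core D) (R : Type*) [CommRing R]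
include C

theorem X_mem_upperU {σ c : ℤ} (hc : 0 ≤ c) {r : Rt D} (h : c < σ * C.ht r) (t : R) :
    C.X R r t ∈ upperU R (fun a => σ * C.fht a) c hc := by
  have key : ∀ t : R, Above (fun a => σ * C.fht a) c (xI D R r t - 1) := by
    intro t
    have e : xI D R r t - 1 = ∑ k ∈ Finset.range 3, t ^ (k + 1) • Ek D R (k + 1) r := by
      rw [xI, Finset.sum_range_succ' _ 3, C.Ek_zero]
      simp
    rw [e]
    intro a b hab
    rw [Matrix.sum_apply] at hab
    obtain ⟨k, -, hk⟩ := Finset.exists_ne_zero_of_sum_ne_zero hab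
    have hE : E D (k + 1) r a b ≠ 0 := fun h0 => hk (by simp [Ek, h0])
    have hw := C.E_weight (k + 1) r a b hE
    show σ * phi (C.wt b) + c < σ * phi (C.wt a)
    rw [hw, Core.phi_add C, Core.phi_smul C]
    have h' : c < σ * phi (C.v r) := h
    have : σ * phi (C.v r) ≤ (k + 1 : ℕ) * (σ * phi (C.v r)) :=
      le_mul_of_one_le_left (by omega) (by push_cast; omega)
    have e2 : σ * (phi (C.wt b) + ((k + 1 : ℕ) : ℤ) * phi (C.v r)) =
        σ * phi (C.wt b) + ((k + 1 : ℕ) : ℤ) * (σ * phi (C.v r)) := by ring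
    rw [e2]
    omega
  exact ⟨key t, by rw [C.X_inv]; exact key (-t)⟩

theorem US_le_upperU {σ c : ℤ} (hc : 0 ≤ c) {S : Set (Rt D)} (h : ∀ r ∈ S, c < σ * C.ht r) :
    C.US R S ≤ upperU R (fun a => σ * C.fht a) c hc := by
  refine (Subgroup.closure_le _).2 ?_
  rintro g ⟨r, hr, t, rfl⟩
  exact C.X_mem_upperU R hc (h r hr) t

theorem coord_zero {k : Rt D} (hk : k ∈ C.Pos) {g : GL D.Idx R}
    (hg : g ∈ upperU R (fun a => 1 * C.fht a) (C.ht k) (C.ht_pos hk).le) (t : R) (j : Fin D.rank) :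
    ((C.X R k t * g : GL D.Idx R) : Matrix D.Idx D.Idx R) (Sum.inl j) (Sum.inr k.rev) =
      (co D k j : R) * t := by
  have hp := C.ht_pos hk
  have hf : C.fht (Sum.inr k.rev) = - C.ht k := C.ht_rev k
  rw [Units.val_mul, Matrix.mul_apply, Finset.sum_eq_single (Sum.inr k.rev)]
  · have h1 : (g : Matrix D.Idx D.Idx R) (Sum.inr k.rev) (Sum.inr k.rev) = 1 := by
      by_contra hne
      have := hg.1 (Sum.inr k.rev) (Sum.inr k.rev) (by simp [sub_eq_zero, hne])
      omega
    rw [h1, mul_one, C.X_val]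
    simp [xI, Finset.sum_range_succ, Matrix.sum_apply, Ek, E, Matrix.one_apply, mul_comm]
  · intro x _ hx
    by_contra hne
    have h1 := hg.1 x (Sum.inr k.rev) (by
      simp [Matrix.one_apply, hx]; exact right_ne_zero_of_mul hne)
    simp only [one_mul, hf] at h1
    by_cases hxl : x = Sum.inl j
    · subst hxl; rw [C.fht_inl] at h1; omega
    · have h2 := (C.X_mem_upperU R (σ := 1) (c := 0) le_rfl (by omega) (r := k) t).1 (Sum.inl j) x (by
        simp [Matrix.one_apply, Ne.symm hxl]; exact left_ne_zero_of_mul hne)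
      simp only [one_mul, C.fht_inl] at h2
      omega
  · simp

theorem eq_zero_of_co_mul {k : Rt D} {t : R} (h : ∀ j, (co D k j : R) * t = 0) : t = 0 := by
  have h2 : (2 : R) * t = 0 := by
    have e : ((pr D k k : ℤ) : R) * t = 0 := by
      simp only [pr, Int.cast_sum, Int.cast_mul, Finset.sum_mul]
      exact Finset.sum_eq_zero fun j _ => by rw [mul_right_comm, h, zero_mul]
    rwa [C.pr_self, Int.cast_ofNat] at e
  obtain ⟨j, m, hm⟩ := C.co_odd k
  have := h j
  rw [hm, Int.cast_add, Int.cast_mul, Int.cast_one, Int.cast_ofNat, add_mul, one_mul,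
    mul_right_comm, h2, zero_mul, zero_add] at this
  exact this

theorem wordX_unique : ∀ {L : List (Rt D)}, L.Pairwise (· < ·) → (∀ r ∈ L, r ∈ C.Pos) →
    ∀ {t t' : Rt D → R}, C.wordX R L t = C.wordX R L t' → ∀ r ∈ L, t r = t' r
  | [], _, _, _, _, _, r, hr => by simp at hr
  | k :: L, hp, hpos, t, t', h, r, hr => by
    obtain ⟨hk, hp'⟩ := List.pairwise_cons.1 hp
    have hkp : k ∈ C.Pos := hpos k (List.mem_cons_self ..)
    have hmem : ∀ t : Rt D → R, C.wordX R L t ∈ upperU R (fun a => 1 * C.fht a) (C.ht k) (C.ht_pos hkp).le := by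
      intro t
      refine C.US_le_upperU R _ (S := {r | r ∈ L}) (fun s hs => ?_) (C.wordX_mem R (fun s hs => hs) t)
      rw [one_mul]; exact C.ht_lt (hk s hs)
    have e : C.X R k (t k - t' k) * C.wordX R L t = C.X R k 0 * C.wordX R L t' := by
      have h' : C.X R k (t k) * C.wordX R L t = C.X R k (t' k) * C.wordX R L t' := h
      rw [C.X_zero, one_mul, sub_eq_neg_add, ← C.X_add, mul_assoc, h', ← C.X_inv, inv_mul_cancel_left]
    have hz : t k - t' k = 0 := C.eq_zero_of_co_mul R fun j => by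
      have h1 := C.coord_zero R hkp (hmem t) (t k - t' k) j
      rw [e, C.coord_zero R hkp (hmem t') 0 j, mul_zero] at h1
      exact h1.symm
    rcases List.mem_cons.1 hr with rfl | hr
    · exact sub_eq_zero.1 hz
    · rw [hz, C.X_zero, one_mul, one_mul] at e
      exact wordX_unique hp' (fun s hs => hpos s (List.mem_cons_of_mem _ hs)) e r hr

theorem posL_sorted : C.posL.Pairwise (· < ·) := (List.pairwise_lt_finRange _).filter _

theorem mem_posL {r : Rt D} : r ∈ C.posL ↔ r ∈ C.Pos := by simp [posL, Pos]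

theorem posL_set : {r | r ∈ C.posL} = C.Pos := Set.ext fun _ => C.mem_posL

theorem card_pos : Nat.card {r : Rt D // r ∈ C.Pos} = D.nroots / 2 := by
  obtain ⟨h, hh⟩ := C.even_nroots
  have e : {r : Rt D // r ∈ C.Pos} ≃ Fin h :=
    { toFun := fun r => ⟨r.1.val - h, by have := r.1.isLt; have : D.nroots ≤ 2 * r.1.val := r.2; omega⟩
      invFun := fun k => ⟨⟨k.val + h, by omega⟩, by show D.nroots ≤ 2 * (k.val + h); omega⟩
      left_inv := fun r => by
        have : D.nroots ≤ 2 * r.1.val := r.2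
        apply Subtype.ext; apply Fin.ext; simp; omega
      right_inv := fun k => by apply Fin.ext; simp }
  rw [Nat.card_congr e, Nat.card_eq_fintype_card, Fintype.card_fin]
  omega

end Core

namespace CommOK

variable {C : Core D} (H : CommOK C) (R : Type*) [CommRing R]
include H

theorem pos_closed {r s q : Rt D} {i j : ℕ} (hr : r ∈ C.Pos) (hs : s ∈ C.Pos) (hj : 1 ≤ j)
    (hv : C.v q = (i : ℤ) • C.v r + (j : ℤ) • C.v s) : q ∈ C.Pos := by
  rw [C.pos_iff_ht, C.ht_combo hv]
  have := mul_pos (show (0 : ℤ) < j by omega) (C.ht_pos hs)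
  have := mul_nonneg (show (0 : ℤ) ≤ i by omega) (C.ht_pos hr).le
  omega

theorem exists_posWord {g : GL D.Idx R} (hg : g ∈ C.US R C.Pos) :
    ∃ t : Rt D → R, g = C.wordX R C.posL t := by
  refine H.exists_word (R := R) C.posL_sorted (fun r hr => C.mem_posL.1 hr)
    (fun r hr s hs q i j _ hj hv => C.mem_posL.2 (H.pos_closed (C.mem_posL.1 hr) (C.mem_posL.1 hs) hj hv)) ?_
  rwa [C.posL_set]

/-- U is in bijection with the functions on positive roots. -/
theorem card_posUS : Nat.card (C.US R C.Pos) = Nat.card R ^ (D.nroots / 2) := by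
  classical
  let ext0 : ({r : Rt D // r ∈ C.Pos} → R) → Rt D → R := fun t r => if h : r ∈ C.Pos then t ⟨r, h⟩ else 0
  let f : ({r : Rt D // r ∈ C.Pos} → R) → C.US R C.Pos := fun t =>
    ⟨C.wordX R C.posL (ext0 t), C.wordX_mem R (fun r hr => C.mem_posL.1 hr) _⟩
  have hf : Function.Bijective f := by
    refine ⟨fun t t' h => funext fun ⟨r, hr⟩ => ?_, fun ⟨g, hg⟩ => ?_⟩
    · have := C.wordX_unique R C.posL_sorted (fun r hr => C.mem_posL.1 hr) (congrArg Subtype.val h) r (C.mem_posL.2 hr)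
      simpa [ext0, hr] using this
    · obtain ⟨t, rfl⟩ := H.exists_posWord R hg
      exact ⟨fun r => t r.1, Subtype.ext (C.wordX_congr R fun r hr => by simp [ext0, C.mem_posL.1 hr])⟩
  rw [← Nat.card_congr (Equiv.ofBijective f hf), Nat.card_fun, C.card_pos]

end CommOK

namespace Core

variable (C : Core D) {F : Type*} [Field F]
include C

theorem posUnipotent_eq : D.posUnipotent F = C.US F C.Pos := by
  unfold ChevalleyDatum.posUnipotent US
  congr 1
  ext g
  constructor
  · rintro ⟨r, t, hr, hg⟩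
    exact ⟨⟨r, hr.1⟩, (C.pos_iff ⟨r, hr.1⟩).1 hr, t, C.eq_X hg⟩
  · rintro ⟨r, hr, t, rfl⟩
    exact ⟨r.val, t, (C.pos_iff r).2 hr, C.X_val_x r t⟩

theorem negUnipotent_eq : D.negUnipotent F = C.US F C.Neg := by
  unfold ChevalleyDatum.negUnipotent US
  congr 1
  ext g
  constructor
  · rintro ⟨r, t, hr, hg⟩
    exact ⟨⟨r, hr.1⟩, (C.negr_iff ⟨r, hr.1⟩).1 hr, t, C.eq_X hg⟩
  · rintro ⟨r, hr, t, rfl⟩
    exact ⟨r.val, t, (C.negr_iff r).2 hr, C.X_val_x r t⟩

theorem rootSubgroup_eq (r : Rt D) : D.rootSubgroup F r.val = C.US F {r} := by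
  unfold ChevalleyDatum.rootSubgroup US
  congr 1
  ext g
  constructor
  · rintro ⟨t, hg⟩
    exact ⟨r, rfl, t, C.eq_X hg⟩
  · rintro ⟨s, rfl, t, rfl⟩
    exact ⟨t, C.X_val_x s t⟩

theorem posU_isNilpotent : Group.IsNilpotent (C.US F C.Pos) :=
  isNilpotent_of_le_upperU F _ _ (C.US_le_upperU F le_rfl (σ := 1) fun r hr => by
    rw [one_mul]; exact C.ht_pos hr)

theorem unipotent_pow {g : GL D.Idx F} (hg : g ∈ C.US F C.Pos) :
    ((g : Matrix D.Idx D.Idx F) - 1) ^ (D.rank + D.nroots) = 0 := by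
  let rho : D.Idx → ℤ := fun a => match a with
    | Sum.inl _ => (D.nroots / 2 : ℕ)
    | Sum.inr s => if 2 * s.val < D.nroots then (s.val : ℤ) else (s.val : ℤ) + 1
  have hu := (C.US_le_upperU F le_rfl (σ := 1) (S := C.Pos)
    (fun r hr => by rw [one_mul]; exact C.ht_pos hr) hg).1
  obtain ⟨half, hhalf⟩ := C.even_nroots
  have h0 : Above rho 0 ((g : Matrix D.Idx D.Idx F) - 1) := by
    intro a b hab
    have h := hu a b hab
    simp only [one_mul, add_zero] at h ⊢
    rcases a with a | a <;> rcases b with b | b <;>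
      simp only [C.fht_inl, C.fht_inr, rho] at h ⊢
    · omega
    · have := (C.neg_iff_ht b).2 h
      have hb : 2 * b.val < D.nroots := this
      rw [if_pos hb]
      omega
    · have := (C.pos_iff_ht a).2 h
      have ha : D.nroots ≤ 2 * a.val := this
      rw [if_neg (by omega)]
      omega
    · have hlt := Fin.lt_def.1 (C.lt_of_ht_lt h)
      split_ifs <;> omega
  have hpow : ∀ m : ℕ, Above rho (m : ℤ) (((g : Matrix D.Idx D.Idx F) - 1) ^ (m + 1)) := by
    intro m
    induction m with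
    | zero => simpa using h0
    | succ m ih => rw [_root_.pow_succ]; exact (ih.mul h0).mono (by push_cast; omega)
  have hr := C.rank_pos
  have hz : ((g : Matrix D.Idx D.Idx F) - 1) ^ (D.nroots + 1) = 0 := by
    refine (hpow D.nroots).eq_zero fun a b => ?_
    have hb : ∀ x : D.Idx, 0 ≤ rho x ∧ rho x ≤ (D.nroots : ℤ) := by
      rintro (x | x) <;> simp only [rho]
      · omega
      · have := x.isLt; split_ifs <;> omega
    have := hb a; have := hb b
    omega
  exact pow_eq_zero_of_le (by omega) hz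

end Core

end Cfsg.Agent.Lib.ChevStructure
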