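import Cfsg.Agent.Lib.ChevStructure.Weyl

/-!
The monomial subgroup N = H·⟨n_p⟩, its action on the root subgroups, N/H as a group of permutations
of the roots, and B ∩ N = H.
-/

set_option autoImplicit false
set_option linter.unusedSectionVars false

namespace Cfsg.Agent.Lib.ChevStructure

open Cfsg.Lie
open scoped MatrixGroups Matrix

variable {D : ChevalleyDatum}

namespace Core

/-- `g` permutes the root subgroups by `σ`. -/
def Acts (C : Core D) {R : Type*} [CommRing R] (g : GL D.Idx R) (σ : Equiv.Perm (Rt D)) : Prop :=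
  ∀ r, ∃ e : Rˣ, ∀ t : R, g * C.X R r t * g⁻¹ = C.X R (σ r) ((e : R) * t)

section Ring

variable (C : Core D) (R : Type*) [CommRing R]
include C

theorem P_inv (i : Fin D.rank) : ∃ c, (C.P R i)⁻¹ = C.HT R c * C.P R i := by
  obtain ⟨e, he⟩ := C.P_sq R i
  obtain ⟨c, hc⟩ := C.P_HT R i e⁻¹
  refine ⟨c, ?_⟩
  rw [← hc]
  refine inv_eq_of_mul_eq_one_right ?_
  rw [← mul_assoc, he, C.HT_mul, mul_inv_cancel, C.HT_one]

theorem wprod_inv : ∀ L : List (Fin D.rank), ∃ c, (C.wprod R L)⁻¹ = C.HT R c * C.wprod R L.reverse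
  | [] => ⟨1, by simp [wprod, C.HT_one]⟩
  | i :: L => by
    obtain ⟨c, hc⟩ := wprod_inv L
    obtain ⟨d, hd⟩ := C.P_inv R i
    obtain ⟨d', hd'⟩ := C.wprod_HT R L.reverse d
    refine ⟨c * d', ?_⟩
    rw [C.wprod_cons, mul_inv_rev, hc, hd, List.reverse_cons, C.wprod_append, ← C.HT_mul, mul_assoc,
      ← mul_assoc (C.wprod R L.reverse), hd']
    simp [wprod, mul_assoc]

theorem HT_inv (c : Fin D.rank → Rˣ) : (C.HT R c)⁻¹ = C.HT R c⁻¹ :=
  (map_inv (C.HThom R) c).symm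

theorem acts_HT (c : Fin D.rank → Rˣ) : C.Acts (C.HT R c) 1 := fun r =>
  ⟨C.chA c r, fun t => C.HT_X_conj R c r t⟩

theorem acts_mul {g h : GL D.Idx R} {σ τ : Equiv.Perm (Rt D)} (hg : C.Acts g σ) (hh : C.Acts h τ) :
    C.Acts (g * h) (σ * τ) := by
  intro r
  obtain ⟨e, he⟩ := hh r
  obtain ⟨f, hf⟩ := hg (τ r)
  refine ⟨f * e, fun t => ?_⟩
  rw [Units.val_mul, Equiv.Perm.mul_apply, mul_assoc (f : R), ← hf, ← he]
  group

theorem acts_inv {g : GL D.Idx R} {σ : Equiv.Perm (Rt D)} (hg : C.Acts g σ) : C.Acts g⁻¹ σ⁻¹ := by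
  intro r
  obtain ⟨e, he⟩ := hg (σ⁻¹ r)
  refine ⟨e⁻¹, fun t => ?_⟩
  have h := he ((↑e⁻¹ : R) * t)
  rw [Units.mul_inv_cancel_left, Equiv.Perm.inv_def, Equiv.apply_symm_apply] at h
  rw [← h, Equiv.Perm.inv_def]
  simp [mul_assoc]

theorem acts_wprod (L : List (Fin D.rank)) : C.Acts (C.wprod R L) (C.pprod L) := C.wprod_X R L

theorem acts_HT_wprod (c : Fin D.rank → Rˣ) (L : List (Fin D.rank)) :
    C.Acts (C.HT R c * C.wprod R L) (C.pprod L) := by
  simpa using C.acts_mul R (C.acts_HT R c) (C.acts_wprod R L)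

theorem X_eq_X {r s : Rt D} {t u : R} (h : C.X R r t = C.X R s u) (hne : r ≠ s) : t = 0 := by
  refine C.eq_zero_of_co_mul R (k := r) fun j => ?_
  have e := congrFun (congrFun (congrArg (fun g : GL D.Idx R => (g : Matrix D.Idx D.Idx R)) h) (Sum.inl j)) (Sum.inr r.rev)
  simpa [X, xI, Matrix.sum_apply, Finset.sum_range_succ, Ek, E, Matrix.one_apply, mul_comm,
    Fin.rev_inj, hne, C.rev_rev] using e

theorem acts_unique [Nontrivial R] {g : GL D.Idx R} {σ τ : Equiv.Perm (Rt D)} (h₁ : C.Acts g σ)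
    (h₂ : C.Acts g τ) : σ = τ := by
  refine Equiv.ext fun r => ?_
  obtain ⟨e, he⟩ := h₁ r
  obtain ⟨f, hf⟩ := h₂ r
  by_contra hne
  have := C.X_eq_X R ((he 1).symm.trans (hf 1)) hne
  rw [mul_one] at this
  exact e.ne_zero this

theorem pprod_mem_WG (L : List (Fin D.rank)) : C.pprod L ∈ C.WG := C.mem_WG_iff.2 ⟨L, rfl⟩

theorem wprod_eq_HT_of_pprod_eq_one {L : List (Fin D.rank)} (h : C.pprod L = 1) :
    ∃ c, C.wprod R L = C.HT R c := by
  obtain ⟨L', c, hl, -, hw⟩ := C.len_pprod_le R L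
  rw [h, C.len_one, List.length_eq_zero_iff] at hl
  exact ⟨c, by rw [hw, hl]; simp [wprod]⟩

/-- A conjugate of a root subgroup generated group. -/
theorem map_conj_US {g : GL D.Idx R} {σ : Equiv.Perm (Rt D)} (hg : C.Acts g σ) (S : Set (Rt D)) :
    (C.US R S).map (MulAut.conj g).toMonoidHom = C.US R (σ '' S) := by
  rw [US, MonoidHom.map_closure, US]
  congr 1
  ext x
  constructor
  · rintro ⟨y, ⟨r, hr, t, rfl⟩, rfl⟩
    obtain ⟨e, he⟩ := hg r
    exact ⟨σ r, ⟨r, hr, rfl⟩, _, he t⟩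
  · rintro ⟨s, ⟨r, hr, rfl⟩, t, rfl⟩
    obtain ⟨e, he⟩ := hg r
    exact ⟨C.X R r ((↑e⁻¹ : R) * t), ⟨r, hr, _, rfl⟩, (he _).trans (by rw [Units.mul_inv_cancel_left])⟩

theorem conj_mem_US {g : GL D.Idx R} {σ : Equiv.Perm (Rt D)} (hg : C.Acts g σ) {S T : Set (Rt D)}
    (hST : ∀ r ∈ S, σ r ∈ T) {u : GL D.Idx R} (hu : u ∈ C.US R S) : g * u * g⁻¹ ∈ C.US R T := by
  have h : g * u * g⁻¹ ∈ (C.US R S).map (MulAut.conj g).toMonoidHom := ⟨u, hu, rfl⟩
  rw [C.map_conj_US R hg] at h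
  exact C.US_mono R (Set.image_subset_iff.2 hST) h

end Ring

variable (C : Core D) {F : Type*} [Field F]
include C

theorem P_mem_monomial (i : Fin D.rank) : C.P F i ∈ D.monomialSubgroup F :=
  Subgroup.mem_sup_right (Subgroup.subset_closure
    ⟨(C.p i).val, (C.p i).isLt, by rw [show (1 : F) = ((1 : Fˣ) : F) from rfl, C.nMat_eq]; rfl⟩)

theorem HT_mem_diagonal (c : Fin D.rank → Fˣ) : C.HT F c ∈ D.diagonalSubgroup F :=
  C.mem_diagonal_iff.2 ⟨c, rfl⟩

theorem HT_mem_monomial (c : Fin D.rank → Fˣ) : C.HT F c ∈ D.monomialSubgroup F :=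
  Subgroup.mem_sup_left (C.HT_mem_diagonal c)

theorem wprod_mem_monomial (L : List (Fin D.rank)) : C.wprod F L ∈ D.monomialSubgroup F :=
  list_prod_mem fun g hg => by
    rw [List.mem_map] at hg
    obtain ⟨i, -, rfl⟩ := hg
    exact C.P_mem_monomial i

/-- Every element of N is a torus element times a word in the n_p. -/
theorem exists_word_monomial {g : GL D.Idx F} (hg : g ∈ D.monomialSubgroup F) :
    ∃ c L, g = C.HT F c * C.wprod F L := by
  let M : Subgroup (GL D.Idx F) :=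
    { carrier := {g | ∃ c L, g = C.HT F c * C.wprod F L}
      one_mem' := ⟨1, [], by simp [wprod, C.HT_one]⟩
      mul_mem' := by
        rintro a b ⟨c, L, rfl⟩ ⟨d, M, rfl⟩
        obtain ⟨d', hd⟩ := C.wprod_HT F L d
        refine ⟨c * d', L ++ M, ?_⟩
        rw [← C.HT_mul, C.wprod_append, mul_assoc, ← mul_assoc (C.wprod F L), hd]
        group
      inv_mem' := by
        rintro a ⟨c, L, rfl⟩
        obtain ⟨d, hd⟩ := C.wprod_inv F L
        obtain ⟨c', hc⟩ := C.wprod_HT F L.reverse c⁻¹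
        refine ⟨d * c', L.reverse, ?_⟩
        rw [mul_inv_rev, hd, C.HT_inv, ← C.HT_mul, mul_assoc, hc, mul_assoc] }
  refine (sup_le ?_ ((Subgroup.closure_le M).2 ?_) : D.monomialSubgroup F ≤ M) hg
  · intro x hx
    obtain ⟨c, rfl⟩ := C.mem_diagonal_iff.1 hx
    exact ⟨c, [], by simp [wprod]⟩
  · rintro x ⟨r, hr, hx⟩
    have key : ∀ r, ∀ u : Fˣ, C.nR F r u ∈ M := by
      refine C.ind (fun r => ∀ u : Fˣ, C.nR F r u ∈ M) (fun i u => ?_) fun i r ih u => ?_
      · obtain ⟨c, hc⟩ := C.nR_p F i u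
        exact ⟨c, [i], by simp [hc, wprod]⟩
      · have hP : C.P F i ∈ M := ⟨1, [i], by simp [wprod, C.HT_one]⟩
        have e := C.P_nR_conj F i r ((C.ηU F i r)⁻¹ * u)
        rw [mul_inv_cancel_left] at e
        rw [← e]
        exact mul_mem (mul_mem hP (ih _)) (inv_mem hP)
    have e : x = C.nR F ⟨r, hr⟩ 1 := by
      refine Units.ext (hx.trans ?_)
      rw [← C.nMat_eq ⟨r, hr⟩ 1]
      rfl
    rw [e]
    exact key _ _

theorem exists_acts {g : GL D.Idx F} (hg : g ∈ D.monomialSubgroup F) : ∃ σ ∈ C.WG, C.Acts g σ := by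
  obtain ⟨c, L, rfl⟩ := C.exists_word_monomial hg
  exact ⟨_, C.pprod_mem_WG L, C.acts_HT_wprod F c L⟩

theorem mem_diagonal_of_acts_one {g : GL D.Idx F} (hg : g ∈ D.monomialSubgroup F) (h : C.Acts g 1) :
    g ∈ D.diagonalSubgroup F := by
  obtain ⟨c, L, rfl⟩ := C.exists_word_monomial hg
  obtain ⟨d, hd⟩ := C.wprod_eq_HT_of_pprod_eq_one F
    (C.acts_unique F (C.acts_HT_wprod F c L) h)
  rw [hd]
  exact mul_mem (C.HT_mem_diagonal c) (C.HT_mem_diagonal d)

theorem acts_diagonal {g : GL D.Idx F} (hg : g ∈ D.diagonalSubgroup F) : C.Acts g 1 := by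
  obtain ⟨c, rfl⟩ := C.mem_diagonal_iff.1 hg
  exact C.acts_HT F c

theorem conj_diagonal {n h : GL D.Idx F} (hn : n ∈ D.monomialSubgroup F) (hh : h ∈ D.diagonalSubgroup F) :
    n * h * n⁻¹ ∈ D.diagonalSubgroup F := by
  obtain ⟨σ, -, hσ⟩ := C.exists_acts hn
  refine C.mem_diagonal_of_acts_one (mul_mem (mul_mem hn (Subgroup.mem_sup_left hh)) (inv_mem hn)) ?_
  simpa using C.acts_mul F (C.acts_mul F hσ (C.acts_diagonal hh)) (C.acts_inv F hσ)

theorem diagonal_normal : ((D.diagonalSubgroup F).subgroupOf (D.monomialSubgroup F)).Normal :=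
  ⟨fun h hh n => C.conj_diagonal n.2 hh⟩

/-- The permutation of the roots induced by an element of N. -/
noncomputable def wOf (g : D.monomialSubgroup F) : C.WG :=
  ⟨(C.exists_acts g.2).choose, (C.exists_acts g.2).choose_spec.1⟩

theorem acts_wOf (g : D.monomialSubgroup F) : C.Acts (g : GL D.Idx F) (C.wOf g : Equiv.Perm (Rt D)) :=
  (C.exists_acts g.2).choose_spec.2

/-- The map N → W. -/
noncomputable def wHom : D.monomialSubgroup F →* C.WG where
  toFun := C.wOf
  map_one' := Subtype.ext (C.acts_unique F (C.acts_wOf 1) (by simpa [C.HT_one] using C.acts_HT F 1))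
  map_mul' g h := Subtype.ext (C.acts_unique F (C.acts_wOf (g * h))
    (C.acts_mul F (C.acts_wOf g) (C.acts_wOf h)))

theorem wHom_wprod (L : List (Fin D.rank)) :
    (C.wHom ⟨C.wprod F L, C.wprod_mem_monomial L⟩ : Equiv.Perm (Rt D)) = C.pprod L :=
  C.acts_unique F (C.acts_wOf _) (C.acts_wprod F L)

theorem wHom_P (i : Fin D.rank) :
    (C.wHom ⟨C.P F i, C.P_mem_monomial i⟩ : Equiv.Perm (Rt D)) = C.sref i := by
  refine C.acts_unique F (C.acts_wOf _) ?_
  simpa [wprod, pprod] using C.acts_wprod F [i]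

theorem wHom_surjective : Function.Surjective (C.wHom (F := F)) := by
  rintro ⟨σ, hσ⟩
  obtain ⟨L, rfl⟩ := C.mem_WG_iff.1 hσ
  exact ⟨_, Subtype.ext (C.wHom_wprod L)⟩

theorem wHom_ker : (C.wHom (F := F)).ker = (D.diagonalSubgroup F).subgroupOf (D.monomialSubgroup F) := by
  ext g
  rw [MonoidHom.mem_ker, Subgroup.mem_subgroupOf]
  constructor
  · intro h
    refine C.mem_diagonal_of_acts_one g.2 ?_
    have := C.acts_wOf g
    rwa [show C.wOf g = 1 from h] at this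
  · intro h
    exact Subtype.ext (C.acts_unique F (C.acts_wOf g) (C.acts_diagonal h))

/-! ### B ∩ N -/

theorem posUS_le_borel : C.US F C.Pos ≤ D.borelSubgroup F := by rw [C.borel_eq]; exact le_sup_left

theorem diagonal_le_borel : D.diagonalSubgroup F ≤ D.borelSubgroup F := le_sup_right

theorem X_mem_borel {r : Rt D} (hr : r ∈ C.Pos) (t : F) : C.X F r t ∈ D.borelSubgroup F :=
  C.posUS_le_borel (C.X_mem_US F hr t)

theorem X_eq_one {r : Rt D} {t : F} (h : C.X F r t = 1) : t = 0 := (C.x_eq_one_iff r t).1 (congrArg Units.val h)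

theorem X_neg_mem_borel {r : Rt D} (hr : r ∈ C.Neg) {t : F} (h : C.X F r t ∈ D.borelSubgroup F) : t = 0 := by
  refine C.X_eq_one (r := r) ?_
  rw [← Subgroup.mem_bot, ← C.borel_inf_negUS]
  exact ⟨h, C.X_mem_US F hr t⟩

/-- An element of N which lies in B lies in H. -/
theorem borel_inf_monomial : D.borelSubgroup F ⊓ D.monomialSubgroup F = D.diagonalSubgroup F := by
  refine le_antisymm ?_ (le_inf le_sup_right le_sup_left)
  rintro g ⟨hB, hN⟩
  obtain ⟨c, L, rfl⟩ := C.exists_word_monomial hN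
  refine C.mem_diagonal_of_acts_one hN ?_
  have ha := C.acts_HT_wprod F c L
  suffices h : C.pprod L = 1 by rwa [h] at ha
  by_contra hne
  obtain ⟨i, hi⟩ := C.exists_descent hne
  obtain ⟨e, he⟩ := ha (C.p i)
  have := C.X_neg_mem_borel hi (t := (e : F) * 1) (by
    rw [← he]; exact mul_mem (mul_mem hB (C.X_mem_borel (C.p_pos i) 1)) (inv_mem hB))
  simp at this

theorem posUS_inf_monomial : C.US F C.Pos ⊓ D.monomialSubgroup F = ⊥ := by
  rw [eq_bot_iff, ← C.US_inf_diagonal]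
  rintro g ⟨hU, hN⟩
  refine ⟨hU, ?_⟩
  rw [← C.borel_inf_monomial]
  exact ⟨C.posUS_le_borel hU, hN⟩

/-! ### generation -/

theorem X_mem_group (r : Rt D) (t : F) : C.X F r t ∈ D.group F :=
  Subgroup.subset_closure ⟨r, t, by rw [C.X_val_x, ChevalleyDatum.x, dif_pos r.isLt]⟩

theorem nR_mem_group (r : Rt D) (u : Fˣ) : C.nR F r u ∈ D.group F :=
  mul_mem (mul_mem (C.X_mem_group _ _) (C.X_mem_group _ _)) (C.X_mem_group _ _)

theorem HT_mem_group (c : Fin D.rank → Fˣ) : C.HT F c ∈ D.group F := by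
  rw [C.HT_list]
  refine list_prod_mem fun g hg => ?_
  rw [List.mem_map] at hg
  obtain ⟨i, -, rfl⟩ := hg
  rw [← C.hR_eq]
  exact mul_mem (C.nR_mem_group _ _) (C.nR_mem_group _ _)

theorem US_le_group (S : Set (Rt D)) : C.US F S ≤ D.group F :=
  (Subgroup.closure_le _).2 fun _ ⟨r, _, t, hg⟩ => hg ▸ C.X_mem_group r t

theorem diagonal_le_group : D.diagonalSubgroup F ≤ D.group F := by
  intro g hg
  obtain ⟨c, rfl⟩ := C.mem_diagonal_iff.1 hg
  exact C.HT_mem_group c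

theorem borel_le_group : D.borelSubgroup F ≤ D.group F := by
  rw [C.borel_eq]; exact sup_le (C.US_le_group _) C.diagonal_le_group

theorem monomial_le_group : D.monomialSubgroup F ≤ D.group F := by
  intro g hg
  obtain ⟨c, L, rfl⟩ := C.exists_word_monomial hg
  refine mul_mem (C.HT_mem_group c) (list_prod_mem fun g hg => ?_)
  rw [List.mem_map] at hg
  obtain ⟨i, -, rfl⟩ := hg
  exact C.nR_mem_group _ _

/-- G is generated by U and the n_p. -/
theorem group_le {M : Subgroup (GL D.Idx F)} (hU : C.US F C.Pos ≤ M) (hP : ∀ i, C.P F i ∈ M) :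
    D.group F ≤ M := by
  refine (Subgroup.closure_le _).2 ?_
  rintro g ⟨r, t, hg⟩
  have key : ∀ r : Rt D, ∀ t : F, C.X F r t ∈ M := by
    refine C.ind (fun r => ∀ t : F, C.X F r t ∈ M) (fun i t => hU (C.X_mem_US F (C.p_pos i) t))
      fun i r ih t => ?_
    have e := C.P_X_conj F i r ((C.η i r : F) * t)
    rw [← mul_assoc, ← Int.cast_mul, C.η_mul_self, Int.cast_one, one_mul] at e
    rw [← e]
    exact mul_mem (mul_mem (hP i) (ih _)) (inv_mem (hP i))
  have e : g = C.X F r t := C.eq_X (by rw [hg, ChevalleyDatum.x, dif_pos r.isLt])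
  rw [e]
  exact key _ _

theorem borel_sup_monomial : D.borelSubgroup F ⊔ D.monomialSubgroup F = D.group F :=
  le_antisymm (sup_le C.borel_le_group C.monomial_le_group)
    (C.group_le (C.posUS_le_borel.trans le_sup_left) fun i => Subgroup.mem_sup_right (C.P_mem_monomial i))

/-- The longest element carries U to V. -/
theorem exists_opposition : ∃ L, (∀ r ∈ C.Pos, C.pprod L r ∈ C.Neg) ∧
    (C.US F C.Pos).map (MulAut.conj (C.wprod F L)).toMonoidHom = C.US F C.Neg := by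
  obtain ⟨L, hL⟩ := C.exists_longest
  refine ⟨L, hL, ?_⟩
  rw [C.map_conj_US F (C.acts_wprod F L)]
  congr 1
  refine Set.Subset.antisymm (Set.image_subset_iff.2 hL) fun s hs => ?_
  refine ⟨(C.pprod L).symm s, ?_, Equiv.apply_symm_apply _ _⟩
  by_contra hn
  have h := hL _ (C.rev_pos ((C.neg_iff_not_pos _).2 hn))
  rw [C.pprod_rev, Equiv.apply_symm_apply] at h
  exact (C.neg_iff_not_pos _).1 h (C.rev_pos hs)

end Core

end Cfsg.Agent.Lib.ChevStructure
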