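import Cfsg.Prelude.Def_ChevStructure

/-!
Packed tables and the Boolean checks on them. Everything here reduces quickly in the kernel.
-/

set_option autoImplicit false

namespace Cfsg.Agent.Lib.ChevStructure

open Cfsg.Lie

/-- Packed tables of a datum. -/
structure Fast where
  l : ℕ
  n : ℕ
  half : ℕ
  row : ℕ → ℕ
  pT : ℕ
  vT : ℕ
  cT : ℕ
  aT : ℕ
  wT : ℕ
  parT : ℕ
  top : List (ℕ × ℕ × List ℕ)
  parTop : ℕ

/-- `allLt k f` says that `f` holds below `k`. -/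
def allLt : ℕ → (ℕ → Bool) → Bool
  | 0, _ => true
  | k + 1, f => f k && allLt k f

namespace Fast

variable (F : Fast)

def rv (r : ℕ) : ℕ := F.n - 1 - r
def p (i : ℕ) : ℕ := Nat.land (Nat.shiftRight F.pT (8 * i)) 255
def vp (r : ℕ) : ℕ := Nat.land (Nat.shiftRight F.vT (8 * F.l * r)) (2 ^ (8 * F.l) - 1)
def v (r m : ℕ) : ℤ := Int.subNatNat (Nat.land (Nat.shiftRight (F.vp r) (8 * m)) 255) 8
def vOff : ℕ → ℕ
  | 0 => 0
  | k + 1 => 8 + 256 * vOff k
def c (r m : ℕ) : ℤ := Int.subNatNat (Nat.land (Nat.shiftRight F.cT (4 * (r * F.l + m))) 15) 8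
def a (j r : ℕ) : ℤ := Int.subNatNat (Nat.land (Nat.shiftRight F.aT (4 * (j * F.n + r))) 15) 8
def wd (i r : ℕ) : ℕ := Nat.land (Nat.shiftRight F.wT (9 * (i * F.n + r))) 511
def w (i r : ℕ) : ℕ := Nat.shiftRight (F.wd i r) 1
def eta (i r : ℕ) : ℤ := cond (Nat.beq (Nat.land (F.wd i r) 1) 0) 1 (-1)
def parI (r : ℕ) : ℕ := Nat.land (Nat.shiftRight F.parT (12 * r)) 7
def dep (r : ℕ) : ℕ := Nat.shiftRight (Nat.land (Nat.shiftRight F.parT (12 * r)) 4095) 3
def parI' (r : ℕ) : ℕ := Nat.land (Nat.shiftRight F.parTop (12 * r)) 7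
def dep' (r : ℕ) : ℕ := Nat.shiftRight (Nat.land (Nat.shiftRight F.parTop (12 * r)) 4095) 3
def parS (T r : ℕ) : ℕ := Nat.land (Nat.shiftRight T (12 * r)) 7
def depS (T r : ℕ) : ℕ := Nat.shiftRight (Nat.land (Nat.shiftRight T (12 * r)) 4095) 3
def code (r s : ℕ) : ℕ := Nat.land (Nat.shiftRight (F.row r) (12 * s)) 4095
def tgt (k : ℕ) : ℕ := Nat.shiftRight k 3
def nn (k : ℕ) : ℤ := Int.subNatNat (Nat.land k 7) 4
def N (r s : ℕ) : ℤ := cond (Nat.beq (F.code r s) 0) 0 (nn (F.code r s))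
def sumL : ℕ → (ℕ → ℤ) → ℤ
  | 0, _ => 0
  | k + 1, f => sumL k f + f k
def pr (r s : ℕ) : ℤ := sumL F.l fun j => F.c r j * F.a j s
def phiV (r : ℕ) : ℤ := sumL F.l fun m => F.v r m * 16 ^ (F.l - 1 - m)

/-! ### vectors as lists of (index, coefficient) -/

def hList (r : ℕ) (x : ℤ) : List (ℕ × ℤ) :=
  (List.range F.l).filterMap fun j => if F.c r j = 0 then none else some (j, F.c r j * x)

def appE1 (r : ℕ) (e : ℕ × ℤ) : List (ℕ × ℤ) :=
  cond (Nat.blt e.1 F.l)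
    (if F.a e.1 r = 0 then [] else [(F.l + r, -(F.a e.1 r * e.2))])
    (cond (Nat.blt e.1 (F.l + F.n))
      (cond (Nat.beq (e.1 - F.l) (F.rv r)) (F.hList r e.2)
        (cond (Nat.beq (F.code r (e.1 - F.l)) 0) []
          [(F.l + tgt (F.code r (e.1 - F.l)), nn (F.code r (e.1 - F.l)) * e.2)]))
      [])

def appE (r : ℕ) : List (ℕ × ℤ) → List (ℕ × ℤ)
  | [] => []
  | e :: L => F.appE1 r e ++ appE r L

def scale (k : ℤ) (L : List (ℕ × ℤ)) : List (ℕ × ℤ) := L.map fun e => (e.1, k * e.2)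

def sumKey (k : ℕ) : List (ℕ × ℤ) → ℤ
  | [] => 0
  | e :: L => cond (Nat.beq e.1 k) (e.2 + sumKey k L) (sumKey k L)

def isZero (L : List (ℕ × ℤ)) : Bool := L.all fun e => decide (sumKey e.1 L = 0)

def appQ (r : ℕ) (t : ℤ) (L : List (ℕ × ℤ)) : List (ℕ × ℤ) :=
  scale 6 L ++ scale (6 * t) (F.appE r L) ++ scale (3 * t ^ 2) (F.appE r (F.appE r L))
    ++ scale (t ^ 3) (F.appE r (F.appE r (F.appE r L)))

def appP (i : ℕ) (e : ℕ × ℤ) : List (ℕ × ℤ) :=
  cond (Nat.blt e.1 F.l)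
    [(e.1, e.2), (i, -(F.a e.1 (F.p i) * e.2))]
    [(F.l + F.w i (e.1 - F.l), F.eta i (e.1 - F.l) * e.2)]

/-! ### checks -/

def commCol (p s : ℕ) (c : ℕ) : Bool :=
  isZero (F.appE p (F.appE s [(c, 1)]) ++ scale (-1) (F.appE s (F.appE p [(c, 1)]))
    ++ cond (Nat.beq (F.code p s) 0) []
        (scale (- nn (F.code p s)) (F.appE (tgt (F.code p s)) [(c, 1)])))

def commOK : Bool :=
  F.top.all fun q => q.2.2.all fun s => allLt (F.l + F.n) (F.commCol q.1 s)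

def pmCol (i c : ℕ) : Bool :=
  isZero (F.appQ (F.rv (F.p i)) (-1) (F.appQ (F.p i) 1 [(c, 1)]) ++
    scale (-6) (F.appQ (F.p i) (-1) (F.appP i (c, 1))))

def pmOK : Bool := allLt F.l fun i => allLt (F.l + F.n) (F.pmCol i)

def rootOK (r : ℕ) : Bool :=
  decide (F.pr r r = 2) && !Nat.beq (F.rv r) r &&
  (List.range F.l).any (fun j => decide (F.c r j % 2 = 1)) &&
  allLt F.l (fun m => Nat.ble (Nat.land (Nat.shiftRight (F.vp r) (8 * m)) 255) 16 &&
    decide (F.v (F.rv r) m = - F.v r m) && decide (F.c (F.rv r) m = - F.c r m) &&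
    decide (F.a m r = sumL F.l fun k => F.v r k * F.a m (F.p k)) &&
    cond (Nat.blt r F.half) true (decide (0 ≤ F.v r m) && decide (0 ≤ F.c r m))) &&
  cond (Nat.blt r F.half) ((List.range F.l).any fun j => decide (F.c r j < 0)) true &&
  cond (Nat.blt (r + 1) F.n) (decide (F.phiV r < F.phiV (r + 1))) true

def rootsOK : Bool := Nat.beq F.n (2 * F.half) && Nat.blt 0 F.l && allLt F.n F.rootOK

def simpleOK : Bool :=
  allLt F.l fun i => Nat.blt (F.p i) F.n && decide (F.eta i (F.p i) = -1) && allLt F.l fun m =>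
    decide (F.v (F.p i) m = cond (Nat.beq m i) 1 0) && decide (F.c (F.p i) m = cond (Nat.beq m i) 1 0)

def reflOK1 (i r : ℕ) : Bool :=
  Nat.blt (F.w i r) F.n && Nat.beq (F.w i (F.w i r)) r &&
  decide (F.eta i (F.rv r) = F.eta i r) &&
  allLt F.l (fun m => decide (F.v (F.w i r) m = F.v r m - cond (Nat.beq m i) (F.a i r) 0) &&
    decide (F.c (F.w i r) m = F.c r m - cond (Nat.beq m i) (F.pr r (F.p i)) 0))

def reflOK : Bool := allLt F.l fun i => allLt F.n (F.reflOK1 i)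

def reachOK1 (r : ℕ) : Bool :=
  (List.range F.l).any (fun i => Nat.beq (F.p i) r) ||
    (Nat.blt (F.parI r) F.l && Nat.blt (F.dep (F.w (F.parI r) r)) (F.dep r))

def reachTop1 (r : ℕ) : Bool :=
  F.top.any (fun q => Nat.beq q.1 r) ||
    (Nat.blt (F.parI' r) F.l && Nat.blt (F.dep' (F.w (F.parI' r) r)) (F.dep' r))

def stabOK1 (q : ℕ × ℕ × List ℕ) (s : ℕ) : Bool :=
  Nat.beq s (F.rv q.1) || q.2.2.any (fun b => Nat.beq b s) ||
    (Nat.blt (parS q.2.1 s) F.l && Nat.beq (F.w (parS q.2.1 s) q.1) q.1 &&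
      Nat.blt (depS q.2.1 (F.w (parS q.2.1 s) s)) (depS q.2.1 s))

def reachOK : Bool :=
  allLt F.n F.reachOK1 && allLt F.n F.reachTop1 &&
  F.top.all fun q => Nat.blt q.1 F.n && q.2.2.all (fun b => Nat.blt b F.n && !Nat.beq b (F.rv q.1)) &&
    allLt F.n (F.stabOK1 q)

def stepsOK (r : ℕ) : ℕ → ℤ → ℕ → List (ℕ × ℤ) → Bool
  | cur, _, _, [] => Nat.beq (F.code r cur) 0
  | cur, M, k, (u, M') :: rest =>
    !Nat.beq (F.code r cur) 0 && Nat.beq (tgt (F.code r cur)) u &&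
    decide (M * nn (F.code r cur) = ((k + 1 : ℕ) : ℤ) * M') && Nat.blt u F.n && !Nat.beq u (F.rv r) &&
    Nat.beq (F.vp u + vOff F.l) (F.vp cur + F.vp r) && stepsOK r u M' (k + 1) rest

def conjCode (i r s k1 : ℕ) (N1 : ℤ) : ℕ :=
  Nat.shiftRight (F.wd i k1) 1 * 8 +
    cond (Nat.beq (Nat.land (F.wd i r + F.wd i s + F.wd i k1) 1) 0) (N1 + 4).toNat (4 - N1).toNat

def conjOK (r s k1 : ℕ) (N1 : ℤ) : Bool :=
  cond (Nat.blt r s)
    (allLt F.l fun i => Nat.beq (F.code (F.w i r) (F.w i s)) (F.conjCode i r s k1 N1)) true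

def antiOK (r s k1 : ℕ) (N1 : ℤ) : Bool :=
  Nat.beq (F.code s r) (k1 * 8 + (4 - N1).toNat)

def entryOK (r : ℕ) (e : ℕ × Array (ℕ × ℤ)) : Bool :=
  Nat.blt e.1 F.n && !Nat.beq e.1 r && !Nat.beq e.1 (F.rv r) &&
  Nat.ble e.2.toList.length 3 && F.stepsOK r e.1 1 0 e.2.toList &&
  match e.2.toList with
  | [] => false
  | (k1, N1) :: _ => decide (-3 ≤ N1 ∧ N1 ≤ 3) && decide (N1 ≠ 0) && Nat.blt k1 256 &&
      F.conjOK r e.1 k1 N1 && F.antiOK r e.1 k1 N1

def entryCode (e : ℕ × Array (ℕ × ℤ)) : ℕ :=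
  match e.2.toList with
  | [] => 0
  | (k1, N1) :: _ => k1 * 8 + (N1 + 4).toNat

def foldRow : List (ℕ × Array (ℕ × ℤ)) → ℕ
  | [] => 0
  | e :: L => Nat.lor (Nat.shiftLeft (entryCode e) (12 * e.1)) (foldRow L)

def keysOK : List (ℕ × Array (ℕ × ℤ)) → Bool
  | [] => true
  | [_] => true
  | e :: e' :: L => Nat.blt e.1 e'.1 && keysOK (e' :: L)

def rowsOK : ℕ → List (Array (ℕ × Array (ℕ × ℤ))) → Bool
  | r, [] => Nat.beq r F.n
  | r, a :: L => Nat.beq (foldRow a.toList) (F.row r) && keysOK a.toList &&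
      a.toList.all (F.entryOK r) && rowsOK (r + 1) L

def linkOK (D : ChevalleyDatum) : Bool :=
  Nat.beq D.rank F.l && Nat.beq D.nroots F.n &&
  decide (D.simpleIdx.toList = (List.range F.l).map F.p) &&
  decide (D.negIdx.toList = (List.range F.n).map F.rv) &&
  decide (D.coroot.toList.map Array.toList = (List.range F.n).map fun r => (List.range F.l).map (F.c r)) &&
  decide (D.cartanSR.toList.map Array.toList = (List.range F.l).map fun j => (List.range F.n).map (F.a j))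

def iter (r s : ℕ) : ℕ → Option ℕ
  | 0 => some s
  | k + 1 => match iter r s k with
    | none => none
    | some x => cond (Nat.beq (F.code r x) 0) none (some (tgt (F.code r x)))

def reflF (i s : ℕ) : ℕ :=
  if s = F.p i then F.rv (F.p i)
  else if s = F.rv (F.p i) then F.p i
  else if 0 < F.a i s then (F.iter (F.rv (F.p i)) s (F.a i s).toNat).getD s
  else if F.a i s < 0 then (F.iter (F.p i) s (-F.a i s).toNat).getD s
  else s

def wOK : Bool := allLt F.l fun i => allLt F.n fun r => Nat.beq (F.reflF i r) (F.w i r)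

/-- All the checks on the packed tables alone. -/
def selfOK : Bool :=
  F.rootsOK && F.simpleOK && F.reflOK && F.reachOK && F.wOK && F.pmOK && F.commOK

end Fast

end Cfsg.Agent.Lib.ChevStructure
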