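import Cfsg.Agent.Lib.ChevStructure.Basic

/-!
The bracket relations between all pairs of roots and the conjugation of `ad e_s` by x_r(t).
-/

set_option autoImplicit false
set_option linter.unusedSectionVars false

namespace Cfsg.Agent.Lib.ChevStructure

open Cfsg.Lie
open scoped MatrixGroups Matrix

variable {D : ChevalleyDatum}

namespace Core

/-- W_k = Σ_u M_{r,s,k} e_u. -/
def W (_C : Core D) (k : ℕ) (r s : Rt D) : Matrix D.Idx D.Idx ℤ := ∑ u, chM D k r s u • E D 1 u

variable (C : Core D)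
include C

theorem w_ne_rev (i : Fin D.rank) {r s : Rt D} (h : s ≠ r.rev) : C.w i s ≠ (C.w i r).rev := by
  rw [← C.w_rev]
  exact fun e => h (by simpa [C.w_w] using congrArg (C.w i) e)

theorem E_apply_inr {k : ℕ} {r u s : Rt D} (h : s ≠ r.rev) :
    E D k r (Sum.inr u) (Sum.inr s) = chM D k r s u := by
  cases k with
  | zero => simp [E, chM, Matrix.one_apply]
  | succ k => simp [E, h]

theorem chM_w (i : Fin D.rank) (r s u : Rt D) (h : s ≠ r.rev) :
    chM D 1 (C.w i r) (C.w i s) (C.w i u) = C.η i r * C.η i s * C.η i u * chM D 1 r s u := by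
  have e := congrFun (congrFun (C.Pm_conj i r) (Sum.inr (C.w i u))) (Sum.inr s)
  rw [Matrix.smul_apply, Matrix.mul_apply, Matrix.mul_apply, Fintype.sum_sum_type,
    Fintype.sum_sum_type] at e
  rw [Finset.sum_eq_zero (fun x _ => by simp [Pm]), Finset.sum_eq_single (C.w i s)
    (fun x _ hx => by simp [Pm, hx]) (by simp), Finset.sum_eq_zero (fun x _ => by simp [Pm]),
    Finset.sum_eq_single u (fun x _ hx => by
      have : C.w i u ≠ C.w i x := fun he => hx (by simpa [C.w_w] using (congrArg (C.w i) he).symm)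
      simp [Pm, this]) (by simp), C.E_apply_inr (C.w_ne_rev i h), C.E_apply_inr h] at e
  simp [Pm] at e
  have hs := C.η_mul_self i s
  calc chM D 1 (C.w i r) (C.w i s) (C.w i u)
      = chM D 1 (C.w i r) (C.w i s) (C.w i u) * (C.η i s * C.η i s) := by rw [hs, mul_one]
    _ = _ := by linear_combination (C.η i s) * e

theorem Pm_right_cancel (i : Fin D.rank) {M N : Matrix D.Idx D.Idx ℤ}
    (h : M * Pm D (C.p i) i (C.w i) (C.η i) = N * Pm D (C.p i) i (C.w i) (C.η i)) : M = N := by
  have e : Pm D (C.p i) i (C.w i) (C.η i) = ((C.P ℤ i : GL D.Idx ℤ) : Matrix D.Idx D.Idx ℤ) := by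
    rw [C.P_val]; ext a b; simp
  rw [e] at h
  exact (C.P ℤ i).mul_left_inj.mp h

theorem comm (r s : Rt D) (h : s ≠ r.rev) :
    E D 1 r * E D 1 s - E D 1 s * E D 1 r = ∑ u, chM D 1 r s u • E D 1 u := by
  refine C.ind2 (fun r s => E D 1 r * E D 1 s - E D 1 s * E D 1 r = ∑ u, chM D 1 r s u • E D 1 u)
    C.comm_base ?_ r s h
  intro i r s hne ih
  refine C.Pm_right_cancel i ?_
  set P := Pm D (C.p i) i (C.w i) (C.η i) with hP
  have hc : ∀ a : Rt D, E D 1 (C.w i a) * P = C.η i a • (P * E D 1 a) := fun a => C.Pm_conj i a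
  have hL : (E D 1 (C.w i r) * E D 1 (C.w i s) - E D 1 (C.w i s) * E D 1 (C.w i r)) * P =
      (C.η i r * C.η i s) • (P * (E D 1 r * E D 1 s - E D 1 s * E D 1 r)) := by
    rw [sub_mul, mul_assoc, mul_assoc, hc, hc, Matrix.mul_smul, Matrix.mul_smul, ← mul_assoc, ← mul_assoc,
      hc, hc, Matrix.smul_mul, Matrix.smul_mul, smul_smul, smul_smul, mul_sub, smul_sub, mul_assoc,
      mul_assoc, mul_comm (C.η i s)]
  rw [hL, ih, Finset.mul_sum, Finset.smul_sum, Finset.sum_mul,
    ← Equiv.sum_comp (Function.Involutive.toPerm (C.w i) (C.w_w i))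
      (fun u => (chM D 1 (C.w i r) (C.w i s) u • E D 1 u) * P)]
  refine Finset.sum_congr rfl fun u _ => ?_
  simp only [Function.Involutive.toPerm, Equiv.coe_fn_mk, C.chM_w i r s u hne, Matrix.smul_mul, hc, Matrix.mul_smul,
    smul_smul]
  congr 1
  linear_combination -(C.η i r * C.η i s * chM D 1 r s u) * C.η_mul_self i u

/-- The coefficient of t^k in the conjugate of ad e_s by x_r(t). -/
theorem chM_succ (k : ℕ) (r s u : Rt D) (h : s ≠ r.rev) :
    ∑ x, chM D k r s x * chM D 1 r x u = ((k : ℤ) + 1) * chM D (k + 1) r s u := by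
  have e := congrFun (congrFun (C.pow_succ k r) (Sum.inr u)) (Sum.inr s)
  rw [Matrix.smul_apply, Matrix.mul_apply, Fintype.sum_sum_type, smul_eq_mul, C.E_apply_inr h] at e
  rw [← e, Finset.sum_eq_zero (f := fun x => E D 1 r (Sum.inr u) (Sum.inl x) * _) (fun x _ => by
    cases k <;> simp [E, h, Matrix.one_apply]), zero_add]
  refine Finset.sum_congr rfl fun x _ => ?_
  rw [C.E_apply_inr h]
  by_cases hx : x = r.rev
  · subst hx
    have : chM D k r s r.rev = 0 := by
      cases k with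
      | zero => simp [chM, Ne.symm h]
      | succ k => by_contra hne; exact (C.chM_tgt k r s r.rev hne).1 rfl
    simp [this]
  · rw [C.E_apply_inr hx, mul_comm]


theorem W_zero (r s : Rt D) : C.W 0 r s = E D 1 s := by
  simp [W, chM]

theorem W_big (k : ℕ) (r s : Rt D) (hk : 4 ≤ k) : C.W k r s = 0 := by
  simp [W, C.chM_big k r s _ hk]

theorem E_W (k : ℕ) (r s : Rt D) (h : s ≠ r.rev) :
    E D 1 r * C.W k r s = C.W k r s * E D 1 r + ((k : ℤ) + 1) • C.W (k + 1) r s := by
  have step : ∀ u, chM D k r s u • (E D 1 r * E D 1 u) =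
      chM D k r s u • (E D 1 u * E D 1 r) + ∑ x, (chM D k r s u * chM D 1 r u x) • E D 1 x := by
    intro u
    by_cases h0 : chM D k r s u = 0
    · simp [h0]
    · have hu : u ≠ r.rev := by
        cases k with
        | zero => simp [chM] at h0; exact h0 ▸ h
        | succ k => exact (C.chM_tgt k r s u h0).1
      rw [sub_eq_iff_eq_add'.mp (C.comm r u hu), smul_add, Finset.smul_sum]
      simp only [smul_smul]
  simp only [W, Finset.mul_sum, Finset.sum_mul, Matrix.mul_smul, Matrix.smul_mul, step,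
    Finset.sum_add_distrib, Finset.smul_sum, smul_smul]
  rw [Finset.sum_comm (γ := Rt D)]
  congr 1
  refine Finset.sum_congr rfl fun x _ => ?_
  rw [← Finset.sum_smul, C.chM_succ k r s x h]

theorem E_mul_E (a : ℕ) (r s : Rt D) (h : s ≠ r.rev) :
    E D a r * E D 1 s = ∑ k ∈ Finset.range (a + 1), C.W k r s * E D (a - k) r := by
  induction a with
  | zero => simp [C.W_zero, E]
  | succ a ih =>
    apply smul_right_injective (Matrix D.Idx D.Idx ℤ) (show ((a : ℤ) + 1) ≠ 0 by omega)
    simp only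
    rw [← Matrix.smul_mul, ← C.pow_succ, mul_assoc, ih, Finset.mul_sum, Finset.smul_sum]
    have h1 : ∀ k ∈ Finset.range (a + 1), E D 1 r * (C.W k r s * E D (a - k) r) =
        (((a + 1 - k : ℕ) : ℤ)) • (C.W k r s * E D (a + 1 - k) r) +
          (((k + 1 : ℕ) : ℤ)) • (C.W (k + 1) r s * E D (a + 1 - (k + 1)) r) := by
      intro k hk
      rw [Finset.mem_range] at hk
      rw [← mul_assoc, C.E_W k r s h, add_mul, Matrix.smul_mul, mul_assoc, C.pow_succ, Matrix.mul_smul,
        show a - k + 1 = a + 1 - k by omega, show a + 1 - (k + 1) = a - k by omega]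
      congr 2
      omega
    rw [Finset.sum_congr rfl h1, Finset.sum_add_distrib]
    have e1 : ∑ k ∈ Finset.range (a + 1), (((a + 1 - k : ℕ) : ℤ)) • (C.W k r s * E D (a + 1 - k) r) =
        ∑ k ∈ Finset.range (a + 1 + 1), (((a + 1 - k : ℕ) : ℤ)) • (C.W k r s * E D (a + 1 - k) r) := by
      simp [Finset.sum_range_succ _ (a + 1)]
    have e2 : ∑ k ∈ Finset.range (a + 1), (((k + 1 : ℕ) : ℤ)) • (C.W (k + 1) r s * E D (a + 1 - (k + 1)) r) =
        ∑ k ∈ Finset.range (a + 1 + 1), ((k : ℤ)) • (C.W k r s * E D (a + 1 - k) r) := by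
      simp [Finset.sum_range_succ' _ (a + 1)]
    rw [e1, e2, ← Finset.sum_add_distrib]
    refine Finset.sum_congr rfl fun k hk => ?_
    rw [Finset.mem_range] at hk
    rw [← add_smul]
    congr 1
    omega

variable (R : Type*) [CommRing R]

/-- The conjugate of ad e_s by x_r(t). -/
def Y (r s : Rt D) (t : R) : Matrix D.Idx D.Idx R :=
  ∑ k ∈ Finset.range 4, t ^ k • (C.W k r s).map (Int.castRingHom R)

theorem xI_E (r s : Rt D) (t : R) (h : s ≠ r.rev) :
    xI D R r t * Ek D R 1 s = C.Y R r s t * xI D R r t := by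
  have hm : ∀ a, Ek D R a r * Ek D R 1 s =
      ∑ k ∈ Finset.range (a + 1), (C.W k r s).map (Int.castRingHom R) * Ek D R (a - k) r := by
    intro a
    rw [Ek, Ek, ← Matrix.map_mul, C.E_mul_E a r s h]
    ext x y
    simp [Matrix.sum_apply, Matrix.mul_apply, Ek]
  have hz : ∀ a, 4 ≤ a → ∑ k ∈ Finset.range (a + 1),
      (C.W k r s).map (Int.castRingHom R) * Ek D R (a - k) r = 0 := by
    intro a ha
    rw [← hm, C.Ek_big R a r ha, zero_mul]
  have hW : ∀ k, 4 ≤ k → (C.W k r s).map (Int.castRingHom R) = 0 := by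
    intro k hk
    rw [C.W_big k r s hk]; ext x y; simp
  have h4 := hz 4 le_rfl
  have h5 := hz 5 (by norm_num)
  have h6 := hz 6 (by norm_num)
  simp only [Finset.sum_range_succ, Finset.sum_range_zero, zero_add, hW 4 le_rfl, hW 5 (by norm_num),
    hW 6 (by norm_num), C.Ek_big R 4 r le_rfl, C.Ek_big R 5 r (by norm_num), C.Ek_big R 6 r (by norm_num),
    zero_mul, mul_zero, add_zero, Nat.reduceSub] at h4 h5 h6
  simp only [xI, Y, Finset.sum_range_succ, Finset.sum_range_zero, zero_add, add_mul, mul_add,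
    Matrix.smul_mul, Matrix.mul_smul, smul_smul, hm, Nat.reduceSub, smul_add]
  linear_combination (norm := module) -(t ^ 4) • h4 - (t ^ 5) • h5 - (t ^ 6) • h6

end Core

end Cfsg.Agent.Lib.ChevStructure
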