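import Cfsg.Agent.Lib.ChevStructure.CheckVec

/-!
A packed table that passed all checks yields `Core D`.
-/

set_option autoImplicit false

namespace Cfsg.Agent.Lib.ChevStructure

open Cfsg.Lie
open scoped Matrix

namespace Fast

/-- The hypotheses produced by the kernel checks. -/
structure Certified (F : Fast) (D : ChevalleyDatum) : Prop extends Linked F D where
  roots : F.rootsOK = true
  simples : F.simpleOK = true
  refl : F.reflOK = true
  reach : F.reachOK = true
  wRefl : F.wOK = true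
  pm : F.pmOK = true
  comm : F.commOK = true

namespace Certified

variable {F : Fast} {D : ChevalleyDatum} (H : Certified F D)
include H

theorem L : Linked F D := H.toLinked

theorem hl : D.rank = F.l := H.L.rank_eq

theorem hn : D.nroots = F.n := H.L.nroots_eq

theorem lt_n (r : Rt D) : r.val < F.n := H.hn ▸ r.isLt

theorem lt_l (i : Fin D.rank) : i.val < F.l := H.hl ▸ i.isLt

theorem half_eq : F.n = 2 * F.half := by
  have := H.roots
  simp only [rootsOK, Bool.and_eq_true] at this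
  exact Nat.eq_of_beq_eq_true this.1.1

theorem l_pos : 0 < F.l := by
  have := H.roots
  simp only [rootsOK, Bool.and_eq_true] at this
  exact Nat.le_of_ble_eq_true this.1.2

theorem root_spec {r : ℕ} (hr : r < F.n) :
    F.pr r r = 2 ∧ F.rv r ≠ r ∧ (∃ j < F.l, F.c r j % 2 = 1) ∧
    (∀ m < F.l, F.v (F.rv r) m = -F.v r m ∧ F.c (F.rv r) m = -F.c r m ∧
      F.a m r = sumL F.l (fun k => F.v r k * F.a m (F.p k)) ∧
      (F.half ≤ r → 0 ≤ F.v r m ∧ 0 ≤ F.c r m)) ∧
    (F.half ≤ r ∨ ∃ j < F.l, F.c r j < 0) ∧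
    (r + 1 < F.n → F.phiV r < F.phiV (r + 1)) := by
  have := H.roots
  simp only [rootsOK, Bool.and_eq_true, allLt_iff] at this
  have h := this.2 r hr
  simp only [rootOK, Bool.and_eq_true, allLt_iff, decide_eq_true_eq, Bool.not_eq_eq_eq_not,
    Bool.not_true, List.any_eq_true, List.mem_range] at h
  obtain ⟨⟨⟨⟨⟨h1, h2⟩, h3⟩, h4⟩, h5⟩, h6⟩ := h
  refine ⟨h1, Nat.ne_of_beq_eq_false h2, h3, fun m hm => ?_, ?_, fun hlt => ?_⟩
  · obtain ⟨⟨⟨⟨-, a1⟩, a2⟩, a3⟩, a4⟩ := h4 m hm
    refine ⟨a1, a2, a3, fun hh => ?_⟩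
    rw [blt_false hh] at a4
    simpa using a4
  · by_cases hh : F.half ≤ r
    · exact Or.inl hh
    · rw [blt_true (by omega : r < F.half)] at h5
      exact Or.inr (by simpa using h5)
  · rw [blt_true hlt] at h6
    simpa using h6

theorem simple_spec {i : ℕ} (hi : i < F.l) : F.p i < F.n ∧ F.eta i (F.p i) = -1 ∧
    ∀ m < F.l, F.v (F.p i) m = (if m = i then 1 else 0) ∧ F.c (F.p i) m = (if m = i then 1 else 0) := by
  have h := H.simples
  simp only [simpleOK, allLt_iff, Bool.and_eq_true, decide_eq_true_eq] at h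
  obtain ⟨⟨h1, h2⟩, h3⟩ := h i hi
  refine ⟨Nat.le_of_ble_eq_true h1, h2, fun m hm => ?_⟩
  have := h3 m hm
  by_cases hmi : m = i
  · subst hmi; simpa [Nat.beq_refl] using this
  · have hb : Nat.beq m i = false := by
      cases e : Nat.beq m i
      · rfl
      · exact absurd (Nat.eq_of_beq_eq_true e) hmi
    simpa [hb, hmi] using this

theorem refl_spec {i r : ℕ} (hi : i < F.l) (hr : r < F.n) :
    F.w i r < F.n ∧ F.w i (F.w i r) = r ∧ F.eta i (F.rv r) = F.eta i r ∧
    ∀ m < F.l, F.v (F.w i r) m = F.v r m - (if m = i then F.a i r else 0) ∧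
      F.c (F.w i r) m = F.c r m - (if m = i then F.pr r (F.p i) else 0) := by
  have h := H.refl
  simp only [reflOK, allLt_iff] at h
  have h2 := h i hi r hr
  simp only [reflOK1, allLt_iff, Bool.and_eq_true, decide_eq_true_eq] at h2
  obtain ⟨⟨⟨h3, h4⟩, h5⟩, h6⟩ := h2
  refine ⟨Nat.le_of_ble_eq_true h3, Nat.eq_of_beq_eq_true h4, h5, fun m hm => ?_⟩
  have := h6 m hm
  by_cases hmi : m = i
  · subst hmi; simpa [Nat.beq_refl] using this
  · have hb : Nat.beq m i = false := by
      cases e : Nat.beq m i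
      · rfl
      · exact absurd (Nat.eq_of_beq_eq_true e) hmi
    simpa [hb, hmi] using this

/-- fundamental roots -/
def pF (i : Fin D.rank) : Rt D :=
  ⟨F.p i, lt_of_lt_of_eq (H.simple_spec (H.lt_l i)).1 H.hn.symm⟩

/-- fundamental reflections -/
def wF (i : Fin D.rank) (r : Rt D) : Rt D :=
  ⟨F.w i r, lt_of_lt_of_eq (H.refl_spec (H.lt_l i) (H.lt_n r)).1 H.hn.symm⟩

theorem rev_val (r : Rt D) : r.rev.val = F.rv r := by
  have := H.hn
  simp [Fast.rv, Fin.val_rev]
  omega

theorem rv_rv {r : ℕ} (hr : r < F.n) : F.rv (F.rv r) = r := by simp [Fast.rv]; omega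

theorem co_val (r : Rt D) (j : Fin D.rank) : co D r j = F.c r j :=
  H.L.coroot_val (H.lt_n r) (H.lt_l j)

theorem A_val (j : Fin D.rank) (r : Rt D) : A D j r = F.a j r :=
  H.L.cartan_val (H.lt_n r) (H.lt_l j)

omit H in
theorem sum_fin {k l : ℕ} (h : k = l) (f : ℕ → ℤ) : ∑ j : Fin k, f j = ∑ j ∈ Finset.range l, f j := by
  subst h; exact Fin.sum_univ_eq_sum_range f k

theorem pr_val (r s : Rt D) : ChevStructure.pr D r s = F.pr r s := by
  rw [Fast.pr_eq, ChevStructure.pr, ← sum_fin H.hl]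
  simp only [H.co_val, H.A_val]

theorem A_lin' (j : Fin D.rank) (r : Rt D) : A D j r = ∑ m : Fin D.rank, F.v r m * A D j (H.pF m) := by
  rw [H.A_val, ((H.root_spec (H.lt_n r)).2.2.2.1 j (H.lt_l j)).2.2.1, sumL_eq, ← sum_fin H.hl]
  simp only [H.A_val, pF]

theorem v_rev' (r : Rt D) (m : Fin D.rank) : F.v r.rev.val m = - F.v r m := by
  rw [H.rev_val]; exact ((H.root_spec (H.lt_n r)).2.2.2.1 m (H.lt_l m)).1

theorem chM_ne {r s u : Rt D} (h : chM D 1 r s u ≠ 0) :
    F.code r s ≠ 0 ∧ tgt (F.code r s) = u.val := by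
  rw [chM_one H.L] at h
  by_contra hc
  exact h (if_neg hc)

/-- the chain value at step k -/
theorem chM_node (k : ℕ) (r s u : Rt D) :
    chM D k r s u = match node (D.chainEntry r s) s k with
      | some (w, M) => if w = u.val then M else 0
      | none => 0 := by
  cases k with
  | zero => simp [chM, node, Fin.ext_iff, eq_comm]
  | succ k =>
    have e1 : D.chainRoot r s (k + 1) = ((D.chainEntry r s)[k]?).map Prod.fst := rfl
    have e2 : D.chainM r s (k + 1) = (((D.chainEntry r s)[k]?).map Prod.snd).getD 0 := rfl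
    simp only [chM, e1, e2, node, List.getElem?_cons_succ]
    cases (D.chainEntry r s)[k]? <;> simp

theorem node_lt (r s : Rt D) : ∀ k w M, node (D.chainEntry r s) s k = some (w, M) →
    w < F.n ∧ (1 ≤ k → w ≠ F.rv r) ∧ ∀ m < F.l, F.v w m = F.v s m + (k : ℤ) * F.v r m
  | 0, w, M, h => by
    simp [node] at h
    obtain ⟨rfl, rfl⟩ := h
    exact ⟨H.lt_n s, fun h => absurd h (by omega), fun m _ => by simp⟩
  | k + 1, w, M, h => by
    have hs := H.L.node_succ (s := s.val) (H.lt_n r) k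
    cases hk : node (D.chainEntry r s) s k with
    | none => rw [hk] at hs; simp only at hs; rw [hs] at h; simp at h
    | some x =>
      obtain ⟨w0, M0⟩ := x
      obtain ⟨h0, -, hv0⟩ := node_lt r s k w0 M0 hk
      rw [hk] at hs
      by_cases hc : F.code r w0 = 0
      · rw [hs.1 hc] at h; simp at h
      · obtain ⟨M', hM, -, hlt, hne, hvp⟩ := hs.2 hc
        rw [hM] at h
        simp at h
        obtain ⟨rfl, rfl⟩ := h
        refine ⟨hlt, fun _ => hne, fun m hm => ?_⟩
        rw [Fast.v_add H.roots hlt h0 (H.lt_n r) hm hvp, hv0 m hm]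
        push_cast
        ring

theorem chM_succ (k : ℕ) (r s u : Rt D) :
    ∑ x : Rt D, chM D k r s x * chM D 1 r x u = ((k : ℤ) + 1) * chM D (k + 1) r s u := by
  rw [H.chM_node (k + 1)]
  simp only [H.chM_node k]
  have hs := H.L.node_succ (s := s.val) (H.lt_n r) k
  cases hk : node (D.chainEntry r s) s k with
  | none => rw [hk] at hs; simp only at hs; simp [hs]
  | some x =>
    obtain ⟨w0, M0⟩ := x
    obtain ⟨h0, -, -⟩ := H.node_lt r s k w0 M0 hk
    rw [hk] at hs
    rw [Finset.sum_eq_single ⟨w0, lt_of_lt_of_eq h0 H.hn.symm⟩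
      (fun b _ hb => by
        have : w0 ≠ b.val := fun h => hb (Fin.ext h.symm)
        simp [this]) (by simp)]
    simp only [↓reduceIte, chM_one H.L]
    by_cases hc : F.code r w0 = 0
    · simp [hc, hs.1 hc]
    · obtain ⟨M', hM, hval, -⟩ := hs.2 hc
      rw [hM]
      by_cases hu : tgt (F.code r w0) = u.val <;> simp [hc, hu, hval]

theorem code_symm {r s : Rt D} (h : F.code r s ≠ 0) :
    F.code s r ≠ 0 ∧ tgt (F.code s r) = tgt (F.code r s) ∧ nn (F.code s r) = - nn (F.code r s) := by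
  obtain ⟨k1, N1, hc, ht, hn, hlo, hhi, hne, -, hs⟩ := H.L.code_decode (H.lt_n r) h
  refine ⟨by omega, ?_, ?_⟩
  · rw [ht]
    show F.code s r >>> 3 = k1
    rw [hs, Nat.shiftRight_eq_div_pow]; omega
  · rw [hn]
    show Int.subNatNat (F.code s r &&& 7) 4 = - N1
    rw [hs, show (7 : ℕ) = 2 ^ 3 - 1 from rfl, Nat.and_two_pow_sub_one_eq_mod, Int.subNatNat_eq_coe]
    omega

theorem antisymm' (r s u : Rt D) : chM D 1 r s u = - chM D 1 s r u := by
  rw [chM_one H.L, chM_one H.L]
  by_cases h : F.code r s = 0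
  · by_cases h' : F.code s r = 0
    · simp [h, h']
    · exact absurd h (H.code_symm h').1
  · obtain ⟨h1, h2, h3⟩ := H.code_symm h
    simp [h, h1, h2, h3]
    split_ifs <;> ring

omit H in
theorem sign_code (a b c : Bool) (N1 : ℤ) (hlo : -3 ≤ N1) (hhi : N1 ≤ 3) :
    Int.subNatNat ((cond (xor a (xor b c)) (4 - N1).toNat (N1 + 4).toNat) % 8) 4 =
      (cond a (-1 : ℤ) 1) * (cond b (-1 : ℤ) 1) * (cond c (-1 : ℤ) 1) * N1 := by
  rw [Int.subNatNat_eq_coe]
  cases a <;> cases b <;> cases c <;> simp <;> omega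

theorem conj_code {r s : Rt D} (h : F.code r s ≠ 0) (i : Fin D.rank) :
    F.code (H.wF i r) (H.wF i s) ≠ 0 ∧ tgt (F.code (H.wF i r) (H.wF i s)) = F.w i (tgt (F.code r s)) ∧
      nn (F.code (H.wF i r) (H.wF i s)) =
        F.eta i r * F.eta i s * F.eta i (tgt (F.code r s)) * nn (F.code r s) := by
  have key : ∀ a b : Rt D, a.val < b.val → F.code a b ≠ 0 →
      F.code (H.wF i a) (H.wF i b) ≠ 0 ∧ tgt (F.code (H.wF i a) (H.wF i b)) = F.w i (tgt (F.code a b)) ∧
        nn (F.code (H.wF i a) (H.wF i b)) =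
          F.eta i a * F.eta i b * F.eta i (tgt (F.code a b)) * nn (F.code a b) := by
    intro a b hab hc
    obtain ⟨k1, N1, hcode, ht, hn, hlo, hhi, hne, hconj, -⟩ := H.L.code_decode (H.lt_n a) hc
    simp only [conjOK, blt_true hab, cond_true, allLt_iff] at hconj
    have hcc : F.code (H.wF i a) (H.wF i b) = F.conjCode i a b k1 N1 :=
      Nat.eq_of_beq_eq_true (hconj i (H.lt_l i))
    have he : ∀ x : ℕ, F.eta i x = cond (decide (F.wd i x % 2 = 1)) (-1 : ℤ) 1 := by
      intro x
      have : Nat.land (F.wd i x) 1 = F.wd i x % 2 := Nat.and_one_is_mod _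
      unfold Fast.eta
      rw [this]
      rcases Nat.mod_two_eq_zero_or_one (F.wd i x) with e | e <;> rw [e] <;> rfl
    have hxor : Nat.beq (Nat.land (F.wd i a + F.wd i b + F.wd i k1) 1) 0 =
        !(xor (decide (F.wd i a % 2 = 1)) (xor (decide (F.wd i b % 2 = 1)) (decide (F.wd i k1 % 2 = 1)))) := by
      rw [show Nat.land (F.wd i a + F.wd i b + F.wd i k1) 1 = (F.wd i a + F.wd i b + F.wd i k1) % 2 from
        Nat.and_one_is_mod _]
      rcases Nat.mod_two_eq_zero_or_one (F.wd i a) with e1 | e1 <;>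
      rcases Nat.mod_two_eq_zero_or_one (F.wd i b) with e2 | e2 <;>
      rcases Nat.mod_two_eq_zero_or_one (F.wd i k1) with e3 | e3 <;>
      · rw [Nat.add_mod, Nat.add_mod (F.wd i a), e1, e2, e3]; rfl
    rw [ht, hn, he a, he b, he k1, hcc]
    simp only [conjCode, hxor]
    generalize decide (F.wd i a % 2 = 1) = x, decide (F.wd i b % 2 = 1) = y,
      decide (F.wd i k1 % 2 = 1) = z
    set q := cond (!(xor x (xor y z))) (N1 + 4).toNat (4 - N1).toNat with hq
    have hq1 : 1 ≤ q ∧ q ≤ 7 := by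
      rw [hq]; cases xor x (xor y z) <;> simp <;> omega
    refine ⟨by omega, ?_, ?_⟩
    · show (Nat.shiftRight (F.wd i k1) 1 * 8 + q) >>> 3 = _
      rw [Nat.shiftRight_eq_div_pow]
      show (F.w i k1 * 8 + q) / 2 ^ 3 = F.w i k1
      omega
    · show Int.subNatNat ((Nat.shiftRight (F.wd i k1) 1 * 8 + q) &&& 7) 4 = _
      rw [show (7 : ℕ) = 2 ^ 3 - 1 from rfl, Nat.and_two_pow_sub_one_eq_mod, ← sign_code x y z N1 hlo hhi]
      congr 1
      have : q = cond (xor x (xor y z)) (4 - N1).toNat (N1 + 4).toNat := by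
        rw [hq]; cases xor x (xor y z) <;> rfl
      rw [← this]
      omega
  have hne : s.val ≠ r.val := (H.L.key_ok (H.lt_n r) h).2.1
  rcases Nat.lt_or_gt_of_ne hne with hlt | hgt
  · obtain ⟨s1, s2, s3⟩ := H.code_symm h
    obtain ⟨k1, k2, k3⟩ := key s r hlt s1
    obtain ⟨t1, t2, t3⟩ := H.code_symm k1
    refine ⟨t1, by rw [t2, k2, s2], ?_⟩
    rw [t3, k3, s2, s3]; ring
  · exact key r s hgt h

theorem tgt_lt {r s : Rt D} (h : F.code r s ≠ 0) : tgt (F.code r s) < F.n := by
  have hs := H.L.node_succ (s := s.val) (H.lt_n r) 0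
  simp only [node, List.getElem?_cons_zero] at hs
  exact (hs.2 h).choose_spec.2.2.1

theorem chM_w (i : Fin D.rank) (r s u : Rt D) :
    F.eta i r * F.eta i s * F.eta i u * chM D 1 r s u = chM D 1 (H.wF i r) (H.wF i s) (H.wF i u) := by
  rw [chM_one H.L, chM_one H.L]
  have winv : ∀ x : Rt D, H.wF i (H.wF i x) = x := fun x =>
    Fin.ext (H.refl_spec (H.lt_l i) (H.lt_n x)).2.1
  by_cases h : F.code r s = 0
  · have h' : F.code (H.wF i r) (H.wF i s) = 0 := by
      by_contra hc
      have := (H.conj_code hc i).1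
      rw [winv, winv] at this
      exact this h
    simp [h, h']
  · obtain ⟨h1, h2, h3⟩ := H.conj_code h i
    have hiff : F.w i (tgt (F.code r s)) = (H.wF i u).val ↔ tgt (F.code r s) = u.val := by
      constructor
      · intro e
        have e' := congrArg (F.w i) e
        rwa [(H.refl_spec (H.lt_l i) (H.tgt_lt h)).2.1,
          show F.w i (H.wF i u).val = u.val from (H.refl_spec (H.lt_l i) (H.lt_n u)).2.1] at e'
      · intro e; rw [e]; rfl
    simp only [ne_eq, h, h1, not_false_eq_true, true_and, h2, hiff, h3]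
    split_ifs with hu
    · rw [hu]
    · simp

end Certified

end Fast

end Cfsg.Agent.Lib.ChevStructure
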