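import Cfsg.Agent.Lib.ChevStructure.CheckLink

/-!
The chains of the tables as iterated structure constants.
-/

set_option autoImplicit false

namespace Cfsg.Agent.Lib.ChevStructure

open Cfsg.Lie

namespace Fast

variable {F : Fast}

/-- The elements s, r+s, 2r+s, ... of a chain. -/
def node (L : List (ℕ × ℤ)) (s : ℕ) (k : ℕ) : Option (ℕ × ℤ) := ((s, (1 : ℤ)) :: L)[k]?

theorem steps_spec (r : ℕ) : ∀ (L : List (ℕ × ℤ)) (cur : ℕ) (M : ℤ) (k : ℕ), F.stepsOK r cur M k L = true →
    ∀ t w Mw, ((cur, M) :: L)[t]? = some (w, Mw) →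
      (L[t]? = none → F.code r w = 0) ∧
      ∀ u M', L[t]? = some (u, M') → F.code r w ≠ 0 ∧ tgt (F.code r w) = u ∧
        Mw * nn (F.code r w) = ((k + t + 1 : ℕ) : ℤ) * M' ∧ u < F.n ∧ u ≠ F.rv r ∧
        F.vp u + vOff F.l = F.vp w + F.vp r
  | [], cur, M, k, h, t, w, Mw, ht => by
    simp only [stepsOK] at h
    cases t with
    | zero =>
      simp at ht
      obtain ⟨rfl, rfl⟩ := ht
      exact ⟨fun _ => Nat.eq_of_beq_eq_true h, fun u M' hu => by simp at hu⟩
    | succ t => simp at ht
  | (u0, M0) :: L, cur, M, k, h, t, w, Mw, ht => by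
    simp only [stepsOK, Bool.and_eq_true, Bool.not_eq_eq_eq_not, Bool.not_true, decide_eq_true_eq,
      Nat.blt_eq] at h
    obtain ⟨⟨⟨⟨⟨⟨h1, h2⟩, h3⟩, h4⟩, h5⟩, h6⟩, h7⟩ := h
    cases t with
    | zero =>
      simp at ht
      obtain ⟨rfl, rfl⟩ := ht
      refine ⟨fun hn => by simp at hn, fun u M' hu => ?_⟩
      simp at hu
      obtain ⟨rfl, rfl⟩ := hu
      exact ⟨Nat.ne_of_beq_eq_false h1, Nat.eq_of_beq_eq_true h2, by simpa using h3, by omega,
        Nat.ne_of_beq_eq_false h5, Nat.eq_of_beq_eq_true h6⟩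
    | succ t =>
      simp only [List.getElem?_cons_succ] at ht ⊢
      have := steps_spec r L u0 M0 (k + 1) h7 t w Mw ht
      rw [show k + (t + 1) + 1 = k + 1 + t + 1 by omega]
      exact this

/-- The basic facts on consecutive nodes of a chain. -/
theorem Linked.node_succ {D : ChevalleyDatum} (L : Linked F D) {r s : ℕ} (hr : r < F.n) (k : ℕ) :
    match node (D.chainEntry r s) s k with
    | none => node (D.chainEntry r s) s (k + 1) = none
    | some (w, Mw) =>
      (F.code r w = 0 → node (D.chainEntry r s) s (k + 1) = none) ∧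
      (F.code r w ≠ 0 → ∃ M', node (D.chainEntry r s) s (k + 1) = some (tgt (F.code r w), M') ∧
        Mw * nn (F.code r w) = ((k : ℤ) + 1) * M' ∧ tgt (F.code r w) < F.n ∧
        tgt (F.code r w) ≠ F.rv r ∧ F.vp (tgt (F.code r w)) + vOff F.l = F.vp w + F.vp r) := by
  obtain ⟨hst, -⟩ := L.chain_steps hr s
  cases hn : node (D.chainEntry r s) s k with
  | none =>
    simp only [node] at hn ⊢
    rw [List.getElem?_eq_none_iff] at hn ⊢
    omega
  | some x =>
    obtain ⟨w, Mw⟩ := x
    have h := steps_spec r _ s 1 0 hst k w Mw hn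
    have e : node (D.chainEntry r s) s (k + 1) = (D.chainEntry r s)[k]? := by simp [node]
    simp only
    constructor
    · intro h0
      rw [e]
      cases hk : (D.chainEntry r s)[k]? with
      | none => rfl
      | some y => exact absurd h0 (h.2 y.1 y.2 hk).1
    · intro h0
      rw [e]
      cases hk : (D.chainEntry r s)[k]? with
      | none => exact absurd (h.1 hk) h0
      | some y =>
        obtain ⟨-, h2, h3, h4, h5, h6⟩ := h.2 y.1 y.2 hk
        refine ⟨y.2, by rw [h2], ?_, by omega, by omega, by rw [h2]; exact h6⟩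
        simpa using h3

theorem Linked.node_iter {D : ChevalleyDatum} (L : Linked F D) {r s : ℕ} (hr : r < F.n) :
    ∀ k, F.iter r s k = (node (D.chainEntry r s) s k).map Prod.fst
  | 0 => by simp [iter, node]
  | k + 1 => by
    have ih := Linked.node_iter L hr (s := s) k
    have h := L.node_succ (s := s) hr k
    rw [iter, ih]
    cases hn : node (D.chainEntry r s) s k with
    | none => rw [hn] at h; simp [h]
    | some x =>
      rw [hn] at h
      by_cases h0 : F.code r x.1 = 0
      · simp [h0, h.1 h0]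
      · obtain ⟨M', hM, -⟩ := h.2 h0
        have hb : Nat.beq (F.code r x.1) 0 = false := by
          cases hb : Nat.beq (F.code r x.1) 0
          · rfl
          · exact absurd (Nat.eq_of_beq_eq_true hb) h0
        simp [hb, hM]

/-- Digit-wise addition without carries. -/
theorem digit_add : ∀ (m : ℕ) (x y : ℕ), (∀ j ≤ m, x / 256 ^ j % 256 + y / 256 ^ j % 256 < 256) →
    (x + y) / 256 ^ m % 256 = x / 256 ^ m % 256 + y / 256 ^ m % 256
  | 0, x, y, h => by
    have := h 0 le_rfl
    simp only [pow_zero, Nat.div_one] at this ⊢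
    omega
  | m + 1, x, y, h => by
    have h0 := h 0 (Nat.zero_le _)
    simp only [pow_zero, Nat.div_one] at h0
    have e : ∀ z : ℕ, z / 256 ^ (m + 1) = z / 256 / 256 ^ m := fun z => by
      rw [pow_succ', Nat.div_div_eq_div_mul]
    have e2 : (x + y) / 256 = x / 256 + y / 256 := by omega
    rw [e, e, e, e2]
    refine digit_add m (x / 256) (y / 256) fun j hj => ?_
    have := h (j + 1) (by omega)
    rwa [pow_succ', ← Nat.div_div_eq_div_mul, ← Nat.div_div_eq_div_mul] at this

theorem vOff_digit : ∀ (l m : ℕ), m < l → vOff l / 256 ^ m % 256 = 8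
  | 0, m, h => absurd h (Nat.not_lt_zero m)
  | l + 1, 0, _ => by simp only [vOff, pow_zero, Nat.div_one]; omega
  | l + 1, m + 1, h => by
    rw [pow_succ', ← Nat.div_div_eq_div_mul, show (vOff (l + 1)) / 256 = vOff l by simp only [vOff]; omega]
    exact vOff_digit l m (by omega)

theorem land_digit (x m : ℕ) : Nat.land (Nat.shiftRight x (8 * m)) 255 = x / 256 ^ m % 256 := by
  show (x >>> (8 * m)) &&& 255 = _
  rw [show (255 : ℕ) = 2 ^ 8 - 1 from rfl, Nat.and_two_pow_sub_one_eq_mod, Nat.shiftRight_eq_div_pow,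
    pow_mul]
  norm_num

theorem v_add (hroots : F.rootsOK = true) {u w r m : ℕ} (hu : u < F.n) (hw : w < F.n) (hr : r < F.n)
    (hm : m < F.l) (h : F.vp u + vOff F.l = F.vp w + F.vp r) : F.v u m = F.v w m + F.v r m := by
  have hd : ∀ x < F.n, ∀ j < F.l, F.vp x / 256 ^ j % 256 ≤ 16 := by
    intro x hx j hj
    have := hroots
    simp only [rootsOK, Bool.and_eq_true, allLt_iff] at this
    have h2 := this.2 x hx
    simp only [rootOK, Bool.and_eq_true, allLt_iff] at h2
    have := Nat.le_of_ble_eq_true (h2.1.1.2 j hj).1.1.1.1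
    rwa [land_digit] at this
  have d1 : (F.vp u + vOff F.l) / 256 ^ m % 256 = F.vp u / 256 ^ m % 256 + 8 := by
    rw [digit_add, vOff_digit F.l m hm]
    intro j hj
    have := hd u hu j (by omega)
    rw [vOff_digit F.l j (by omega)]
    omega
  have d2 : (F.vp w + F.vp r) / 256 ^ m % 256 = F.vp w / 256 ^ m % 256 + F.vp r / 256 ^ m % 256 := by
    refine digit_add m _ _ fun j hj => ?_
    have := hd w hw j (by omega)
    have := hd r hr j (by omega)
    omega
  rw [h, d2] at d1
  simp only [Fast.v, land_digit, Int.subNatNat_eq_coe]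
  omega

end Fast

end Cfsg.Agent.Lib.ChevStructure
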