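import Cfsg.Agent.Lib.ChevStructure.Core
import Cfsg.Agent.Lib.ChevStructure.Fast

/-!
Meaning of the table checks: the structure constants read from the tables agree with the packed copy.
-/

set_option autoImplicit false

namespace Cfsg.Agent.Lib.ChevStructure

open Cfsg.Lie

theorem allLt_iff {k : ℕ} {f : ℕ → Bool} : allLt k f = true ↔ ∀ j < k, f j = true := by
  induction k with
  | zero => simp [allLt]
  | succ k ih =>
    simp only [allLt, Bool.and_eq_true, ih]
    constructor
    · rintro ⟨h1, h2⟩ j hj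
      rcases Nat.lt_succ_iff_lt_or_eq.mp hj with h | h
      · exact h2 j h
      · subst h; exact h1
    · intro h
      exact ⟨h k (Nat.lt_succ_self k), fun j hj => h j (Nat.lt_succ_of_lt hj)⟩

namespace Fast

theorem sumL_eq (k : ℕ) (f : ℕ → ℤ) : sumL k f = ∑ j ∈ Finset.range k, f j := by
  induction k with
  | zero => rfl
  | succ k ih => rw [sumL, ih, Finset.sum_range_succ]

theorem pr_eq (F : Fast) (r s : ℕ) : F.pr r s = ∑ j ∈ Finset.range F.l, F.c r j * F.a j s :=
  sumL_eq _ _

/-- The chain entry read off a row. -/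
def entryOf (L : List (ℕ × Array (ℕ × ℤ))) (s : ℕ) : List (ℕ × ℤ) :=
  match L.find? (fun e => e.1 = s) with
  | none => []
  | some e => e.2.toList

theorem keys_pairwise : ∀ L : List (ℕ × Array (ℕ × ℤ)), keysOK L = true → L.Pairwise (fun a b => a.1 < b.1)
  | [], _ => List.Pairwise.nil
  | [a], _ => List.pairwise_singleton _ _
  | a :: b :: L, h => by
    simp only [keysOK, Bool.and_eq_true] at h
    have hab : a.1 < b.1 := by simpa [Nat.blt] using h.1
    have ih := keys_pairwise (b :: L) h.2
    refine List.pairwise_cons.mpr ⟨?_, ih⟩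
    intro x hx
    rcases List.mem_cons.mp hx with hx | hx
    · subst hx; exact hab
    · exact lt_trans hab ((List.pairwise_cons.mp ih).1 x hx)

theorem filter_key : ∀ L : List (ℕ × Array (ℕ × ℤ)), L.Pairwise (fun a b => a.1 < b.1) → ∀ s : ℕ,
    L.filter (fun e => e.1 = s) = (L.find? (fun e => e.1 = s)).toList
  | [], _, _ => rfl
  | a :: L, h, s => by
    obtain ⟨h1, h2⟩ := List.pairwise_cons.mp h
    by_cases ha : a.1 = s
    · simp only [List.filter_cons, ha, decide_true, ↓reduceIte, List.find?_cons_of_pos,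
        Option.toList_some, List.cons.injEq, true_and]
      rw [List.filter_eq_nil_iff]
      intro x hx
      have := h1 x hx
      simp only [decide_eq_true_eq]
      omega
    · simp [List.filter_cons, ha, filter_key L h2 s]

/-- The code of an optional entry. -/
def codeOf : Option (ℕ × Array (ℕ × ℤ)) → ℕ
  | none => 0
  | some e => entryCode e

theorem fold_digit : ∀ L : List (ℕ × Array (ℕ × ℤ)), L.Pairwise (fun a b => a.1 < b.1) →
    (∀ e ∈ L, entryCode e < 4096) → ∀ s : ℕ,
    Nat.land (Nat.shiftRight (foldRow L) (12 * s)) 4095 = codeOf (L.find? (fun e => e.1 = s))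
  | [], _, _, s => by
    show ((0 : ℕ) >>> (12 * s)) &&& 4095 = 0
    simp
  | a :: L, h, hlt, s => by
    obtain ⟨h1, h2⟩ := List.pairwise_cons.mp h
    have ha4 : entryCode a < 4096 := hlt a (List.mem_cons_self ..)
    have ih := fold_digit L h2 (fun e he => hlt e (List.mem_cons_of_mem _ he)) s
    change ((foldRow L) >>> (12 * s)) &&& 4095 = _ at ih
    show (((entryCode a <<< (12 * a.1)) ||| foldRow L) >>> (12 * s)) &&& 4095 = _
    rw [Nat.shiftRight_or_distrib, Nat.and_or_distrib_right, ih]
    by_cases hs : a.1 = s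
    · have hnone : L.find? (fun e => e.1 = s) = none := by
        rw [List.find?_eq_none]
        intro x hx
        have := h1 x hx
        simp only [decide_eq_true_eq]
        omega
      rw [hnone, List.find?_cons_of_pos (by simpa using hs), hs, Nat.shiftLeft_shiftRight]
      simp only [codeOf, Nat.or_zero]
      rw [show (4095 : ℕ) = 2 ^ 12 - 1 from rfl, Nat.and_two_pow_sub_one_eq_mod]
      exact Nat.mod_eq_of_lt ha4
    · rw [List.find?_cons_of_neg (by simpa using hs)]
      have hz : ((entryCode a <<< (12 * a.1)) >>> (12 * s)) &&& 4095 = 0 := by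
        rw [show (4095 : ℕ) = 2 ^ 12 - 1 from rfl, Nat.and_two_pow_sub_one_eq_mod,
          Nat.shiftLeft_eq, Nat.shiftRight_eq_div_pow]
        rcases Nat.lt_or_gt_of_ne hs with hlt' | hgt
        · have e : entryCode a * 2 ^ (12 * a.1) < 2 ^ (12 * s) := by
            calc entryCode a * 2 ^ (12 * a.1) < 4096 * 2 ^ (12 * a.1) :=
                  Nat.mul_lt_mul_of_pos_right ha4 (by positivity)
              _ = 2 ^ (12 * (a.1 + 1)) := by rw [Nat.mul_add, pow_add]; ring
              _ ≤ 2 ^ (12 * s) := Nat.pow_le_pow_right (by norm_num) (by omega)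
          rw [Nat.div_eq_of_lt e]
        · obtain ⟨d, hd⟩ : ∃ d, a.1 = s + (d + 1) := ⟨a.1 - s - 1, by omega⟩
          rw [hd, Nat.mul_add, pow_add, ← mul_assoc, mul_right_comm,
            Nat.mul_div_cancel _ (by positivity)]
          rw [show 12 * (d + 1) = 12 * d + 12 by ring, pow_add, ← mul_assoc, Nat.mul_mod_left]
      rw [hz, Nat.zero_or]

variable {F : Fast}

theorem rowsOK_spec : ∀ (L : List (Array (ℕ × Array (ℕ × ℤ)))) (r0 : ℕ), F.rowsOK r0 L = true →
    r0 + L.length = F.n ∧ ∀ i < L.length, foldRow (L.getD i #[]).toList = F.row (r0 + i) ∧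
      keysOK (L.getD i #[]).toList = true ∧ (L.getD i #[]).toList.all (F.entryOK (r0 + i)) = true
  | [], r0, h => ⟨Nat.eq_of_beq_eq_true h, fun i hi => absurd hi (Nat.not_lt_zero i)⟩
  | a :: L, r0, h => by
    simp only [rowsOK, Bool.and_eq_true] at h
    obtain ⟨hlen, hall⟩ := rowsOK_spec L (r0 + 1) h.2
    refine ⟨by simp only [List.length_cons]; omega, fun i hi => ?_⟩
    cases i with
    | zero => exact ⟨Nat.eq_of_beq_eq_true h.1.1.1, h.1.1.2, h.1.2⟩
    | succ i =>
      have hi' : i < L.length := by simpa using hi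
      have := hall i hi'
      rw [show r0 + 1 + i = r0 + (i + 1) by omega] at this
      simpa using this

/-- A table together with a packed copy that passed the row checks. -/
structure Linked (F : Fast) (D : ChevalleyDatum) : Prop where
  rows : F.rowsOK 0 D.chain.toList = true
  link : F.linkOK D = true

namespace Linked

variable {D : ChevalleyDatum} (L : Linked F D)
include L

theorem rank_eq : D.rank = F.l := by
  have h := L.link
  simp only [linkOK, Bool.and_eq_true] at h
  exact Nat.eq_of_beq_eq_true h.1.1.1.1.1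

theorem nroots_eq : D.nroots = F.n := by
  have h := L.link
  simp only [linkOK, Bool.and_eq_true] at h
  exact Nat.eq_of_beq_eq_true h.1.1.1.1.2

theorem simple_val {i : ℕ} (hi : i < F.l) : D.simple i = F.p i := by
  have h := L.link
  simp only [linkOK, Bool.and_eq_true, decide_eq_true_eq] at h
  have e := congrArg (fun l => l.getD i 0) h.1.1.1.2
  simp only [ChevalleyDatum.simple, Array.getD_eq_getD_getElem?, ← Array.getElem?_toList]
  simpa [List.getD_eq_getElem?_getD, hi] using e

theorem neg_val {r : ℕ} (hr : r < F.n) : D.negIdx.getD r 0 = F.rv r := by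
  have h := L.link
  simp only [linkOK, Bool.and_eq_true, decide_eq_true_eq] at h
  have e := congrArg (fun l => l.getD r 0) h.1.1.2
  simp only [Array.getD_eq_getD_getElem?, ← Array.getElem?_toList]
  simpa [List.getD_eq_getElem?_getD, hr] using e

theorem coroot_val {r j : ℕ} (hr : r < F.n) (hj : j < F.l) :
    (D.coroot.getD r #[]).getD j 0 = F.c r j := by
  have h := L.link
  simp only [linkOK, Bool.and_eq_true, decide_eq_true_eq] at h
  have e := congrArg (fun l => (l.getD r []).getD j 0) h.1.2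
  simp only [Array.getD_eq_getD_getElem?, ← Array.getElem?_toList]
  cases hx : D.coroot.toList[r]? <;>
    simpa [List.getD_eq_getElem?_getD, hr, hj, hx] using e

theorem cartan_val {r j : ℕ} (hr : r < F.n) (hj : j < F.l) : D.cartan j r = F.a j r := by
  have h := L.link
  simp only [linkOK, Bool.and_eq_true, decide_eq_true_eq] at h
  have e := congrArg (fun l => (l.getD j []).getD r 0) h.2
  simp only [ChevalleyDatum.cartan, Array.getD_eq_getD_getElem?, ← Array.getElem?_toList]
  cases hx : D.cartanSR.toList[j]? <;>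
    simpa [List.getD_eq_getElem?_getD, hr, hj, hx] using e

theorem row_spec {r : ℕ} (hr : r < F.n) :
    foldRow (D.chain.getD r #[]).toList = F.row r ∧ keysOK (D.chain.getD r #[]).toList = true ∧
      (D.chain.getD r #[]).toList.all (F.entryOK r) = true := by
  obtain ⟨hlen, hall⟩ := rowsOK_spec D.chain.toList 0 L.rows
  have hlen' : D.chain.toList.length = F.n := by omega
  have hi := hall r (by omega)
  rw [Nat.zero_add] at hi
  have e : D.chain.toList.getD r #[] = D.chain.getD r #[] := by
    simp [List.getD_eq_getElem?_getD, Array.getD_eq_getD_getElem?]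
  rwa [e] at hi

theorem entry_mem {r s : ℕ} {e : ℕ × Array (ℕ × ℤ)} (hr : r < F.n)
    (he : (D.chain.getD r #[]).toList.find? (fun e => e.1 = s) = some e) :
    F.entryOK r e = true ∧ e.1 = s := by
  have h := (L.row_spec hr).2.2
  rw [List.all_eq_true] at h
  exact ⟨h e (List.mem_of_find?_eq_some he), by simpa using List.find?_some he⟩

omit L in
theorem entryCode_lt {r : ℕ} {e : ℕ × Array (ℕ × ℤ)} (h : F.entryOK r e = true) :
    entryCode e < 4096 ∧ ∃ k1 N1 rest, e.2.toList = (k1, N1) :: rest ∧ N1 ≠ 0 ∧ -3 ≤ N1 ∧ N1 ≤ 3 ∧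
      entryCode e = k1 * 8 + (N1 + 4).toNat ∧ k1 < 256 ∧ F.conjOK r e.1 k1 N1 = true ∧
      F.antiOK r e.1 k1 N1 = true := by
  simp only [entryOK, Bool.and_eq_true] at h
  obtain ⟨-, hm⟩ := h
  cases hl : e.2.toList with
  | nil => simp [hl] at hm
  | cons x rest =>
    obtain ⟨k1, N1⟩ := x
    rw [hl] at hm
    simp only [Bool.and_eq_true, decide_eq_true_eq, Nat.blt_eq] at hm
    obtain ⟨⟨⟨⟨⟨h1, h2⟩, h3⟩, h4⟩, h5⟩, h6⟩ := hm
    have hc : entryCode e = k1 * 8 + (N1 + 4).toNat := by simp [entryCode, hl]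
    exact ⟨by rw [hc]; omega, k1, N1, rest, rfl, h3, h1, h2, hc, h4, h5, h6⟩

theorem code_eq {r : ℕ} (hr : r < F.n) (s : ℕ) :
    F.code r s = codeOf ((D.chain.getD r #[]).toList.find? (fun e => e.1 = s)) := by
  obtain ⟨h1, h2, h3⟩ := L.row_spec hr
  rw [List.all_eq_true] at h3
  rw [code, ← h1]
  exact fold_digit _ (keys_pairwise _ h2) (fun e he => (entryCode_lt (h3 e he)).1) s

theorem code_pos {r s : ℕ} {e : ℕ × Array (ℕ × ℤ)} (hr : r < F.n)
    (he : (D.chain.getD r #[]).toList.find? (fun e => e.1 = s) = some e) : F.code r s ≠ 0 := by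
  rw [L.code_eq hr, he]
  obtain ⟨-, k1, N1, rest, -, hne, hlo, hhi, hc, -⟩ := entryCode_lt (L.entry_mem hr he).1
  show entryCode e ≠ 0
  omega

theorem chain_steps {r : ℕ} (hr : r < F.n) (s : ℕ) :
    F.stepsOK r s 1 0 (D.chainEntry r s) = true ∧ (D.chainEntry r s).length ≤ 3 := by
  cases hf : (D.chain.getD r #[]).toList.find? (fun e => e.1 = s) with
  | none =>
    have hc : F.code r s = 0 := by rw [L.code_eq hr, hf]; rfl
    have he : D.chainEntry r s = [] := by rw [ChevalleyDatum.chainEntry, hf]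
    rw [he]
    simp [stepsOK, hc]
  | some e =>
    obtain ⟨hok, hes⟩ := L.entry_mem hr hf
    simp only [entryOK, Bool.and_eq_true] at hok
    obtain ⟨⟨⟨-, hlen⟩, hst⟩, -⟩ := hok
    have he : D.chainEntry r s = e.2.toList := by rw [ChevalleyDatum.chainEntry, hf]
    rw [he, ← hes]
    exact ⟨hst, Nat.le_of_ble_eq_true hlen⟩

theorem key_ok {r s : ℕ} (hr : r < F.n) (h : F.code r s ≠ 0) : s < F.n ∧ s ≠ r ∧ s ≠ F.rv r := by
  cases hf : (D.chain.getD r #[]).toList.find? (fun e => e.1 = s) with
  | none => exact absurd (by rw [L.code_eq hr, hf]; rfl) h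
  | some e =>
    obtain ⟨hok, hes⟩ := L.entry_mem hr hf
    simp only [entryOK, Bool.and_eq_true, Bool.not_eq_eq_eq_not, Bool.not_true, Nat.blt_eq] at hok
    obtain ⟨⟨⟨⟨⟨h1, h2⟩, h3⟩, -⟩, -⟩, -⟩ := hok
    exact ⟨by omega, by rw [← hes]; exact Nat.ne_of_beq_eq_false h2, by rw [← hes]; exact Nat.ne_of_beq_eq_false h3⟩

/-- Decoding of a non-zero code. -/
theorem code_decode {r s : ℕ} (hr : r < F.n) (h : F.code r s ≠ 0) :
    ∃ k1 N1, F.code r s = k1 * 8 + (N1 + 4).toNat ∧ tgt (F.code r s) = k1 ∧ nn (F.code r s) = N1 ∧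
      -3 ≤ N1 ∧ N1 ≤ 3 ∧ N1 ≠ 0 ∧ F.conjOK r s k1 N1 = true ∧
      F.code s r = k1 * 8 + (4 - N1).toNat := by
  cases hf : (D.chain.getD r #[]).toList.find? (fun e => e.1 = s) with
  | none => exact absurd (by rw [L.code_eq hr, hf]; rfl) h
  | some e =>
    obtain ⟨hok, hes⟩ := L.entry_mem hr hf
    obtain ⟨-, k1, N1, rest, -, hne, hlo, hhi, hc, -, hconj, hanti⟩ := entryCode_lt hok
    rw [hes] at hconj hanti
    have hcode : F.code r s = k1 * 8 + (N1 + 4).toNat := by rw [L.code_eq hr, hf]; exact hc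
    refine ⟨k1, N1, hcode, ?_, ?_, hlo, hhi, hne, hconj, Nat.eq_of_beq_eq_true hanti⟩
    · show F.code r s >>> 3 = k1
      rw [hcode, Nat.shiftRight_eq_div_pow]
      omega
    · show Int.subNatNat (F.code r s &&& 7) 4 = N1
      rw [hcode, show (7 : ℕ) = 2 ^ 3 - 1 from rfl, Nat.and_two_pow_sub_one_eq_mod,
        Int.subNatNat_eq_coe]
      omega

end Linked

end Fast

end Cfsg.Agent.Lib.ChevStructure
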