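import Cfsg.Agent.Lib.ChevStructure.CheckChain

/-!
Sparse vectors and the matrices `E 1 r`, `Pm`, read off the packed tables.
-/

set_option autoImplicit false

namespace Cfsg.Agent.Lib.ChevStructure

open Cfsg.Lie
open scoped Matrix

namespace Fast

variable {F : Fast} {D : ChevalleyDatum}

/-- The position of a basis vector in the packed numbering. -/
def cod : D.Idx → ℕ
  | Sum.inl j => j.val
  | Sum.inr s => D.rank + s.val

theorem cod_inj : Function.Injective (cod (D := D)) := by
  rintro (a | a) (b | b) h <;> simp only [cod] at h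
  · rw [Fin.ext h]
  · have := a.isLt; omega
  · have := b.isLt; omega
  · rw [Fin.ext (show a.val = b.val by omega)]

theorem cod_surj (L : Linked F D) {c : ℕ} (hc : c < F.l + F.n) : ∃ x : D.Idx, cod x = c := by
  have h1 := L.rank_eq
  have h2 := L.nroots_eq
  by_cases h : c < F.l
  · exact ⟨Sum.inl ⟨c, by omega⟩, rfl⟩
  · exact ⟨Sum.inr ⟨c - F.l, by omega⟩, by simp only [cod]; omega⟩

/-- The vector of a sparse list. -/
def sem (D : ChevalleyDatum) (L : List (ℕ × ℤ)) : D.Idx → ℤ := fun x => sumKey (cod x) L

theorem sumKey_cons (k : ℕ) (e : ℕ × ℤ) (L : List (ℕ × ℤ)) :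
    sumKey k (e :: L) = (if e.1 = k then e.2 else 0) + sumKey k L := by
  rw [sumKey]
  cases h : Nat.beq e.1 k
  · simp [Nat.ne_of_beq_eq_false h]
  · simp [Nat.eq_of_beq_eq_true h]

theorem sumKey_append (k : ℕ) : ∀ L M : List (ℕ × ℤ), sumKey k (L ++ M) = sumKey k L + sumKey k M
  | [], M => by simp [sumKey]
  | e :: L, M => by
    rw [List.cons_append, sumKey_cons, sumKey_cons, sumKey_append k L M]
    ring

theorem sumKey_scale (k : ℕ) (c : ℤ) : ∀ L : List (ℕ × ℤ), sumKey k (scale c L) = c * sumKey k L
  | [] => by simp [scale, sumKey]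
  | e :: L => by
    have ih := sumKey_scale k c L
    simp only [scale, List.map_cons] at ih ⊢
    rw [sumKey_cons, sumKey_cons, ih]
    split_ifs <;> ring

theorem sumKey_eq_zero {k : ℕ} : ∀ {L : List (ℕ × ℤ)}, (∀ e ∈ L, e.1 ≠ k) → sumKey k L = 0
  | [], _ => rfl
  | e :: L, h => by
    rw [sumKey_cons, if_neg (h e (List.mem_cons_self ..)), zero_add,
      sumKey_eq_zero fun x hx => h x (List.mem_cons_of_mem _ hx)]

theorem blt_false {a b : ℕ} (h : b ≤ a) : Nat.blt a b = false := by
  cases e : Nat.blt a b
  · rfl
  · have := Nat.le_of_ble_eq_true (show Nat.ble (a + 1) b = true from e); omega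

theorem blt_true {a b : ℕ} (h : a < b) : Nat.blt a b = true :=
  Nat.ble_eq_true_of_le h

theorem isZero_spec {L : List (ℕ × ℤ)} (h : isZero L = true) (k : ℕ) : sumKey k L = 0 := by
  simp only [isZero, List.all_eq_true, decide_eq_true_eq] at h
  by_cases hk : ∃ e ∈ L, e.1 = k
  · obtain ⟨e, he, rfl⟩ := hk
    exact h e he
  · exact sumKey_eq_zero fun e he heq => hk ⟨e, he, heq⟩

theorem sem_append (L M : List (ℕ × ℤ)) : sem D (L ++ M) = sem D L + sem D M :=
  funext fun _ => sumKey_append _ L M

theorem sem_scale (c : ℤ) (L : List (ℕ × ℤ)) : sem D (scale c L) = c • sem D L :=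
  funext fun _ => by simp [sem, sumKey_scale]

theorem sem_isZero {L : List (ℕ × ℤ)} (h : isZero L = true) : sem D L = 0 :=
  funext fun _ => isZero_spec h _

theorem sem_nil : sem D [] = 0 := rfl

theorem sem_single (x : D.Idx) (c : ℤ) : sem D [(cod x, c)] = Pi.single x c := by
  funext y
  simp only [sem, sumKey_cons, show ∀ k, sumKey k [] = 0 from fun _ => rfl, add_zero, Pi.single_apply]
  by_cases h : y = x
  · simp [h]
  · rw [if_neg h, if_neg fun hh => h (cod_inj hh).symm]

theorem chM_one (L : Linked F D) (r s u : Rt D) :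
    chM D 1 r s u = if F.code r s ≠ 0 ∧ tgt (F.code r s) = u.val then nn (F.code r s) else 0 := by
  have hr : r.val < F.n := L.nroots_eq ▸ r.isLt
  have h := L.node_succ (s := s.val) hr 0
  simp only [node, List.getElem?_cons_zero, Nat.cast_zero, zero_add, one_mul] at h
  have e1 : D.chainRoot r s 1 = ((D.chainEntry r s)[0]?).map Prod.fst := rfl
  have e2 : D.chainM r s 1 = (((D.chainEntry r s)[0]?).map Prod.snd).getD 0 := rfl
  simp only [chM, e1, e2]
  by_cases h0 : F.code r s = 0
  · have := h.1 h0
    simp only [List.getElem?_cons_succ] at this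
    rw [this]
    simp [h0]
  · obtain ⟨M', hM, hval, -⟩ := h.2 h0
    simp only [List.getElem?_cons_succ] at hM
    rw [hM]
    simp [h0, hval]

theorem hList_sum (F : Fast) (r : ℕ) (x : ℤ) (k : ℕ) :
    sumKey k (F.hList r x) = if k < F.l then F.c r k * x else 0 := by
  unfold hList
  induction F.l with
  | zero => simp [sumKey]
  | succ m ih =>
    rw [List.range_succ, List.filterMap_append, sumKey_append, ih]
    by_cases hc : F.c r m = 0
    · simp only [List.filterMap_cons, hc, ↓reduceIte, List.filterMap_nil, sumKey, add_zero]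
      split_ifs with h1 h2 h3
      · rfl
      · omega
      · have : k = m := by omega
        subst this; simp [hc]
      · rfl
    · simp only [List.filterMap_cons, hc, ↓reduceIte, List.filterMap_nil, sumKey_cons, sumKey, add_zero]
      split_ifs <;> first | omega | simp_all

theorem appE1_spec (L : Linked F D) (r : Rt D) (c : ℕ) (x : ℤ) (a : D.Idx) :
    sumKey (cod a) (F.appE1 r (c, x)) = x * ∑ b, E D 1 r a b * (if c = cod b then 1 else 0) := by
  have h1 := L.rank_eq
  have h2 := L.nroots_eq
  have hr : r.val < F.n := h2 ▸ r.isLt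
  by_cases hc : c < F.l + F.n
  swap
  · have hb1 : Nat.blt c F.l = false := blt_false (by omega)
    have hb2 : Nat.blt c (F.l + F.n) = false := blt_false (by omega)
    simp only [appE1, hb1, hb2, cond_false, sumKey]
    rw [Finset.sum_eq_zero, mul_zero]
    intro b _
    have : c ≠ cod b := by
      rcases b with b | b <;> simp only [cod] <;> have := b.isLt <;> omega
    simp [this]
  obtain ⟨b0, rfl⟩ := cod_surj L hc
  rw [Finset.sum_eq_single b0 (fun b _ hb => by rw [if_neg (fun h => hb (cod_inj h).symm), mul_zero]) (by simp)]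
  rw [if_pos rfl, mul_one]
  rcases b0 with j | s
  · have hj : j.val < F.l := h1 ▸ j.isLt
    have hb1 : Nat.blt j.val F.l = true := blt_true hj
    have hA : A D j r = F.a j r := L.cartan_val hr hj
    simp only [appE1, cod, hb1, cond_true]
    rcases a with a | a
    · have := a.isLt
      simp only [cod, E, Matrix.of_apply, mul_zero]
      by_cases hz : F.a j r = 0
      · simp [hz, sumKey]
      · simp only [hz, ↓reduceIte, sumKey_cons, sumKey, add_zero]
        rw [if_neg (by omega)]
    · simp only [cod, E, Matrix.of_apply, true_and, hA]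
      by_cases hz : F.a j r = 0
      · simp [hz, sumKey]
      · simp only [hz, ↓reduceIte, sumKey_cons, sumKey, add_zero, Fin.ext_iff]
        split_ifs <;> first | omega | ring
  · have hs : s.val < F.n := h2 ▸ s.isLt
    have hb1 : Nat.blt (D.rank + s.val) F.l = false := blt_false (by omega)
    have hb2 : Nat.blt (D.rank + s.val) (F.l + F.n) = true := blt_true (by omega)
    simp only [appE1, cod, hb1, hb2, cond_true, cond_false, show D.rank + s.val - F.l = s.val by omega]
    have hrev : r.rev.val = F.rv r := by simp [Fast.rv, Fin.val_rev]; omega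
    cases hbeq : Nat.beq s.val (F.rv r)
    · have hne : s ≠ r.rev := fun h => Nat.ne_of_beq_eq_false hbeq (by rw [h, hrev])
      simp only [cond_false]
      rcases a with a | a
      · have := a.isLt
        simp only [cod, E, Matrix.of_apply, hne, and_false, ↓reduceIte, mul_zero]
        cases Nat.beq (F.code r s) 0
        · simp only [cond_false, sumKey_cons, sumKey]
          rw [if_neg (by omega)]; rfl
        · rfl
      · simp only [cod, E, Matrix.of_apply, hne, ↓reduceIte, chM_one L]
        cases hz : Nat.beq (F.code r s) 0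
        · have := Nat.ne_of_beq_eq_false hz
          simp only [cond_false, sumKey_cons, sumKey, add_zero, ne_eq, this, not_false_eq_true, true_and]
          split_ifs <;> first | omega | ring
        · have := Nat.eq_of_beq_eq_true hz
          simp [this, sumKey]
    · have heq : s = r.rev := Fin.ext (by rw [hrev]; exact Nat.eq_of_beq_eq_true hbeq)
      simp only [cond_true, hList_sum]
      rcases a with a | a
      · have ha : a.val < F.l := h1 ▸ a.isLt
        have hco : co D r a = F.c r a := L.coroot_val hr ha
        simp [cod, E, heq, ha, hco, mul_comm]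
      · have : ¬ D.rank + a.val < F.l := by omega
        simp [cod, E, heq, this]

theorem sem_appE (L : Linked F D) (r : Rt D) : ∀ M : List (ℕ × ℤ),
    sem D (F.appE r M) = E D 1 r *ᵥ sem D M
  | [] => by rw [appE, sem_nil, Matrix.mulVec_zero]
  | (c, x) :: M => by
    rw [appE, sem_append, sem_appE L r M]
    funext a
    simp only [Pi.add_apply, Matrix.mulVec, dotProduct, sem, appE1_spec L, sumKey_cons]
    rw [Finset.mul_sum, ← Finset.sum_add_distrib]
    refine Finset.sum_congr rfl fun b _ => ?_
    split_ifs <;> ring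

theorem sem_appE' (L : Linked F D) {r : ℕ} (hr : r < D.nroots) (M : List (ℕ × ℤ)) :
    sem D (F.appE r M) = E D 1 ⟨r, hr⟩ *ᵥ sem D M :=
  sem_appE L ⟨r, hr⟩ M

theorem matrix_ext {m n : Type*} [Fintype n] [DecidableEq n] {M N : Matrix m n ℤ}
    (h : ∀ x : n, M *ᵥ Pi.single x 1 = N *ᵥ Pi.single x 1) : M = N := by
  ext a b
  have := congrFun (h b) a
  simpa [Matrix.mulVec, dotProduct, Pi.single_apply] using this

end Fast

end Cfsg.Agent.Lib.ChevStructure
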