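import Cfsg.Prelude.Def_ChevStructure

/-!
The data of a matrix Chevalley datum in a form fit for general arguments: integer matrices `E k r`
(coefficient of `t ^ k` in `x_r(t)`), the signed monomial matrices `Pm`, and the structure `Core D`
of the finitely many identities that are checked by computation for each tabulated datum.
-/

set_option autoImplicit false

namespace Cfsg.Agent.Lib.ChevStructure

open Cfsg.Lie
open scoped MatrixGroups Matrix

/-- A root index. -/
abbrev Rt (D : ChevalleyDatum) : Type := Fin D.nroots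

variable (D : ChevalleyDatum)

/-- The Cartan integer A_{p_j, r}. -/
def A (j : Fin D.rank) (r : Rt D) : ℤ := D.cartan j.val r.val

/-- The coefficients of the coroot of r. -/
def co (r : Rt D) (j : Fin D.rank) : ℤ := (D.coroot.getD r.val #[]).getD j.val 0

/-- The pairing of the coroot of r with the root s. -/
def pr (r s : Rt D) : ℤ := ∑ j, co D r j * A D j s

/-- M_{r,s,k} placed at its target u = k r + s (and δ for k = 0). -/
def chM : ℕ → Rt D → Rt D → Rt D → ℤ
  | 0, _, s, u => if u = s then 1 else 0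
  | k + 1, r, s, u => if D.chainRoot r.val s.val (k + 1) = some u.val then D.chainM r.val s.val (k + 1) else 0

/-- The k-th divided power of ad e_r. -/
def E : ℕ → Rt D → Matrix D.Idx D.Idx ℤ
  | 0, _ => 1
  | k + 1, r => Matrix.of fun row col =>
    match row, col with
    | Sum.inl _, Sum.inl _ => 0
    | Sum.inr u, Sum.inl i => if k = 0 ∧ u = r then -A D i r else 0
    | Sum.inl i, Sum.inr s => if k = 0 ∧ s = r.rev then co D r i else 0
    | Sum.inr u, Sum.inr s =>
        if s = r.rev then (if k = 1 ∧ u = r then -1 else 0) else chM D (k + 1) r s u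

/-- `E k r` over a commutative ring. -/
def Ek (R : Type*) [CommRing R] (k : ℕ) (r : Rt D) : Matrix D.Idx D.Idx R :=
  (E D k r).map (Int.castRingHom R)

/-- x_r(t) over a commutative ring. -/
def xI (R : Type*) [CommRing R] (r : Rt D) (t : R) : Matrix D.Idx D.Idx R :=
  ∑ k ∈ Finset.range 4, t ^ k • Ek D R k r

/-- The signed monomial matrix by which n_p acts. -/
def Pm (p : Rt D) (i : Fin D.rank) (w : Rt D → Rt D) (η : Rt D → ℤ) : Matrix D.Idx D.Idx ℤ :=
  Matrix.of fun row col =>
    match row, col with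
    | Sum.inl i', Sum.inl j => (if i' = j then 1 else 0) - (if i' = i then A D j p else 0)
    | Sum.inr u, Sum.inr s => if u = w s then η s else 0
    | Sum.inl _, Sum.inr _ => 0
    | Sum.inr _, Sum.inl _ => 0

/-- An additive functional compatible with the lexicographic order of the roots. -/
def phi {l : ℕ} (a : Fin l → ℤ) : ℤ := ∑ m, a m * 16 ^ (l - 1 - (m : ℕ))

/-- The verified facts about one tabulated datum. -/
structure Core where
  /-- coefficients on the fundamental roots -/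
  v : Rt D → Fin D.rank → ℤ
  /-- signs of n_p -/
  η : Fin D.rank → Rt D → ℤ
  /-- fundamental roots -/
  p : Fin D.rank → Rt D
  /-- fundamental reflections -/
  w : Fin D.rank → Rt D → Rt D
  /-- representatives of the pairs of roots under the Weyl group -/
  base : List (Rt D × Rt D)
  rank_pos : 0 < D.rank
  simple_eq : ∀ i : Fin D.rank, D.simple i.val = (p i).val
  w_eq : ∀ (i : Fin D.rank) (r : Rt D), D.reflectRoot i.val r.val = (w i r).val
  neg_eq : ∀ r : Rt D, D.negIdx.getD r.val 0 = r.rev.val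
  ne_rev : ∀ r : Rt D, r.rev ≠ r
  v_p : ∀ i, v (p i) = Pi.single i 1
  co_p : ∀ i, co D (p i) = Pi.single i 1
  v_rev : ∀ r, v r.rev = - v r
  co_rev : ∀ r, co D r.rev = - co D r
  A_lin : ∀ j r, A D j r = ∑ m, v r m * A D j (p m)
  pr_self : ∀ r, pr D r r = 2
  co_odd : ∀ r, ∃ j, Odd (co D r j)
  pos_iff : ∀ r : Rt D, D.IsPosRoot r.val ↔ D.nroots ≤ 2 * r.val
  negr_iff : ∀ r : Rt D, D.IsNegRoot r.val ↔ 2 * r.val < D.nroots
  v_sign : ∀ r : Rt D, D.nroots ≤ 2 * r.val → ∀ m, 0 ≤ v r m
  phi_strict : StrictMono fun r => phi (v r)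
  v_w : ∀ i r, v (w i r) = v r - A D i r • Pi.single i 1
  co_w : ∀ i r, co D (w i r) = co D r - pr D r (p i) • Pi.single i 1
  w_w : ∀ i r, w i (w i r) = r
  η_one : ∀ i r, η i r = 1 ∨ η i r = -1
  η_rev : ∀ i r, η i r.rev = η i r
  η_p : ∀ i, η i (p i) = -1
  chM_self : ∀ k r u, chM D (k + 1) r r u = 0
  chM_rev : ∀ k r u, chM D (k + 1) r r.rev u = 0
  chM_tgt : ∀ k r s u, chM D (k + 1) r s u ≠ 0 → u ≠ r.rev ∧ v u = v s + ((k : ℤ) + 1) • v r
  chM_big : ∀ k r s u, 4 ≤ k → chM D k r s u = 0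
  antisymm : ∀ r s u, s ≠ r.rev → chM D 1 r s u = - chM D 1 s r u
  coeff : ∀ r s u : Rt D, s ≠ r → s ≠ r.rev →
    ((D.chainCoeff r.val s.val u.val).map fun km => Polynomial.C km.2 * Polynomial.X ^ km.1).sum =
      ∑ k ∈ Finset.range 3, Polynomial.C (chM D (k + 1) r s u) * Polynomial.X ^ (k + 1)
  pow_succ : ∀ k r, E D 1 r * E D k r = ((k : ℤ) + 1) • E D (k + 1) r
  Pm_conj : ∀ i r, E D 1 (w i r) * Pm D (p i) i (w i) (η i) = η i r • (Pm D (p i) i (w i) (η i) * E D 1 r)
  Pm_eq' : ∀ i, xI D ℤ (p i).rev (-1) * xI D ℤ (p i) 1 = xI D ℤ (p i) (-1) * Pm D (p i) i (w i) (η i)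
  comm_base : ∀ q ∈ base,
    E D 1 q.1 * E D 1 q.2 - E D 1 q.2 * E D 1 q.1 = ∑ u, chM D 1 q.1 q.2 u • E D 1 u
  ind : ∀ motive : Rt D → Prop, (∀ i, motive (p i)) → (∀ i r, motive r → motive (w i r)) →
    ∀ r, motive r
  ind2 : ∀ motive : Rt D → Rt D → Prop, (∀ q ∈ base, motive q.1 q.2) →
    (∀ i r s, s ≠ r.rev → motive r s → motive (w i r) (w i s)) →
    ∀ r s, s ≠ r.rev → motive r s

end Cfsg.Agent.Lib.ChevStructure
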