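import Cfsg.Agent.Lib.ChevStructure.Poincare
import Cfsg.Agent.Lib.Coxeter.Exchange
import Cfsg.Agent.Lib.ChevStructure.Cert.G2
import Cfsg.Agent.Lib.ChevStructure.Cert.B2
import Cfsg.Agent.Lib.ChevStructure.Cert.D4
import Cfsg.Agent.Lib.ChevStructure.Cert.F4
import Cfsg.Agent.Lib.ChevStructure.Cert.E6
import Cfsg.Agent.Lib.ChevStructure.Cert.E7
import Cfsg.Agent.Lib.ChevStructure.Cert.E8

/-!
N/H as a Coxeter group: the exchange condition for the fundamental reflections and the orders of their
products, read off the packed tables.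
-/

set_option autoImplicit false
set_option linter.unusedSectionVars false

namespace Cfsg.Agent.Lib.ChevStructure

open Cfsg.Lie
open scoped MatrixGroups Matrix

variable {D : ChevalleyDatum}

namespace Core

variable (C : Core D)
include C

theorem pprod_reverse (L : List (Fin D.rank)) : C.pprod L.reverse = (C.pprod L)⁻¹ := by
  induction L with
  | nil => rw [List.reverse_nil, C.pprod_nil, inv_one]
  | cons i L ih =>
    rw [List.reverse_cons, C.pprod_concat, C.pprod_cons, mul_inv_rev, ih,
      inv_eq_of_mul_eq_one_right (C.sref_mul_self i)]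

theorem exchange_erase : ∀ (L : List (Fin D.rank)) (i : Fin D.rank), C.pprod L (C.p i) ∈ C.Neg →
    ∃ k < L.length, C.pprod L * C.sref i = C.pprod (L.eraseIdx k)
  | [], i, h => absurd (C.p_pos i) ((C.neg_iff_not_pos _).1 h)
  | j :: L, i, h => by
    by_cases hr : C.pprod L (C.p i) ∈ C.Pos
    · rw [C.pprod_cons, Equiv.Perm.mul_apply, C.sref_apply] at h
      have hj : C.pprod L (C.p i) = C.p j := C.eq_p_of_w_neg hr h
      obtain ⟨u, hu⟩ := C.wprod_nR ℚ L (C.p i) 1
      rw [hj] at hu
      obtain ⟨c, hc⟩ := C.nR_p ℚ j u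
      have hP : ∀ k, C.Acts (C.P ℚ k) (C.sref k) := fun k => by
        simpa [wprod, pprod] using C.acts_wprod ℚ [k]
      have e := C.acts_unique ℚ
        (C.acts_mul ℚ (C.acts_mul ℚ (C.acts_wprod ℚ L) (hP i)) (C.acts_inv ℚ (C.acts_wprod ℚ L)))
        (show C.Acts (C.wprod ℚ L * C.nR ℚ (C.p i) 1 * (C.wprod ℚ L)⁻¹) (1 * C.sref j) by
          rw [hu, hc]; exact C.acts_mul ℚ (C.acts_HT ℚ c) (hP j))
      rw [one_mul, mul_inv_eq_iff_eq_mul] at e
      refine ⟨0, by simp, ?_⟩
      rw [C.pprod_cons, mul_assoc, e, ← mul_assoc, C.sref_mul_self, one_mul]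
      rfl
    · obtain ⟨k, hk, e⟩ := exchange_erase L i ((C.neg_iff_not_pos _).2 hr)
      refine ⟨k + 1, by simpa using hk, ?_⟩
      rw [C.pprod_cons, mul_assoc, e, ← C.pprod_cons]
      rfl

theorem len_le_length (L : List (Fin D.rank)) : C.len (C.pprod L) ≤ L.length := by
  induction L using List.reverseRecOn with
  | nil => rw [C.pprod_nil, C.len_one]; exact le_rfl
  | append_singleton L i ih =>
    rw [C.pprod_concat, List.length_append, List.length_singleton]
    by_cases h : C.pprod L (C.p i) ∈ C.Pos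
    · rw [C.len_mul_sref_pos (C.pprod_rev L) h]; omega
    · have hp : (C.pprod L * C.sref i) (C.p i) ∈ C.Pos := by
        rw [Equiv.Perm.mul_apply, C.sref_apply, C.w_p, C.pprod_rev]
        exact C.rev_pos ((C.neg_iff_not_pos _).2 h)
      have := C.len_mul_sref_pos (fun r => by rw [← C.pprod_concat]; exact C.pprod_rev _ r) hp
      rw [mul_assoc, C.sref_mul_self, mul_one] at this
      omega

theorem wprod_sref (L : List (Fin D.rank)) : Coxeter.Exchange.wprod C.sref L = C.pprod L := rfl

theorem reduced_length {L : List (Fin D.rank)} (h : Coxeter.Exchange.Reduced C.sref L) :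
    L.length = C.len (C.pprod L) := by
  refine le_antisymm ?_ (C.len_le_length L)
  obtain ⟨L', c, hl, hp, -⟩ := C.len_pprod_le ℤ L
  rw [← hl]
  exact h L' hp

theorem hasExchange : Coxeter.Exchange.HasExchange C.sref := by
  intro i l hl hnr
  by_cases hpos : C.pprod l.reverse (C.p i) ∈ C.Pos
  · exfalso
    apply hnr
    intro l' hl'
    rw [C.wprod_sref, C.wprod_sref, C.pprod_cons] at hl'
    have h1 := C.len_le_length l'.reverse
    rw [C.pprod_reverse, hl', mul_inv_rev, ← C.pprod_reverse, inv_eq_of_mul_eq_one_right (C.sref_mul_self i),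
      C.len_mul_sref_pos (C.pprod_rev _) hpos, List.length_reverse] at h1
    have h2 : C.len (C.pprod l.reverse) = l.length := by
      have hr : Coxeter.Exchange.Reduced C.sref l.reverse := by
        intro m hm
        rw [C.wprod_sref, C.wprod_sref, C.pprod_reverse] at hm
        have := hl m.reverse (by rw [C.wprod_sref, C.wprod_sref, C.pprod_reverse, hm, inv_inv])
        simpa using this
      rw [← C.reduced_length hr, List.length_reverse]
    simp only [List.length_cons]
    omega
  · obtain ⟨k, hk, e⟩ := C.exchange_erase l.reverse i ((C.neg_iff_not_pos _).2 hpos)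
    rw [List.length_reverse] at hk
    refine ⟨l.length - k - 1, by omega, ?_⟩
    have e2 := congrArg (·⁻¹) e
    simp only [mul_inv_rev, inv_eq_of_mul_eq_one_right (C.sref_mul_self i), ← C.pprod_reverse,
      List.reverse_reverse] at e2
    rw [C.wprod_sref, C.wprod_sref, e2]
    congr 1
    rw [List.eraseIdx_eq_take_drop_succ, List.eraseIdx_eq_take_drop_succ, List.reverse_append,
      List.take_reverse, List.drop_reverse, List.reverse_reverse, List.reverse_reverse,
      show l.length - k - 1 + 1 = l.length - k by omega, show l.length - (k + 1) = l.length - k - 1 by omega]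

theorem sref_injective : Function.Injective C.sref := fun i j h => by
  refine C.p_inj (C.eq_p_of_w_neg (C.p_pos i) ?_)
  rw [← C.sref_apply, ← h, C.sref_apply, C.w_p]
  exact C.rev_neg (C.p_pos i)

/-- The fundamental reflections inside W. -/
def srefW (i : Fin D.rank) : C.WG := ⟨C.sref i, Subgroup.subset_closure ⟨i, rfl⟩⟩

theorem srefW_wprod (L : List (Fin D.rank)) :
    ((Coxeter.Exchange.wprod C.srefW L : C.WG) : Equiv.Perm (Rt D)) = C.pprod L := by
  induction L with
  | nil => rfl
  | cons i L ih => rw [Coxeter.Exchange.wprod_cons, Subgroup.coe_mul, ih, C.pprod_cons]; rfl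

theorem exists_coxeterSystem {M : CoxeterMatrix (Fin D.rank)}
    (hM : ∀ i j, orderOf (C.sref i * C.sref j) = M i j) :
    ∃ cs : CoxeterSystem M C.WG, ∀ i, cs.simple i = C.srefW i := by
  have hred : ∀ l, Coxeter.Exchange.Reduced C.srefW l ↔ Coxeter.Exchange.Reduced C.sref l := by
    intro l
    constructor <;> intro h l' hl' <;> refine h l' ?_
    · exact Subtype.ext (by rw [C.srefW_wprod, C.srefW_wprod]; exact hl')
    · have := congrArg Subtype.val hl'
      rwa [C.srefW_wprod, C.srefW_wprod] at this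
  let cs₀ := M.toCoxeterSystem
  have hinv : ∀ i, C.srefW i * C.srefW i = 1 := fun i => Subtype.ext (C.sref_mul_self i)
  have hord : ∀ i j, orderOf (C.srefW i * C.srefW j) = M i j := fun i j => by
    rw [← hM, ← orderOf_injective C.WG.subtype C.WG.subtype_injective]; rfl
  have hlift : M.IsLiftable C.srefW := fun i j => by rw [← hord]; exact pow_orderOf_eq_one _
  let φ : M.Group →* C.WG := cs₀.lift ⟨C.srefW, hlift⟩
  have hφ : ∀ i, φ (cs₀.simple i) = C.srefW i := fun i => cs₀.lift_apply_simple hlift i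
  have hφw : ∀ l : List (Fin D.rank), φ (Coxeter.Exchange.wprod cs₀.simple l) = Coxeter.Exchange.wprod C.srefW l := by
    intro l
    induction l with
    | nil => simp [Coxeter.Exchange.wprod_nil]
    | cons i l ih => rw [Coxeter.Exchange.wprod_cons, Coxeter.Exchange.wprod_cons, map_mul, hφ, ih]
  have hex : Coxeter.Exchange.HasExchange C.srefW := fun i l hl hnr => by
    obtain ⟨k, hk, e⟩ := C.hasExchange i l ((hred l).1 hl) (fun h => hnr ((hred _).2 h))
    exact ⟨k, hk, Subtype.ext (by rw [Subgroup.coe_mul, C.srefW_wprod, C.srefW_wprod]; exact e)⟩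
  have hrel : ∀ (a b : Fin D.rank) (n : ℕ), (C.srefW a * C.srefW b) ^ n = 1 →
      (cs₀.simple a * cs₀.simple b) ^ n = 1 := by
    intro a b n h
    obtain ⟨c, hc⟩ := orderOf_dvd_of_pow_eq_one h
    have h2 : (cs₀.simple a * cs₀.simple b) ^ orderOf (C.srefW a * C.srefW b) = 1 := by
      rw [hord]; exact cs₀.simple_mul_simple_pow a b
    rw [hc, pow_mul, h2, one_pow]
  have hword : ∀ x : M.Group, ∃ l : List (Fin D.rank), Coxeter.Exchange.wprod cs₀.simple l = x := by
    intro x
    induction x using cs₀.simple_induction_left with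
    | one => exact ⟨[], rfl⟩
    | mul_simple_left w i ih =>
      obtain ⟨l, rfl⟩ := ih
      exact ⟨i :: l, Coxeter.Exchange.wprod_cons i l⟩
  have hbij : Function.Bijective φ := by
    refine ⟨(injective_iff_map_eq_one φ).2 fun x hx => ?_, fun w => ?_⟩
    · obtain ⟨l, rfl⟩ := hword x
      obtain ⟨l', hr, hf', hg'⟩ := Coxeter.Exchange.exists_reduced_eq hinv
        (fun i j h => C.sref_injective (congrArg Subtype.val h)) hex cs₀.simple cs₀.simple_mul_simple_self hrel l
      rw [hφw] at hx
      have := hr [] (by rw [hf', hx, Coxeter.Exchange.wprod_nil])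
      rw [List.length_nil, Nat.le_zero, List.length_eq_zero_iff] at this
      rw [← hg', this, Coxeter.Exchange.wprod_nil]
    · obtain ⟨L, hL⟩ := C.mem_WG_iff.1 w.2
      exact ⟨Coxeter.Exchange.wprod cs₀.simple L,
        (hφw L).trans (Subtype.ext ((C.srefW_wprod L).trans hL))⟩
  exact ⟨cs₀.map (MulEquiv.ofBijective φ hbij), fun i => by simp; exact hφ i⟩

/-- N → W(M), surjective with kernel H. -/
theorem exists_coxeterHom {F : Type*} [Field F] {M : CoxeterMatrix (Fin D.rank)}
    (hM : ∀ i j, orderOf (C.sref i * C.sref j) = M i j) :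
    ∃ φ : ↥(D.monomialSubgroup F) →* M.Group, Function.Surjective φ ∧
      φ.ker = (D.diagonalSubgroup F).subgroupOf (D.monomialSubgroup F) ∧
      ∀ (i : Fin D.rank) (g : ↥(D.monomialSubgroup F)),
        ((g : GL D.Idx F) : Matrix D.Idx D.Idx F) = D.nMat F (D.simple i) 1 → φ g = M.simple i := by
  obtain ⟨cs, hcs⟩ := C.exists_coxeterSystem hM
  refine ⟨cs.mulEquiv.toMonoidHom.comp C.wHom, cs.mulEquiv.surjective.comp C.wHom_surjective, ?_, ?_⟩
  · rw [MonoidHom.ker_comp_of_injective _ _ cs.mulEquiv.injective] 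
    exact C.wHom_ker
  · intro i g hg
    have hg' : g = ⟨C.P F i, C.P_mem_monomial i⟩ := Subtype.ext (Units.ext (hg.trans (C.nMat_one i)))
    subst hg'
    have h1 : C.wHom ⟨C.P F i, C.P_mem_monomial i⟩ = cs.simple i := by
      rw [hcs]; exact Subtype.ext (C.wHom_P i)
    show cs.mulEquiv (C.wHom _) = _
    rw [h1]
    exact cs.mulEquiv.apply_symm_apply _

end Core

namespace Fast

/-- Orders of the products of two fundamental reflections. -/
def coxOK (F : Fast) (M : ℕ → ℕ → ℕ) : Bool :=
  allLt F.l fun i => allLt F.l fun j => Nat.blt 0 (M i j) && allLt (M i j + 1) fun d =>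
    (allLt F.l fun t => Nat.beq ((fun r => F.w i (F.w j r))^[d] (F.p t)) (F.p t)) ==
      (Nat.beq d 0 || Nat.beq d (M i j))

end Fast

theorem Fast.Certified.orderOf_sref {F : Fast} (H : Fast.Certified F D) {M : ℕ → ℕ → ℕ}
    (h : F.coxOK M = true) (i j : Fin D.rank) :
    orderOf (H.core.sref i * H.core.sref j) = M i.val j.val := by
  set C := H.core
  simp only [Fast.coxOK, allLt_iff, Bool.and_eq_true, Nat.blt_eq, beq_iff_eq] at h
  obtain ⟨hpos, hd⟩ := h i.val (H.lt_l i) j.val (H.lt_l j)
  have key : ∀ (d : ℕ) (r : Rt D), (((C.sref i * C.sref j) ^ d) r).val =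
      (fun r => F.w i.val (F.w j.val r))^[d] r.val := by
    intro d r
    induction d with
    | zero => rfl
    | succ d ih =>
      rw [_root_.pow_succ', Equiv.Perm.mul_apply, Function.iterate_succ_apply', ← ih]
      rfl
  have hone : ∀ d, d ≤ M i.val j.val →
      ((C.sref i * C.sref j) ^ d = 1 ↔ d = 0 ∨ d = M i.val j.val) := by
    intro d hdle
    have e := hd d (Nat.lt_succ_of_le hdle)
    rw [Bool.eq_iff_iff] at e
    simp only [allLt_iff, Bool.or_eq_true] at e
    constructor
    · intro h1
      rcases e.1 fun t ht => by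
        have := key d (C.p ⟨t, lt_of_lt_of_eq ht H.hl.symm⟩)
        rw [h1] at this
        rw [← H.p_val ⟨t, lt_of_lt_of_eq ht H.hl.symm⟩, ← this]
        simp [C] with h2 | h2 <;> simp only [Nat.beq_eq] at h2 <;> omega
    · intro h1
      have h2 := e.2 (by rcases h1 with h1 | h1 <;> simp [h1])
      obtain ⟨L, hL⟩ := C.mem_WG_iff.1 (show (C.sref i * C.sref j) ^ d ∈ C.WG from
        pow_mem (mul_mem (C.srefW i).2 (C.srefW j).2) d)
      rw [← hL]
      refine Equiv.ext fun r => C.v_inj (funext fun m => ?_)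
      rw [C.pprod_v]
      have : ∀ t, C.pprod L (C.p t) = C.p t := fun t => Fin.ext (by
        rw [hL, key, H.p_val]; exact Nat.eq_of_beq_eq_true (h2 t.val (H.lt_l t)))
      simp [this, C.v_p, Pi.single_apply]
  rw [orderOf_eq_iff hpos]
  refine ⟨(hone _ le_rfl).2 (Or.inr rfl), fun d hd' h0 hc => ?_⟩
  have := (hone d (le_of_lt hd')).1 hc
  omega

/-- entries of a Coxeter matrix as a function on ℕ -/
def coxFn {n : ℕ} (M : CoxeterMatrix (Fin n)) (i j : ℕ) : ℕ :=
  if h : i < n ∧ j < n then M ⟨i, h.1⟩ ⟨j, h.2⟩ else 1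

theorem Fast.Certified.coxeterHom {F : Fast} (H : Fast.Certified F D) {K : Type*} [Field K]
    (M : CoxeterMatrix (Fin D.rank)) (h : F.coxOK (coxFn M) = true) :
    ∃ φ : ↥(D.monomialSubgroup K) →* M.Group, Function.Surjective φ ∧
      φ.ker = (D.diagonalSubgroup K).subgroupOf (D.monomialSubgroup K) ∧
      ∀ (i : Fin D.rank) (g : ↥(D.monomialSubgroup K)),
        ((g : GL D.Idx K) : Matrix D.Idx D.Idx K) = D.nMat K (D.simple i) 1 → φ g = M.simple i :=
  H.core.exists_coxeterHom fun i j => by
    rw [H.orderOf_sref h i j, coxFn, dif_pos ⟨i.2, j.2⟩]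

theorem coxG2 : Data.G2.fast.coxOK (coxFn CoxeterMatrix.G₂) = true := by decide +kernel
theorem coxB2 : Data.B2.fast.coxOK (coxFn (CoxeterMatrix.B 2)) = true := by decide +kernel
theorem coxD4 : Data.D4.fast.coxOK (coxFn coxeterD4) = true := by decide +kernel
theorem coxF4 : Data.F4.fast.coxOK (coxFn CoxeterMatrix.F₄) = true := by decide +kernel
theorem coxE6 : Data.E6.fast.coxOK (coxFn CoxeterMatrix.E₆) = true := by decide +kernel
theorem coxE7 : Data.E7.fast.coxOK (coxFn CoxeterMatrix.E₇) = true := by decide +kernel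
theorem coxE8 : Data.E8.fast.coxOK (coxFn CoxeterMatrix.E₈) = true := by decide +kernel

end Cfsg.Agent.Lib.ChevStructure
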