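import Cfsg.Agent.Lib.ChevStructure.WeylN

/-!
The height (sum of the coefficients on the fundamental roots): a bound on the nilpotency index of u - 1
for u in U, and the inclusion of the subgroups generated by words in the Chevalley group.
-/

set_option autoImplicit false
set_option linter.unusedSectionVars false

namespace Cfsg.Agent.Lib.ChevStructure.Height

open Cfsg.Lie
open scoped MatrixGroups Matrix

variable {D : ChevalleyDatum} (C : Core D) {F : Type*} [Field F]

/-- the height of a basis vector -/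
def hgt (a : D.Idx) : ℤ := ∑ m, C.wt a m

theorem hgt_pos {r : Rt D} (hr : r ∈ C.Pos) : 0 < ∑ m, C.v r m := by
  have h0 : ∀ m, 0 ≤ C.v r m := C.v_sign r hr
  refine lt_of_le_of_ne (Finset.sum_nonneg fun m _ => h0 m) fun h => ?_
  have hz : C.v r = 0 := funext fun m => (Finset.sum_eq_zero_iff_of_nonneg fun m _ => h0 m).1 h.symm m (Finset.mem_univ _)
  have hp := C.ht_pos hr
  rw [Core.ht, hz] at hp
  simp [phi] at hp

theorem US_le : C.US F C.Pos ≤ upperU F (hgt C) 0 le_rfl := by
  refine (Subgroup.closure_le _).2 ?_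
  rintro g ⟨r, hr, t, rfl⟩
  have key : ∀ t : F, Above (hgt C) 0 (xI D F r t - 1) := by
    intro t
    have e : xI D F r t - 1 = ∑ k ∈ Finset.range 3, t ^ (k + 1) • Ek D F (k + 1) r := by
      rw [xI, Finset.sum_range_succ' _ 3, C.Ek_zero]
      simp
    rw [e]
    intro a b hab
    rw [Matrix.sum_apply] at hab
    obtain ⟨k, -, hk⟩ := Finset.exists_ne_zero_of_sum_ne_zero hab
    have hE : E D (k + 1) r a b ≠ 0 := fun h0 => hk (by simp [Ek, h0])
    have hsum : (∑ m, C.wt a m) = (∑ m, C.wt b m) + ((k + 1 : ℕ) : ℤ) * ∑ m, C.v r m := by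
      rw [C.E_weight (k + 1) r a b hE, Finset.mul_sum, ← Finset.sum_add_distrib]
      rfl
    have hp := hgt_pos C hr
    show hgt C b + 0 < hgt C a
    rw [hgt, hgt, hsum, add_zero]
    have : 0 < ((k + 1 : ℕ) : ℤ) * ∑ m, C.v r m := mul_pos (by positivity) hp
    omega
  exact ⟨key t, by rw [C.X_inv]; exact key (-t)⟩

/-- If all heights are at most B, then (u - 1)^(2B+1) = 0 on U. -/
theorem unipotent_pow {B : ℕ} (hB : ∀ r : Rt D, |∑ m, C.v r m| ≤ (B : ℤ)) {g : GL D.Idx F}
    (hg : g ∈ C.US F C.Pos) : ((g : Matrix D.Idx D.Idx F) - 1) ^ (2 * B + 1) = 0 := by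
  have h0 := (US_le C hg).1
  have hpow : ∀ m : ℕ, Above (hgt C) (m : ℤ) (((g : Matrix D.Idx D.Idx F) - 1) ^ (m + 1)) := by
    intro m
    induction m with
    | zero => simpa using h0
    | succ m ih => rw [_root_.pow_succ]; exact (ih.mul h0).mono (by push_cast; omega)
  refine (hpow (2 * B)).eq_zero fun a b => ?_
  have hb : ∀ x : D.Idx, |hgt C x| ≤ (B : ℤ) := by
    rintro (j | r)
    · simp [hgt, Core.wt]
    · exact hB r
  have h1 := abs_le.1 (hb a)
  have h2 := abs_le.1 (hb b)
  push_cast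
  omega

/-- Subgroups generated by words in root elements lie in the Chevalley group. -/
theorem genSubgroup_le (C : Core D) (S : Set (List (ℕ × F))) : D.genSubgroup F S ≤ D.group F := by
  have hw : ∀ w : List (ℕ × F), ∃ g ∈ D.group F, (g : Matrix D.Idx D.Idx F) = D.wordMat F w := by
    intro w
    induction w with
    | nil => exact ⟨1, one_mem _, rfl⟩
    | cons p w ih =>
      obtain ⟨g, hg, e⟩ := ih
      by_cases hp : p.1 < D.nroots
      · exact ⟨C.X F ⟨p.1, hp⟩ p.2 * g, mul_mem (C.X_mem_group ⟨p.1, hp⟩ p.2) hg, by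
          rw [Units.val_mul, e, C.X_val_x]; rfl⟩
      · refine ⟨g, hg, ?_⟩
        rw [e]
        simp [ChevalleyDatum.wordMat, ChevalleyDatum.x, hp]
  refine (Subgroup.closure_le _).2 ?_
  rintro g ⟨w, -, e⟩
  obtain ⟨g', hg', e'⟩ := hw w
  have : g = g' := Units.ext (e.trans e'.symm)
  rw [this]
  exact hg'

end Cfsg.Agent.Lib.ChevStructure.Height
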