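import Cfsg.Agent.Lib.ChevStructure.BN

/-!
Root subsystems Φ_J, standard parabolic subgroups, their Levi decomposition and the normaliser of U_J.
-/

set_option autoImplicit false
set_option linter.unusedSectionVars false

namespace Cfsg.Agent.Lib.ChevStructure

open Cfsg.Lie
open scoped MatrixGroups Matrix

variable {D : ChevalleyDatum}

namespace Core

/-- The root subsystem of a set of fundamental roots. -/
def PJ (_C : Core D) (J : Set ℕ) : Set (Rt D) := {r | D.InRootSub J r.val}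

/-- The roots of the unipotent radical. -/
def UJ (C : Core D) (J : Set ℕ) : Set (Rt D) := C.Pos \ C.PJ J

/-- The grading by the coefficients outside J. -/
noncomputable def fJ (C : Core D) (J : Set ℕ) (a : D.Idx) : ℤ :=
  ∑ i : Fin D.rank, Jᶜ.indicator (fun _ => C.wt a i) i.val

variable (C : Core D)
include C

theorem mem_PJ {J : Set ℕ} {r : Rt D} : r ∈ C.PJ J ↔ ∀ i : Fin D.rank, (i : ℕ) ∉ J → co D r i = 0 :=
  ⟨fun h i hi => h.2 i.val i.2 hi, fun h => ⟨r.2, fun i hi hJ => h ⟨i, hi⟩ hJ⟩⟩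

theorem PJ_rev {J : Set ℕ} {r : Rt D} (h : r ∈ C.PJ J) : r.rev ∈ C.PJ J :=
  C.mem_PJ.2 fun i hi => by simp [C.co_rev, C.mem_PJ.1 h i hi]

theorem PJ_w {J : Set ℕ} {r : Rt D} (h : r ∈ C.PJ J) {j : Fin D.rank} (hj : (j : ℕ) ∈ J) :
    C.w j r ∈ C.PJ J := by
  refine C.mem_PJ.2 fun i hi => ?_
  have : i ≠ j := fun e => hi (e ▸ hj)
  simp [C.co_w, C.mem_PJ.1 h i hi, this]

theorem p_mem_PJ {J : Set ℕ} {j : Fin D.rank} (hj : (j : ℕ) ∈ J) : C.p j ∈ C.PJ J := by
  refine C.mem_PJ.2 fun i hi => ?_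
  have : i ≠ j := fun e => hi (e ▸ hj)
  simp [C.co_p, this]

theorem co_nonneg {r : Rt D} (h : r ∈ C.Pos) (j : Fin D.rank) : 0 ≤ co D r j := by
  have h2 := ((C.pos_iff r).2 h).2
  unfold co
  rw [Array.getD_eq_getD_getElem?]
  rcases hq : (D.coroot.getD r.val #[])[j.val]? with _ | c
  · simp
  · simp only [Option.getD_some]
    exact h2 c (Array.mem_toList_iff.2 (Array.mem_of_getElem? hq))

/-- A positive root which is not fundamental can be lowered by a fundamental reflection in its support. -/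
theorem exists_lower {r : Rt D} (hr : r ∈ C.Pos) :
    ∃ j, 0 < co D r j ∧ 0 < A D j r := by
  have h : 0 < ∑ j, co D r j * A D j r := by
    have := C.pr_self r
    unfold pr at this
    omega
  obtain ⟨j, -, hj⟩ := Finset.exists_lt_of_sum_lt (f := fun _ => (0 : ℤ))
      (g := fun j => co D r j * A D j r) (s := Finset.univ) (by simpa using h)
  have h0 := C.co_nonneg hr j
  refine ⟨j, ?_, ?_⟩
  · by_contra hc; rw [show co D r j = 0 by omega, zero_mul] at hj; omega
  · by_contra hc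
    have := mul_nonpos_of_nonneg_of_nonpos h0 (not_lt.1 hc)
    omega

theorem ht_w_lt {r : Rt D} {j : Fin D.rank} (h : 0 < A D j r) : C.ht (C.w j r) < C.ht r := by
  have hp := C.ht_pos (C.p_pos j)
  have hv : C.v (C.w j r) = (1 : ℤ) • C.v r + (-A D j r) • C.v (C.p j) := by
    rw [C.v_w, C.v_p]; module
  rw [C.ht_combo hv]
  nlinarith

/-- Induction over the positive roots of Φ_J. -/
theorem ind_PJ {J : Set ℕ} (motive : Rt D → Prop)
    (base : ∀ j : Fin D.rank, (j : ℕ) ∈ J → motive (C.p j))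
    (step : ∀ (j : Fin D.rank) (r : Rt D), (j : ℕ) ∈ J → r ∈ C.Pos → r ∈ C.PJ J → C.w j r ∈ C.Pos →
      0 < A D j (C.w j r) → 0 < co D (C.w j r) j → motive r → motive (C.w j r)) :
    ∀ r ∈ C.Pos, r ∈ C.PJ J → motive r := by
  have key : ∀ n : ℕ, ∀ r ∈ C.Pos, r ∈ C.PJ J → (C.ht r).toNat = n → motive r := by
    intro n
    induction n using Nat.strong_induction_on with
    | _ n ih =>
      intro r hr hJ hn
      obtain ⟨j, hco, hA⟩ := C.exists_lower hr
      have hjJ : (j : ℕ) ∈ J := by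
        by_contra hc; rw [C.mem_PJ.1 hJ j hc] at hco; exact lt_irrefl 0 hco
      by_cases hrp : r = C.p j
      · rw [hrp]; exact base j hjJ
      have hpos := C.w_pos hr hrp
      have hlt := C.ht_w_lt hA
      have h' := ih (C.ht (C.w j r)).toNat (by have := C.ht_pos hpos; omega) _ hpos (C.PJ_w hJ hjJ) rfl
      have := step j (C.w j r) hjJ hpos (C.PJ_w hJ hjJ) (by rwa [C.w_w]) (by rwa [C.w_w]) (by rwa [C.w_w]) h'
      rwa [C.w_w] at this
  exact fun r hr hJ => key _ r hr hJ rfl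

/-- Roots and coroots have the same support. -/
theorem v_eq_zero_iff {r : Rt D} (hr : r ∈ C.Pos) (i : Fin D.rank) : C.v r i = 0 ↔ co D r i = 0 := by
  revert i
  refine C.ind_PJ (J := Set.univ) (fun r => ∀ i, C.v r i = 0 ↔ co D r i = 0) (fun j _ i => ?_) ?_ r hr
    (C.mem_PJ.2 fun i hi => absurd trivial hi)
  · simp [C.v_p, C.co_p]
  · intro j s _ hs _ hw hA hco ih i
    by_cases hij : i = j
    · subst hij
      have h1 := C.v_nonneg hs i
      have e1 : C.v (C.w i s) i = C.v s i + A D i (C.w i s) := by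
        rw [C.A_w, C.A_p, C.v_w]; simp; ring
      constructor <;> intro h <;> omega
    · simp [C.v_w, C.co_w, hij, ih i]

theorem fJ_add {J : Set ℕ} {a b : D.Idx} {r : Rt D} {k : ℤ} (h : C.wt a = C.wt b + k • C.v r) :
    C.fJ J a = C.fJ J b + k * C.fJ J (Sum.inr r) := by
  classical
  unfold fJ
  rw [Finset.mul_sum, ← Finset.sum_add_distrib]
  refine Finset.sum_congr rfl fun i _ => ?_
  by_cases hi : (i : ℕ) ∈ J
  · simp [Set.indicator, hi]
  · have e : C.wt (Sum.inr r) i = C.v r i := rfl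
    simp [Set.indicator, hi, h, e]

theorem v_zero_of_PJ {J : Set ℕ} {r : Rt D} (h : r ∈ C.PJ J) {i : Fin D.rank} (hi : (i : ℕ) ∉ J) :
    C.v r i = 0 := by
  by_cases hr : r ∈ C.Pos
  · exact (C.v_eq_zero_iff hr i).2 (C.mem_PJ.1 h i hi)
  · have := (C.v_eq_zero_iff (C.rev_pos ((C.neg_iff_not_pos r).2 hr)) i).2 (C.mem_PJ.1 (C.PJ_rev h) i hi)
    simpa [C.v_rev] using this

theorem exists_outside {J : Set ℕ} {r : Rt D} (h : r ∈ C.UJ J) :
    ∃ i : Fin D.rank, (i : ℕ) ∉ J ∧ 0 < C.v r i := by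
  by_contra hc
  push Not at hc
  exact h.2 (C.mem_PJ.2 fun i hi => (C.v_eq_zero_iff h.1 i).1 (le_antisymm (hc i hi) (C.v_nonneg h.1 i)))

theorem fJ_inl (J : Set ℕ) (j : Fin D.rank) : C.fJ J (Sum.inl j) = 0 := by
  simp [fJ, wt, Set.indicator]

theorem fJ_PJ {J : Set ℕ} {r : Rt D} (h : r ∈ C.PJ J) : C.fJ J (Sum.inr r) = 0 := by
  classical
  refine Finset.sum_eq_zero fun i _ => ?_
  by_cases hi : (i : ℕ) ∈ J
  · simp [Set.indicator, hi]
  · simp [Set.indicator, hi, wt, C.v_zero_of_PJ h hi]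

theorem fJ_UJ {J : Set ℕ} {r : Rt D} (h : r ∈ C.UJ J) : 0 < C.fJ J (Sum.inr r) := by
  classical
  obtain ⟨i, hi, hv⟩ := C.exists_outside h
  refine Finset.sum_pos' (fun m _ => ?_) ⟨i, Finset.mem_univ _, by simpa [Set.indicator, hi, wt] using hv⟩
  by_cases hm : (m : ℕ) ∈ J
  · simp [Set.indicator, hm]
  · simpa [Set.indicator, hm, wt] using C.v_nonneg h.1 m

theorem absorb_UJ {J : Set ℕ} {r : Rt D} (hr : r ∈ C.Pos ∨ r ∈ C.PJ J) : C.Absorb r (C.UJ J) := by
  refine ⟨fun h => ?_, fun s hs _ q a b _ hb hv => ?_⟩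
  · rcases hr with hr | hr
    · exact (C.neg_iff_not_pos _).1 (C.rev_neg hr) h.1
    · exact h.2 (C.PJ_rev hr)
  · obtain ⟨i, hi, hsv⟩ := C.exists_outside hs
    have hrv : 0 ≤ C.v r i := by
      rcases hr with hr | hr
      · exact C.v_nonneg hr i
      · rw [C.v_zero_of_PJ hr hi]
    have hq : 0 < C.v q i := by
      rw [hv]
      simp only [Pi.add_apply, Pi.smul_apply, smul_eq_mul]
      have : (1 : ℤ) ≤ (b : ℤ) := by exact_mod_cast hb
      have : (0 : ℤ) ≤ (a : ℤ) := Int.natCast_nonneg a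
      nlinarith
    exact ⟨C.pos_of_coord hq, fun hq' => by rw [C.v_zero_of_PJ hq' hi] at hq; exact lt_irrefl 0 hq⟩

variable {F : Type*} [Field F]

theorem unipotentRadical_eq (J : Set ℕ) : D.unipotentRadical F J = C.US F (C.UJ J) := by
  have h := C.closure_eq_US (F := F) (fun r => D.IsPosRoot r ∧ ¬ D.InRootSub J r) (fun r hr => hr.1.1)
  simp only [and_assoc] at h
  rw [ChevalleyDatum.unipotentRadical, h]
  congr 1
  ext r
  simp [UJ, PJ, C.pos_iff, Pos]

theorem levi_eq (J : Set ℕ) : D.leviSubgroup F J = D.diagonalSubgroup F ⊔ C.US F (C.PJ J) := by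
  rw [ChevalleyDatum.leviSubgroup, C.closure_eq_US (F := F) (fun r => D.InRootSub J r) (fun r hr => hr.1)]
  rfl

theorem parabolic_eq (J : Set ℕ) : D.parabolicSubgroup F J =
    D.borelSubgroup F ⊔ Subgroup.closure {g | ∃ j : Fin D.rank, (j : ℕ) ∈ J ∧ g = C.P F j} := by
  rw [ChevalleyDatum.parabolicSubgroup]
  congr 2
  ext g
  constructor
  · rintro ⟨j, hj, hjr, hg⟩; exact ⟨⟨j, hjr⟩, hj, C.eq_P hjr hg⟩
  · rintro ⟨j, hj, rfl⟩; exact ⟨j.val, hj, j.2, (C.nMat_one j).symm⟩

theorem P_mem_parabolic {J : Set ℕ} {j : Fin D.rank} (hj : (j : ℕ) ∈ J) :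
    C.P F j ∈ D.parabolicSubgroup F J := by
  rw [C.parabolic_eq]; exact Subgroup.mem_sup_right (Subgroup.subset_closure ⟨j, hj, rfl⟩)

theorem borel_le_parabolic (J : Set ℕ) : D.borelSubgroup F ≤ D.parabolicSubgroup F J := le_sup_left

theorem parabolic_le_group (J : Set ℕ) : D.parabolicSubgroup F J ≤ D.group F := by
  rw [C.parabolic_eq]
  refine sup_le C.borel_le_group ((Subgroup.closure_le _).2 ?_)
  rintro g ⟨j, -, rfl⟩
  exact C.P_mem_group j

theorem parabolic_eq_generated (J : Set ℕ) :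
    D.parabolicSubgroup F J = D.diagonalSubgroup F ⊔ C.US F (C.Pos ∪ C.PJ J) := by
  apply le_antisymm
  · rw [C.parabolic_eq]
    refine sup_le ?_ ((Subgroup.closure_le _).2 ?_)
    · rw [C.borel_eq]
      exact sup_le ((C.US_mono F Set.subset_union_left).trans le_sup_right) le_sup_left
    · rintro g ⟨j, hj, rfl⟩
      have h1 : C.p j ∈ C.Pos ∪ C.PJ J := Or.inl (C.p_pos j)
      have h2 : (C.p j).rev ∈ C.Pos ∪ C.PJ J := Or.inr (C.PJ_rev (C.p_mem_PJ hj))
      exact Subgroup.mem_sup_right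
        (mul_mem (mul_mem (C.X_mem_US F h1 _) (C.X_mem_US F h2 _)) (C.X_mem_US F h1 _))
  · refine sup_le (C.diagonal_le_borel.trans (C.borel_le_parabolic J)) ((Subgroup.closure_le _).2 ?_)
    rintro g ⟨r, hr, t, rfl⟩
    by_cases hp : r ∈ C.Pos
    · exact C.borel_le_parabolic J (C.X_mem_borel hp t)
    have hrJ : r ∈ C.PJ J := hr.resolve_left hp
    have key : ∀ s ∈ C.Pos, s ∈ C.PJ J → ∀ t : F, C.X F s.rev t ∈ D.parabolicSubgroup F J := by
      refine C.ind_PJ (fun s => ∀ t : F, C.X F s.rev t ∈ D.parabolicSubgroup F J) (fun j hj t => ?_) ?_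
      · have e := C.P_X_conj F j (C.p j) (-t)
        rw [C.w_p, C.η_p, Int.cast_neg, Int.cast_one, neg_mul_neg, one_mul] at e
        rw [← e]
        exact mul_mem (mul_mem (C.P_mem_parabolic hj) (C.borel_le_parabolic J (C.X_mem_borel (C.p_pos j) _)))
          (inv_mem (C.P_mem_parabolic hj))
      · intro j s hj _ _ _ _ _ ih t
        have e := C.P_X_conj F j s.rev ((C.η j s.rev : F) * t)
        rw [← mul_assoc, ← Int.cast_mul, C.η_mul_self, Int.cast_one, one_mul, C.w_rev] at e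
        rw [← e]
        exact mul_mem (mul_mem (C.P_mem_parabolic hj) (ih _)) (inv_mem (C.P_mem_parabolic hj))
    have := key r.rev (C.rev_pos ((C.neg_iff_not_pos r).2 hp)) (C.PJ_rev hrJ) t
    rwa [C.rev_rev] at this

end Core

namespace CommOK

variable {C : Core D} (H : CommOK C) {F : Type*} [Field F] (J : Set ℕ)
include H

theorem parabolic_le_normalizer :
    D.parabolicSubgroup F J ≤ Subgroup.normalizer (C.US F (C.UJ J) : Set (GL D.Idx F)) := by
  rw [C.parabolic_eq_generated]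
  refine sup_le (C.diag_le_normalizer _) ((Subgroup.closure_le _).2 ?_)
  rintro g ⟨r, hr, t, rfl⟩
  exact H.mem_normalizer (C.absorb_UJ hr) t

theorem radical_sup_levi :
    C.US F (C.UJ J) ⊔ D.leviSubgroup F J = D.parabolicSubgroup F J := by
  rw [C.levi_eq, C.parabolic_eq_generated]
  refine le_antisymm (sup_le ((C.US_mono F fun r hr => Or.inl hr.1).trans le_sup_right)
    (sup_le le_sup_left ((C.US_mono F Set.subset_union_right).trans le_sup_right))) ?_
  refine sup_le (le_sup_left.trans le_sup_right) ((Subgroup.closure_le _).2 ?_)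
  rintro g ⟨r, hr, t, rfl⟩
  by_cases h : r ∈ C.PJ J
  · exact Subgroup.mem_sup_right (Subgroup.mem_sup_right (C.X_mem_US F h t))
  · exact Subgroup.mem_sup_left (C.X_mem_US F (S := C.UJ J) ⟨hr.resolve_right h, h⟩ t)

theorem radical_inf_levi : C.US F (C.UJ J) ⊓ D.leviSubgroup F J = ⊥ := by
  classical
  let M : Subgroup (GL D.Idx F) :=
    { carrier := {g | (∀ a b, C.fJ J a ≠ C.fJ J b → (g : Matrix D.Idx D.Idx F) a b = 0) ∧
        ∀ a b, C.fJ J a ≠ C.fJ J b → ((g⁻¹ : GL D.Idx F) : Matrix D.Idx D.Idx F) a b = 0}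
      one_mem' := ⟨fun a b h => by rw [Units.val_one, Matrix.one_apply_ne (show a ≠ b from fun e => h (congrArg (C.fJ J) e))],
        fun a b h => by rw [inv_one, Units.val_one, Matrix.one_apply_ne (show a ≠ b from fun e => h (congrArg (C.fJ J) e))]⟩
      mul_mem' := by
        intro g k hg hk
        have key : ∀ A B : Matrix D.Idx D.Idx F, (∀ a b, C.fJ J a ≠ C.fJ J b → A a b = 0) →
            (∀ a b, C.fJ J a ≠ C.fJ J b → B a b = 0) → ∀ a b, C.fJ J a ≠ C.fJ J b → (A * B) a b = 0 := by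
          intro A B hA hB a b hab
          rw [Matrix.mul_apply]
          refine Finset.sum_eq_zero fun x _ => ?_
          by_cases hx : C.fJ J a = C.fJ J x
          · rw [hB x b (hx ▸ hab), mul_zero]
          · rw [hA a x hx, zero_mul]
        exact ⟨key _ _ hg.1 hk.1, by rw [mul_inv_rev]; exact key _ _ hk.2 hg.2⟩
      inv_mem' := by
        intro g hg
        exact ⟨hg.2, by rw [inv_inv]; exact hg.1⟩ }
  have hX : ∀ (r : Rt D) (t : F) (a b : D.Idx), a ≠ b → xI D F r t a b ≠ 0 →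
      ∃ k : ℕ, 1 ≤ k ∧ C.fJ J a = C.fJ J b + k * C.fJ J (Sum.inr r) := by
    intro r t a b hab hne
    rw [xI, Matrix.sum_apply] at hne
    obtain ⟨k, -, hk⟩ := Finset.exists_ne_zero_of_sum_ne_zero hne
    have hE : E D k r a b ≠ 0 := fun h0 => hk (by simp [Ek, h0])
    refine ⟨k, ?_, C.fJ_add (C.E_weight k r a b hE)⟩
    by_contra h0
    rw [show k = 0 by omega] at hE
    simp [E, Matrix.one_apply_ne hab] at hE
  have hL : D.leviSubgroup F J ≤ M := by
    rw [C.levi_eq]
    refine sup_le (fun g hg => ?_) ((Subgroup.closure_le _).2 ?_)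
    · obtain ⟨c, rfl⟩ := C.mem_diagonal_iff.1 hg
      exact ⟨fun a b h => C.diag_entry F _ a b (fun e => h (congrArg (C.fJ J) e)), fun a b h => by
        rw [C.HT_inv]; exact C.diag_entry F _ a b (fun e => h (congrArg (C.fJ J) e))⟩
    · rintro g ⟨r, hr, t, rfl⟩
      have key : ∀ t : F, ∀ a b, C.fJ J a ≠ C.fJ J b → xI D F r t a b = 0 := by
        intro t a b h
        by_contra hne
        obtain ⟨k, -, hk⟩ := hX r t a b (fun e => h (congrArg (C.fJ J) e)) hne
        rw [C.fJ_PJ hr, mul_zero, add_zero] at hk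
        exact h hk
      exact ⟨key t, by rw [C.X_inv]; exact key (-t)⟩
  have hU : C.US F (C.UJ J) ≤ upperU F (C.fJ J) 0 le_rfl := by
    refine (Subgroup.closure_le _).2 ?_
    rintro g ⟨r, hr, t, rfl⟩
    have key : ∀ t : F, Above (C.fJ J) 0 (xI D F r t - 1) := by
      intro t a b hne
      by_cases hab : a = b
      · subst hab
        exfalso
        apply hne
        rw [Matrix.sub_apply, Matrix.one_apply_eq, xI, Matrix.sum_apply, Finset.sum_eq_single 0]
        · simp [Ek, E]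
        · intro k _ hk
          by_contra h0
          have hE : E D k r a a ≠ 0 := fun h => h0 (by simp [Ek, h])
          have h1 := C.fJ_add (J := J) (C.E_weight k r a a hE)
          have h2 := C.fJ_UJ hr
          have : (0 : ℤ) < (k : ℤ) * C.fJ J (Sum.inr r) := mul_pos (by omega) h2
          omega
        · simp
      · rw [Matrix.sub_apply, Matrix.one_apply_ne hab, sub_zero] at hne
        obtain ⟨k, hk1, hk⟩ := hX r t a b hab hne
        have h2 := C.fJ_UJ hr
        have : (0 : ℤ) < (k : ℤ) * C.fJ J (Sum.inr r) := mul_pos (by omega) h2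
        omega
    exact ⟨key t, by rw [C.X_inv]; exact key (-t)⟩
  refine eq_bot_iff.2 fun g hg => ?_
  rw [Subgroup.mem_bot]
  apply Units.ext
  rw [Units.val_one]
  refine sub_eq_zero.1 (Matrix.ext fun a b => ?_)
  by_contra hne
  have h1 := (hU hg.1).1 a b hne
  have h2 : C.fJ J a ≠ C.fJ J b := by omega
  apply hne
  have hab : a ≠ b := fun e => h2 (congrArg (C.fJ J) e)
  rw [Matrix.sub_apply, Matrix.one_apply_ne hab, sub_zero]
  exact (hL hg.2).1 a b h2

theorem normalizer_radical (hJ : ∀ j ∈ J, j < D.rank) :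
    Subgroup.normalizer (C.US F (C.UJ J) : Set (GL D.Idx F)) ⊓ D.group F = D.parabolicSubgroup F J := by
  have hle : D.parabolicSubgroup F J ≤
      Subgroup.normalizer (C.US F (C.UJ J) : Set (GL D.Idx F)) ⊓ D.group F :=
    le_inf (H.parabolic_le_normalizer J) (C.parabolic_le_group J)
  refine le_antisymm ?_ hle
  rw [H.eq_parabolic_of_borel_le ((C.borel_le_parabolic J).trans hle) inf_le_right]
  refine le_of_eq (congrArg (D.parabolicSubgroup F) ?_)
  ext i
  constructor
  · rintro ⟨hi, hM, -⟩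
    by_contra hc
    have hp : C.p ⟨i, hi⟩ ∈ C.UJ J := ⟨C.p_pos _, fun h => by
      have := C.mem_PJ.1 h ⟨i, hi⟩ hc
      simp [C.co_p] at this⟩
    have h := (Subgroup.mem_normalizer_iff.1 hM _).1 (C.X_mem_US F hp (1 : F))
    rw [C.P_X_conj, C.w_p] at h
    have := C.X_neg_mem_borel (C.rev_neg (C.p_pos _)) (C.posUS_le_borel (C.US_mono F (fun _ hr => hr.1) h))
    simp [C.η_p] at this
  · intro hi
    exact ⟨hJ i hi, hle (C.P_mem_parabolic (j := ⟨i, hJ i hi⟩) hi)⟩

end CommOK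

end Cfsg.Agent.Lib.ChevStructure
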