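import Cfsg.Agent.Lib.ChevStructure.BN
import Cfsg.Agent.Lib.ChevStructure.CheckCore
import Cfsg.Agent.Lib.ChevStructure.Cert.G2
import Cfsg.Agent.Lib.ChevStructure.Cert.B2
import Cfsg.Agent.Lib.ChevStructure.Cert.D4
import Cfsg.Agent.Lib.ChevStructure.Cert.F4
import Cfsg.Agent.Lib.ChevStructure.Cert.E6
import Cfsg.Agent.Lib.ChevStructure.Cert.E7
import Cfsg.Agent.Lib.ChevStructure.Cert.E8
import Cfsg.Agent.S0319

/-!
Perfectness and simplicity of the Chevalley groups.
-/

set_option autoImplicit false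
set_option maxRecDepth 100000
set_option linter.unusedSectionVars false

namespace Cfsg.Agent.Lib.ChevStructure

open Cfsg.Lie
open scoped MatrixGroups Matrix commutatorElement

variable {D : ChevalleyDatum}

namespace Core

variable (C : Core D) {F : Type*} [Field F]
include C

theorem torus_commutator {r : Rt D} {c : Fin D.rank → Fˣ} (h : (C.chA c r : F) ≠ 1) (t : F) :
    C.X F r t ∈ ⁅D.group F, D.group F⁆ := by
  set a : F := (C.chA c r : F) with ha
  have h1 : a - 1 ≠ 0 := sub_ne_zero.2 h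
  have h2 := Subgroup.commutator_mem_commutator (C.HT_mem_group c) (C.X_mem_group r ((a - 1)⁻¹ * t))
  rw [commutatorElement_def, C.HT_X_conj, C.X_inv, C.X_add, ← ha] at h2
  rwa [show a * ((a - 1)⁻¹ * t) + -((a - 1)⁻¹ * t) = t by field_simp; ring] at h2

/-- Perfectness from the simple root subgroups. -/
theorem perfect_of_simple (h : ∀ (i : Fin D.rank) (t : F), C.X F (C.p i) t ∈ ⁅D.group F, D.group F⁆) :
    commutator ↥(D.group F) = ⊤ := by
  apply Subgroup.map_injective (D.group F).subtype_injective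
  rw [Subgroup.map_subtype_commutator, ← MonoidHom.range_eq_map, Subgroup.range_subtype]
  refine le_antisymm (Subgroup.commutator_le.2 fun a ha b hb => ?_) ?_
  · exact mul_mem (mul_mem (mul_mem ha hb) (inv_mem ha)) (inv_mem hb)
  · refine (Subgroup.closure_le _).2 ?_
    rintro g ⟨r, t, hg⟩
    have key : ∀ r : Rt D, ∀ t : F, C.X F r t ∈ ⁅D.group F, D.group F⁆ := by
      refine C.ind (fun r => ∀ t : F, C.X F r t ∈ ⁅D.group F, D.group F⁆) h fun i r ih t => ?_
      have e := C.P_X_conj F i r ((C.η i r : F) * t)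
      rw [← mul_assoc, ← Int.cast_mul, C.η_mul_self, Int.cast_one, one_mul] at e
      rw [← e]
      have hn : ⁅D.group F, D.group F⁆ ≤ D.group F :=
        Subgroup.commutator_le.2 fun a ha b hb => mul_mem (mul_mem (mul_mem ha hb) (inv_mem ha)) (inv_mem hb)
      have h1 := ih ((C.η i r : F) * t)
      have h2 := Subgroup.commutator_mem_commutator (C.P_mem_group (F := F) i) (hn h1)
      have e2 : C.P F i * C.X F r ((C.η i r : F) * t) * (C.P F i)⁻¹ =
          ⁅C.P F i, C.X F r ((C.η i r : F) * t)⁆ * C.X F r ((C.η i r : F) * t) := by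
        rw [commutatorElement_def]; group
      rw [e2]
      exact mul_mem h2 h1
    have e : g = C.X F r t := C.eq_X (by rw [hg, ChevalleyDatum.x, dif_pos r.isLt])
    rw [e]
    exact key _ _

end Core

theorem CommOK.pair_commutator {C : Core D} (H : CommOK C) {F : Type*} [Field F] {r s : Rt D} {i : Fin D.rank}
    {M : ℤ} (hrs : s ≠ r) (hne : s ≠ r.rev) (hterm : D.commTerms r.val s.val = [((C.p i).val, M, 1, 1)])
    (hM : (M : F) ≠ 0) (t : F) : C.X F (C.p i) t ∈ ⁅D.group F, D.group F⁆ := by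
  have h := H.comm_X r s hrs hne (-((M : F)⁻¹ * t)) 1
  rw [hterm] at h
  simp only [List.map_cons, List.map_nil, List.prod_cons, List.prod_nil, mul_one, pow_one, neg_neg,
    C.XN_fin, mul_inv_cancel_left₀ hM] at h
  have h2 := Subgroup.commutator_mem_commutator (inv_mem (C.X_mem_group (F := F) s 1))
    (inv_mem (C.X_mem_group r (-((M : F)⁻¹ * t))))
  rw [commutatorElement_def, inv_inv, inv_inv, mul_assoc, h] at h2
  simpa [mul_assoc] using h2

namespace Fast

variable (F : Fast)

/-- Certificate that each simple root element is a commutator of two root elements. -/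
def pairsOK (D : ChevalleyDatum) (P : List (ℕ × ℕ × ℤ)) : Bool :=
  allLt F.l fun i =>
    Nat.blt (P.getD i (0, 0, 0)).1 F.n && Nat.blt (P.getD i (0, 0, 0)).2.1 F.n &&
    !Nat.beq (P.getD i (0, 0, 0)).2.1 (P.getD i (0, 0, 0)).1 &&
    !Nat.beq (P.getD i (0, 0, 0)).2.1 (F.rv (P.getD i (0, 0, 0)).1) &&
    decide ((P.getD i (0, 0, 0)).2.2 = 1 ∨ (P.getD i (0, 0, 0)).2.2 = -1) &&
    decide (D.commTerms (P.getD i (0, 0, 0)).1 (P.getD i (0, 0, 0)).2.1 =
      [(F.p i, (P.getD i (0, 0, 0)).2.2, 1, 1)])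

/-- Irreducibility: no proper non-empty set of nodes commutes with its complement. -/
def irredOK : Bool :=
  allLt (2 ^ F.l) fun m => Nat.beq m 0 || Nat.beq m (2 ^ F.l - 1) ||
    (List.range F.l).any fun i => (List.range F.l).any fun j =>
      m.testBit i && !m.testBit j &&
        (List.range F.l).any fun t => !Nat.beq (F.w i (F.w j (F.p t))) (F.w j (F.w i (F.p t)))

end Fast

namespace Fast.Certified

variable {F : Fast} (H : Fast.Certified F D)
include H

theorem perfect_pairs (hc : CommOK H.core) {P : List (ℕ × ℕ × ℤ)} (h : F.pairsOK D P = true)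
    {K : Type*} [Field K] : commutator ↥(D.group K) = ⊤ := by
  refine H.core.perfect_of_simple fun i t => ?_
  simp only [Fast.pairsOK, allLt_iff, Bool.and_eq_true, Nat.blt_eq, decide_eq_true_eq,
    Bool.not_eq_true'] at h
  obtain ⟨⟨⟨⟨⟨h1, h2⟩, h3⟩, h4⟩, h5⟩, h6⟩ := h i.val (H.lt_l i)
  set e := P.getD i.val (0, 0, 0)
  refine hc.pair_commutator (r := ⟨e.1, lt_of_lt_of_eq h1 H.hn.symm⟩) (s := ⟨e.2.1, lt_of_lt_of_eq h2 H.hn.symm⟩)
    (M := e.2.2) ?_ ?_ h6 ?_ t
  · intro he
    have he' : e.2.1 = e.1 := congrArg Fin.val he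
    rw [he'] at h3; simp at h3
  · intro he
    have he' := congrArg Fin.val he
    rw [H.rev_val] at he'
    change e.2.1 = F.rv e.1 at he'
    rw [he'] at h4; simp at h4
  · rcases h5 with h5 | h5 <;> simp [h5]


theorem irreducible (hc : CommOK H.core) (h : F.irredOK = true) (K : Type*) [Field K] :
    (hc.bnPair K).Irreducible := by
  classical
  set C := H.core with hC
  intro J hJ hne hne'
  simp only [Fast.irredOK, allLt_iff, Bool.or_eq_true, List.any_eq_true, List.mem_range, Bool.and_eq_true,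
    Bool.not_eq_true'] at h
  let el : Fin D.rank → ↥(D.group K) := fun i => ⟨C.P K i, C.P_mem_group i⟩
  have hel : ∀ s ∈ (hc.bnPair K).S, ∃ i, s = el i := fun s hs => by
    obtain ⟨i, hi⟩ := C.S_eq hs; exact ⟨i, Subtype.ext hi⟩
  have helS : ∀ i, el i ∈ (hc.bnPair K).S := fun i => ⟨i.val, i.2, (C.nMat_one i).symm⟩
  have hl : F.l = D.rank := H.hl.symm
  set f : ℕ → Bool := fun k => if hk : k < D.rank then decide (el ⟨k, hk⟩ ∈ J) else false with hf
  set m := Nat.ofBits fun k : Fin F.l => f k.val with hm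
  have hbit : ∀ k, k < F.l → m.testBit k = f k := fun k hk => by
    rw [hm, Nat.testBit_ofBits_lt _ k hk]
  rcases h m (Nat.ofBits_lt_two_pow _) with (h0 | h0) | ⟨i, hi, j, hj, ⟨hbi, hbj⟩, t, ht, hne2⟩
  · exfalso
    obtain ⟨s, hs⟩ := hne
    obtain ⟨i, rfl⟩ := hel s (hJ hs)
    have := hbit i.val (by omega)
    rw [Nat.eq_of_beq_eq_true h0] at this
    simp [hf, i.2, hs] at this
  · exfalso
    obtain ⟨s, hs, hsJ⟩ := hne'
    obtain ⟨i, rfl⟩ := hel s hs
    have := hbit i.val (by omega)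
    rw [Nat.eq_of_beq_eq_true h0, Nat.testBit_two_pow_sub_one] at this
    simp [hf, i.2, hsJ, show i.val < F.l by omega] at this
  · rw [hbit i hi] at hbi
    rw [hbit j hj] at hbj
    simp only [hf, hl ▸ hi, hl ▸ hj, dif_pos, decide_eq_true_eq, decide_eq_false_iff_not] at hbi hbj
    refine ⟨el ⟨i, hl ▸ hi⟩, hbi, el ⟨j, hl ▸ hj⟩, ⟨helS _, hbj⟩, fun hB => ?_⟩
    set i' : Fin D.rank := ⟨i, hl ▸ hi⟩
    set j' : Fin D.rank := ⟨j, hl ▸ hj⟩
    have hB' : C.P K i' * C.P K j' * (C.P K i')⁻¹ * (C.P K j')⁻¹ ∈ D.borelSubgroup K := hB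
    have hP : ∀ k, C.Acts (C.P K k) (C.sref k) := fun k => by
      simpa [Core.wprod, Core.pprod] using C.acts_wprod K [k]
    have hd : C.P K i' * C.P K j' * (C.P K i')⁻¹ * (C.P K j')⁻¹ ∈ D.diagonalSubgroup K := by
      rw [← C.borel_inf_monomial]
      exact Subgroup.mem_inf.2 ⟨hB', mul_mem (mul_mem (mul_mem (C.P_mem_monomial _) (C.P_mem_monomial _))
        (inv_mem (C.P_mem_monomial _))) (inv_mem (C.P_mem_monomial _))⟩
    have hcomm := C.acts_unique K
      (C.acts_mul K (C.acts_mul K (C.acts_mul K (hP i') (hP j')) (C.acts_inv K (hP i'))) (C.acts_inv K (hP j')))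
      (C.acts_diagonal hd)
    rw [mul_inv_eq_one, mul_inv_eq_iff_eq_mul] at hcomm
    have := congrArg (fun σ : Equiv.Perm (Rt D) => (σ (C.p ⟨t, hl ▸ ht⟩)).val) hcomm
    have h2 : F.w i (F.w j (F.p t)) = F.w j (F.w i (F.p t)) := this
    rw [h2] at hne2
    simp at hne2

/-- Simplicity. -/
theorem isSimple (hc : CommOK H.core) (h : F.irredOK = true) {K : Type*} [Field K]
    (hperf : commutator ↥(D.group K) = ⊤) :
    IsSimpleGroup ↥(D.group K) ∧ ¬ IsMulCommutative ↥(D.group K) := by
  set C := H.core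
  let i : Fin D.rank := ⟨0, C.rank_pos⟩
  have hnt : Nontrivial ↥(D.group K) := by
    refine ⟨⟨⟨C.X K (C.p i) 1, C.X_mem_group _ _⟩, 1, fun e => ?_⟩⟩
    exact one_ne_zero (C.X_eq_one (congrArg Subtype.val e))
  haveI := C.borel_isSolvable (F := K)
  have hsolv : Group.IsSolvable (hc.bnPair K).B :=
    Group.isSolvable_of_isSolvable_injective (f := (Subgroup.subgroupOfEquivOfLe C.borel_le_group).toMonoidHom)
      (MulEquiv.injective _)
  refine ⟨Cfsg.Agent.S0319.result (hc.bnPair K) (H.irreducible hc h K) hsolv hperf C.borel_core, fun hcm => ?_⟩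
  have hb : commutator ↥(D.group K) = ⊥ := by
    rw [commutator_def, Subgroup.commutator_eq_bot_iff_le_centralizer]
    intro x _
    rw [Subgroup.mem_centralizer_iff]
    intro y _
    exact hcm.is_comm.comm y x
  rw [hperf] at hb
  exact top_ne_bot hb

end Fast.Certified

theorem irredG2 : Data.G2.fast.irredOK = true := by decide +kernel
theorem irredB2 : Data.B2.fast.irredOK = true := by decide +kernel
theorem irredD4 : Data.D4.fast.irredOK = true := by decide +kernel
theorem irredF4 : Data.F4.fast.irredOK = true := by decide +kernel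
theorem irredE6 : Data.E6.fast.irredOK = true := by decide +kernel
theorem irredE7 : Data.E7.fast.irredOK = true := by decide +kernel
theorem irredE8 : Data.E8.fast.irredOK = true := by decide +kernel

theorem pairsD4 : Data.D4.fast.pairsOK chevD4 [(6, 22, 1), (1, 23, -1), (3, 22, -1), (2, 22, -1)] = true := by
  decide +kernel
theorem pairsF4 : Data.F4.fast.pairsOK chevF4 [(7, 44, -1), (8, 40, -1), (2, 46, -1), (1, 47, -1)] = true := by
  decide +kernel
theorem pairsE6 : Data.E6.fast.pairsOK chevE6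
    [(16, 66, 1), (1, 71, -1), (5, 69, -1), (2, 70, -1), (3, 69, -1), (4, 68, -1)] = true := by decide +kernel
theorem pairsE7 : Data.E7.fast.pairsOK chevE7
    [(1, 125, -1), (7, 122, -1), (2, 124, -1), (3, 123, -1), (4, 122, -1), (5, 121, -1), (6, 120, -1)] = true := by
  decide +kernel
theorem pairsE8 : Data.E8.fast.pairsOK chevE8
    [(14, 233, -1), (7, 234, -1), (6, 234, -1), (5, 235, -1), (4, 236, -1), (3, 237, -1), (2, 238, -1),
      (1, 239, -1)] = true := by decide +kernel

theorem small_aux {F : Type*} [Field F] {a : F} (h1 : a ≠ 1) (hsq : a ^ 2 = 1) : a = -1 ∧ (2 : F) ≠ 0 := by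
  have h3 : (a - 1) * (a + 1) = 0 := by linear_combination hsq
  have h4 : a = -1 := by
    have := (mul_eq_zero.1 h3).resolve_left (sub_ne_zero.2 h1)
    linear_combination this
  exact ⟨h4, fun h2 => h1 (by linear_combination h4 - h2)⟩

namespace Core

variable (C : Core D) {F : Type*} [Field F]
include C

theorem chA_coroot (r : Rt D) (u : Fˣ) : C.chA (fun j => u ^ co D r j) r = u ^ (2 : ℕ) := by
  have h : ∏ j, (u ^ co D r j) ^ A D j r = u ^ (2 : ℤ) := by
    rw [← C.pr_self r, pr, C.zpow_fsum]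
    exact Finset.prod_congr rfl fun j _ => (zpow_mul u _ _).symm
  exact h.trans (zpow_natCast u 2)

/-- A simple root with an odd Cartan integer: torus commutators suffice when some a ∉ {0, 1}. -/
theorem mem_of_odd {i j : Fin D.rank} (hodd : Odd (A D j (C.p i))) {a : F} (h0 : a ≠ 0) (h1 : a ≠ 1) (t : F) :
    C.X F (C.p i) t ∈ ⁅D.group F, D.group F⁆ := by
  classical
  set u := Units.mk0 a h0
  by_cases hsq : a ^ 2 = 1
  · obtain ⟨ha, -⟩ := small_aux h1 hsq
    refine C.torus_commutator (c := Pi.mulSingle j u) ?_ t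
    have e : C.chA (Pi.mulSingle j u) (C.p i) = u ^ A D j (C.p i) := by
      rw [chA, Finset.prod_eq_single j (fun b _ hb => by simp [hb]) (by simp)]
      simp
    rw [e, Units.val_zpow_eq_zpow_val, show (u : F) = -1 from ha, hodd.neg_one_zpow]
    rw [← ha]; exact h1
  · refine C.torus_commutator (c := fun k => u ^ co D (C.p i) k) ?_ t
    rw [C.chA_coroot]
    exact hsq

end Core

theorem perfect_G2 {K : Type*} [Field K] {a : K} (h0 : a ≠ 0) (h1 : a ≠ 1) :
    commutator ↥(chevG2.group K) = ⊤ := by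
  refine Cert.G2.core.perfect_of_simple fun i t => ?_
  have key : Odd (A chevG2 ⟨1, by decide⟩ (Cert.G2.core.p ⟨0, by decide⟩)) ∧
      Odd (A chevG2 ⟨0, by decide⟩ (Cert.G2.core.p ⟨1, by decide⟩)) := by
    constructor <;> rw [Cert.G2.certified.A_val, Int.odd_iff] <;> decide +kernel
  have hi : i.val < 2 := i.2
  obtain hi' | hi' : i.val = 0 ∨ i.val = 1 := by omega
  · rw [show i = ⟨0, by decide⟩ from Fin.ext hi']; exact Cert.G2.core.mem_of_odd key.1 h0 h1 t
  · rw [show i = ⟨1, by decide⟩ from Fin.ext hi']; exact Cert.G2.core.mem_of_odd key.2 h0 h1 t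

theorem perfect_B2 {K : Type*} [Field K] {a : K} (h0 : a ≠ 0) (h1 : a ≠ 1) :
    commutator ↥(chevB2.group K) = ⊤ := by
  refine Cert.B2.core.perfect_of_simple fun i t => ?_
  have hi : i.val < 2 := i.2
  obtain hi' | hi' : i.val = 0 ∨ i.val = 1 := by omega
  · rw [show i = ⟨0, by decide⟩ from Fin.ext hi']
    refine Cert.B2.core.mem_of_odd (j := ⟨1, by decide⟩) ?_ h0 h1 t
    rw [Cert.B2.certified.A_val, Int.odd_iff]; decide +kernel
  · rw [show i = ⟨1, by decide⟩ from Fin.ext hi']
    by_cases hsq : a ^ 2 = 1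
    · obtain ⟨-, h2⟩ := small_aux h1 hsq
      refine (Cert.B2.core.commOK_mild mildB2).pair_commutator (M := -2)
        (r := ⟨2, by decide⟩) (s := ⟨6, by decide⟩) (by decide) (by decide) (by decide +kernel) ?_ t
      simpa using h2
    · refine Cert.B2.core.torus_commutator
        (c := fun k => (Units.mk0 a h0) ^ co chevB2 (Cert.B2.core.p ⟨1, by decide⟩) k) ?_ t
      rw [Cert.B2.core.chA_coroot]
      exact hsq

theorem perfect_big (D : ChevalleyDatum) (hD : D ∈ [chevD4, chevF4, chevE6, chevE7, chevE8])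
    {K : Type*} [Field K] : commutator ↥(D.group K) = ⊤ := by
  simp only [List.mem_cons, List.not_mem_nil, or_false] at hD
  rcases hD with rfl | rfl | rfl | rfl | rfl
  exacts [Cert.D4.certified.perfect_pairs (Cert.D4.core.commOK_mild mildD4) pairsD4,
    Cert.F4.certified.perfect_pairs (Cert.F4.core.commOK_mild mildF4) pairsF4,
    Cert.E6.certified.perfect_pairs (Cert.E6.core.commOK_mild mildE6) pairsE6,
    Cert.E7.certified.perfect_pairs (Cert.E7.core.commOK_mild mildE7) pairsE7,
    Cert.E8.certified.perfect_pairs (Cert.E8.core.commOK_mild mildE8) pairsE8]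

theorem simple_big (D : ChevalleyDatum) (hD : D ∈ [chevD4, chevF4, chevE6, chevE7, chevE8])
    {K : Type*} [Field K] : IsSimpleGroup ↥(D.group K) ∧ ¬ IsMulCommutative ↥(D.group K) := by
  have hp := perfect_big D hD (K := K)
  simp only [List.mem_cons, List.not_mem_nil, or_false] at hD
  rcases hD with rfl | rfl | rfl | rfl | rfl
  exacts [Cert.D4.certified.isSimple (Cert.D4.core.commOK_mild mildD4) irredD4 hp,
    Cert.F4.certified.isSimple (Cert.F4.core.commOK_mild mildF4) irredF4 hp,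
    Cert.E6.certified.isSimple (Cert.E6.core.commOK_mild mildE6) irredE6 hp,
    Cert.E7.certified.isSimple (Cert.E7.core.commOK_mild mildE7) irredE7 hp,
    Cert.E8.certified.isSimple (Cert.E8.core.commOK_mild mildE8) irredE8 hp]

theorem simple_G2 {K : Type*} [Field K] (hK : ∃ a : K, a ≠ 0 ∧ a ≠ 1) :
    IsSimpleGroup ↥(chevG2.group K) ∧ ¬ IsMulCommutative ↥(chevG2.group K) :=
  let ⟨_, h0, h1⟩ := hK
  Cert.G2.certified.isSimple commOK_G2 irredG2 (perfect_G2 h0 h1)

theorem simple_B2 {K : Type*} [Field K] (hK : ∃ a : K, a ≠ 0 ∧ a ≠ 1) :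
    IsSimpleGroup ↥(chevB2.group K) ∧ ¬ IsMulCommutative ↥(chevB2.group K) :=
  let ⟨_, h0, h1⟩ := hK
  Cert.B2.certified.isSimple (Cert.B2.core.commOK_mild mildB2) irredB2 (perfect_B2 h0 h1)

end Cfsg.Agent.Lib.ChevStructure
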