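import Cfsg.Agent.Lib.ChevStructure.Torus

/-!
The monomial subgroup N and its action on the roots: length = number of inversions, exchange, the
longest element.
-/

set_option autoImplicit false
set_option linter.unusedSectionVars false

namespace Cfsg.Agent.Lib.ChevStructure

open Cfsg.Lie
open scoped MatrixGroups Matrix

variable {D : ChevalleyDatum}

namespace Core

/-- The fundamental reflection as a permutation of the roots. -/
def sref (C : Core D) (i : Fin D.rank) : Equiv.Perm (Rt D) :=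
  Function.Involutive.toPerm (C.w i) (C.w_w i)

/-- The permutation of a word in fundamental reflections. -/
def pprod (C : Core D) (L : List (Fin D.rank)) : Equiv.Perm (Rt D) := (L.map C.sref).prod

/-- The Weyl group as a group of permutations of the roots. -/
def WG (_C : Core D) : Subgroup (Equiv.Perm (Rt D)) := Subgroup.closure (Set.range _C.sref)

/-- The product of the n_p of a word. -/
def wprod (C : Core D) (R : Type*) [CommRing R] (L : List (Fin D.rank)) : GL D.Idx R :=
  (L.map fun i => C.P R i).prod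

/-- The inversion set of a permutation of the roots. -/
def inv' (C : Core D) (σ : Equiv.Perm (Rt D)) : Set (Rt D) := {r | r ∈ C.Pos ∧ σ r ∈ C.Neg}

/-- The length: the number of inversions. -/
noncomputable def len (C : Core D) (σ : Equiv.Perm (Rt D)) : ℕ := (C.inv' σ).ncard

variable (C : Core D)
include C

theorem sref_apply (i : Fin D.rank) (r : Rt D) : C.sref i r = C.w i r := rfl

theorem sref_mul_self (i : Fin D.rank) : C.sref i * C.sref i = 1 :=
  Equiv.ext fun r => C.w_w i r

theorem pprod_nil : C.pprod [] = 1 := rfl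

theorem pprod_cons (i : Fin D.rank) (L : List (Fin D.rank)) : C.pprod (i :: L) = C.sref i * C.pprod L := by
  simp [pprod]

theorem pprod_append (L M : List (Fin D.rank)) : C.pprod (L ++ M) = C.pprod L * C.pprod M := by
  simp [pprod]

theorem pprod_concat (L : List (Fin D.rank)) (i : Fin D.rank) : C.pprod (L ++ [i]) = C.pprod L * C.sref i := by
  simp [pprod]

theorem pprod_rev : ∀ (L : List (Fin D.rank)) (r : Rt D), C.pprod L r.rev = (C.pprod L r).rev
  | [], _ => rfl
  | i :: L, r => by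
    simp only [pprod_cons, Equiv.Perm.mul_apply, sref_apply, pprod_rev L r, C.w_rev]

theorem pprod_pr : ∀ (L : List (Fin D.rank)) (x y : Rt D), pr D (C.pprod L x) (C.pprod L y) = pr D x y
  | [], _, _ => rfl
  | a :: L, x, y => by simp only [pprod_cons, Equiv.Perm.mul_apply, sref_apply, C.pr_w, pprod_pr L x y]

/-- A product of reflections is linear on coefficient vectors. -/
theorem pprod_v : ∀ (M : List (Fin D.rank)) (x : Rt D) (m : Fin D.rank),
    C.v (C.pprod M x) m = ∑ k, C.v x k * C.v (C.pprod M (C.p k)) m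
  | [], x, m => by simp [pprod, C.v_p, Pi.single_apply]
  | a :: M, x, m => by
    simp only [pprod_cons, Equiv.Perm.mul_apply, sref_apply, C.v_w, Pi.sub_apply, Pi.smul_apply,
      smul_eq_mul]
    have hA : A D a (C.pprod M x) = ∑ k, C.v x k * A D a (C.pprod M (C.p k)) := by
      rw [C.A_lin]
      simp only [pprod_v M x, Finset.sum_mul]
      rw [Finset.sum_comm]
      refine Finset.sum_congr rfl fun k _ => ?_
      rw [C.A_lin a (C.pprod M (C.p k)), Finset.mul_sum]
      exact Finset.sum_congr rfl fun _ _ => by ring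
    rw [pprod_v M x m, hA, Finset.sum_mul, ← Finset.sum_sub_distrib]
    exact Finset.sum_congr rfl fun k _ => by ring

theorem neg_iff_not_pos (r : Rt D) : r ∈ C.Neg ↔ r ∉ C.Pos := Nat.not_le.symm

theorem rev_neg {r : Rt D} (h : r ∈ C.Pos) : r.rev ∈ C.Neg := by
  rw [C.neg_iff_ht, C.ht_rev]; have := C.ht_pos h; omega

theorem rev_pos {r : Rt D} (h : r ∈ C.Neg) : r.rev ∈ C.Pos := by
  rw [C.pos_iff_ht, C.ht_rev]; have := C.ht_neg h; omega

theorem p_pos (i : Fin D.rank) : C.p i ∈ C.Pos := by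
  rw [C.pos_iff_ht, ht, C.v_p, phi]
  simp [Pi.single_apply]

theorem p_inj : Function.Injective C.p := fun i j h => by
  have h' := congrArg C.v h
  rw [C.v_p, C.v_p] at h'
  by_contra hne
  have := congrFun h' i
  simp [hne] at this

theorem v_nonneg {r : Rt D} (h : r ∈ C.Pos) (m : Fin D.rank) : 0 ≤ C.v r m := C.v_sign r h m

theorem v_nonpos {r : Rt D} (h : r ∈ C.Neg) (m : Fin D.rank) : C.v r m ≤ 0 := by
  have := C.v_nonneg (C.rev_pos h) m
  rw [C.v_rev, Pi.neg_apply] at this
  omega

theorem pos_of_coord {r : Rt D} {m : Fin D.rank} (h : 0 < C.v r m) : r ∈ C.Pos := by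
  by_contra hn
  have := C.v_nonpos ((C.neg_iff_not_pos r).2 hn) m
  omega

/-- A positive root other than p_i has a positive coefficient away from i. -/
theorem exists_other_coord {r : Rt D} {i : Fin D.rank} (hr : r ∈ C.Pos) (hne : r ≠ C.p i) :
    ∃ m, m ≠ i ∧ 0 < C.v r m := by
  by_contra h
  push Not at h
  have hz : ∀ m, m ≠ i → C.v r m = 0 := fun m hm => le_antisymm (h m hm) (C.v_nonneg hr m)
  set k := C.v r i with hk
  have hkp : 0 < k := by
    by_contra hle
    have hv : C.v r = 0 := funext fun m => by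
      by_cases hm : m = i
      · subst hm; exact le_antisymm (not_lt.1 hle) (C.v_nonneg hr m)
      · exact hz m hm
    have := C.ht_pos hr
    simp [ht, hv, phi] at this
  have hv : C.v r = k • C.v (C.p i) := funext fun m => by
    rw [C.v_p]
    by_cases hm : m = i
    · subst hm; simp [hk]
    · simp [hz m hm, hm]
  have hA : ∀ j, A D j r = k * A D j (C.p i) := by
    intro j
    rw [C.A_lin j r, Finset.sum_eq_single i (fun m _ hm => by simp [hz m hm]) (by simp)]
  have hw : C.w i r = r.rev := by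
    apply C.v_inj
    rw [C.v_w, C.v_rev, hA, C.A_p, hv, C.v_p]
    module
  have hpr : pr D r (C.p i) * k = 2 := by
    have := C.pr_self r
    simp only [pr, hA] at this ⊢
    rw [Finset.sum_mul]
    rw [← this]
    exact Finset.sum_congr rfl fun j _ => by ring
  have hco := congrFun (C.co_w i r) i
  rw [hw, C.co_rev] at hco
  simp at hco
  have hk2 : k ∣ 2 := Dvd.intro_left _ hpr
  have hk' : k ≤ 2 := Int.le_of_dvd (by norm_num) hk2
  rcases (show k = 1 ∨ k = 2 by omega) with h1 | h2
  · exact hne (C.v_inj (by rw [hv, h1, one_smul]))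
  · rw [h2] at hpr; omega

theorem w_pos {r : Rt D} {i : Fin D.rank} (hr : r ∈ C.Pos) (hne : r ≠ C.p i) : C.w i r ∈ C.Pos := by
  obtain ⟨m, hm, hpos⟩ := C.exists_other_coord hr hne
  refine C.pos_of_coord (m := m) ?_
  rw [C.v_w]
  simp [hm, hpos]

theorem w_ne_p {r : Rt D} {i : Fin D.rank} (hr : r ∈ C.Pos) : C.w i r ≠ C.p i := by
  intro h
  have h' := congrArg (C.w i) h
  rw [C.w_w, C.w_p] at h'
  have h1 := C.ht_neg (C.rev_neg (C.p_pos i))
  rw [← h'] at h1
  have := C.ht_pos hr
  omega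

theorem eq_p_of_w_neg {r : Rt D} {i : Fin D.rank} (hr : r ∈ C.Pos) (h : C.w i r ∈ C.Neg) : r = C.p i := by
  by_contra hne
  exact (C.neg_iff_not_pos _).1 h (C.w_pos hr hne)

variable (R : Type*) [CommRing R]

theorem wprod_cons (i : Fin D.rank) (L : List (Fin D.rank)) :
    C.wprod R (i :: L) = C.P R i * C.wprod R L := by simp [wprod]

theorem wprod_append (L M : List (Fin D.rank)) : C.wprod R (L ++ M) = C.wprod R L * C.wprod R M := by
  simp [wprod]

theorem wprod_X : ∀ (L : List (Fin D.rank)) (r : Rt D), ∃ e : Rˣ, ∀ t : R,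
    C.wprod R L * C.X R r t * (C.wprod R L)⁻¹ = C.X R (C.pprod L r) ((e : R) * t)
  | [], r => ⟨1, fun t => by simp [wprod, pprod]⟩
  | i :: L, r => by
    obtain ⟨e, he⟩ := wprod_X L r
    refine ⟨C.ηU R i (C.pprod L r) * e, fun t => ?_⟩
    have : C.wprod R (i :: L) * C.X R r t * (C.wprod R (i :: L))⁻¹
        = C.P R i * (C.wprod R L * C.X R r t * (C.wprod R L)⁻¹) * (C.P R i)⁻¹ := by
      rw [C.wprod_cons]; group
    rw [this, he, C.P_X_conj]
    simp [pprod_cons, sref_apply, ηU, mul_assoc]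

theorem wprod_nR : ∀ (L : List (Fin D.rank)) (r : Rt D) (u : Rˣ), ∃ u' : Rˣ,
    C.wprod R L * C.nR R r u * (C.wprod R L)⁻¹ = C.nR R (C.pprod L r) u'
  | [], r, u => ⟨u, by simp [wprod, pprod]⟩
  | i :: L, r, u => by
    obtain ⟨u', hu⟩ := wprod_nR L r u
    refine ⟨C.ηU R i (C.pprod L r) * u', ?_⟩
    have : C.wprod R (i :: L) * C.nR R r u * (C.wprod R (i :: L))⁻¹
        = C.P R i * (C.wprod R L * C.nR R r u * (C.wprod R L)⁻¹) * (C.P R i)⁻¹ := by
      rw [C.wprod_cons]; group
    rw [this, hu, C.P_nR_conj]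
    simp [pprod_cons, sref_apply]

theorem nR_p (i : Fin D.rank) (u : Rˣ) : ∃ c, C.nR R (C.p i) u = C.HT R c * C.P R i := by
  refine ⟨fun j => u ^ co D (C.p i) j, ?_⟩
  rw [← C.hD_eq_HT, ← C.hR_eq, P, mul_assoc, ← C.nR_inv, inv_mul_cancel, mul_one]

theorem P_sq (i : Fin D.rank) : ∃ c, C.P R i * C.P R i = C.HT R c :=
  ⟨fun j => (-(1 * 1⁻¹) : Rˣ) ^ co D (C.p i) j, by rw [← C.hD_eq_HT]; exact C.nR_mul R _ _ _⟩

theorem P_HT (i : Fin D.rank) (c : Fin D.rank → Rˣ) :
    ∃ c', C.P R i * C.HT R c = C.HT R c' * C.P R i := by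
  refine ⟨c * Pi.mulSingle i (C.chA c (C.p i))⁻¹, ?_⟩
  rw [HT, C.P_diag, HT]
  congr 1
  refine congrArg (diag R) (funext fun s => ?_)
  simp only [Pi.mul_apply, mul_zpow, Finset.prod_mul_distrib]
  rw [Finset.prod_eq_single (f := fun j => (Pi.mulSingle i (C.chA c (C.p i))⁻¹ : Fin D.rank → Rˣ) j ^ A D j s) i
    (fun j _ hj => by simp [hj]) (by simp), Pi.mulSingle_eq_same, chA, inv_zpow, ← Finset.prod_zpow,
    ← Finset.prod_inv_distrib, ← Finset.prod_mul_distrib]
  refine Finset.prod_congr rfl fun j _ => ?_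
  rw [C.A_w, zpow_sub, ← zpow_mul, mul_comm (A D i s)]

theorem wprod_HT : ∀ (L : List (Fin D.rank)) (c : Fin D.rank → Rˣ),
    ∃ c', C.wprod R L * C.HT R c = C.HT R c' * C.wprod R L
  | [], c => ⟨c, by simp [wprod]⟩
  | i :: L, c => by
    obtain ⟨c₁, h₁⟩ := wprod_HT L c
    obtain ⟨c₂, h₂⟩ := C.P_HT R i c₁
    exact ⟨c₂, by rw [C.wprod_cons, mul_assoc, h₁, ← mul_assoc, h₂, mul_assoc]⟩

/-- Exchange: if the word sends p_i to a negative root, a letter can be deleted. -/
theorem exchange : ∀ (L : List (Fin D.rank)) (i : Fin D.rank), C.pprod L (C.p i) ∈ C.Neg →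
    ∃ L' c, L'.length + 1 = L.length ∧ C.wprod R L * C.P R i = C.HT R c * C.wprod R L' ∧
      C.pprod L * C.sref i = C.pprod L'
  | [], i, h => absurd h (fun h => by
      have h1 := C.ht_neg h; have h2 := C.ht_pos (C.p_pos i)
      simp [pprod] at h1; omega)
  | j :: L, i, h => by
    by_cases hr : C.pprod L (C.p i) ∈ C.Pos
    · rw [C.pprod_cons, Equiv.Perm.mul_apply, C.sref_apply] at h
      have hj : C.pprod L (C.p i) = C.p j := C.eq_p_of_w_neg hr h
      obtain ⟨u, hu⟩ := C.wprod_nR R L (C.p i) 1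
      rw [hj] at hu
      obtain ⟨c, hc⟩ := C.nR_p R j u
      obtain ⟨c₁, hc₁⟩ := C.P_HT R j c
      obtain ⟨c₂, hc₂⟩ := C.P_sq R j
      refine ⟨L, c₁ * c₂, rfl, ?_, ?_⟩
      · rw [hc] at hu
        have e : C.wprod R L * C.P R i = C.HT R c * C.P R j * C.wprod R L := by
          have := eq_mul_inv_iff_mul_eq.1 hu.symm
          exact this.symm
        rw [C.wprod_cons, mul_assoc, e, ← mul_assoc, ← mul_assoc, hc₁, ← C.HT_mul, mul_assoc (C.HT R c₁), hc₂]
      · rw [C.pprod_cons, mul_assoc]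
        have e : C.pprod L * C.sref i = C.sref j * C.pprod L := by
          refine Equiv.ext fun s => ?_
          simp only [Equiv.Perm.mul_apply, sref_apply]
          refine C.v_inj (funext fun m => ?_)
          have hA : A D j (C.pprod L s) = A D i s := by
            rw [← C.pr_p, ← hj, C.pprod_pr, C.pr_p]
          rw [C.pprod_v, C.v_w, C.v_w, hA]
          simp only [Pi.sub_apply, Pi.smul_apply, smul_eq_mul, sub_mul, Finset.sum_sub_distrib,
            ← C.pprod_v L s m]
          congr 1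
          rw [Finset.sum_eq_single i (fun k _ hk => by simp [hk]) (by simp), Pi.single_eq_same, mul_one, hj,
            C.v_p]
        rw [e, ← mul_assoc, C.sref_mul_self, one_mul]
    · obtain ⟨L', c, hl, hw, hp⟩ := exchange L i ((C.neg_iff_not_pos _).2 hr)
      obtain ⟨c', hc'⟩ := C.P_HT R j c
      refine ⟨j :: L', c', by simp [hl], ?_, ?_⟩
      · rw [C.wprod_cons, mul_assoc, hw, ← mul_assoc, hc', mul_assoc, ← C.wprod_cons]
      · rw [C.pprod_cons, mul_assoc, hp, ← C.pprod_cons]

theorem len_one : C.len 1 = 0 := by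
  rw [len, Set.ncard_eq_zero]
  refine Set.eq_empty_of_forall_notMem fun r hr => ?_
  exact (C.neg_iff_not_pos _).1 hr.2 hr.1

theorem len_mul_sref_pos {σ : Equiv.Perm (Rt D)} (hσ : ∀ r, σ r.rev = (σ r).rev) {i : Fin D.rank}
    (h : σ (C.p i) ∈ C.Pos) : C.len (σ * C.sref i) = C.len σ + 1 := by
  have e : C.inv' (σ * C.sref i) = insert (C.p i) (C.w i '' C.inv' σ) := by
    ext r
    simp only [inv', Set.mem_setOf_eq, Equiv.Perm.mul_apply, sref_apply, Set.mem_insert_iff, Set.mem_image]
    constructor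
    · rintro ⟨hp, hn⟩
      by_cases hr : r = C.p i
      · exact Or.inl hr
      · exact Or.inr ⟨C.w i r, ⟨C.w_pos hp hr, hn⟩, C.w_w i r⟩
    · rintro (rfl | ⟨x, ⟨hx, hxn⟩, rfl⟩)
      · refine ⟨C.p_pos i, ?_⟩
        rw [C.w_p, hσ]; exact C.rev_neg h
      · have hxp : x ≠ C.p i := fun he => (C.neg_iff_not_pos _).1 hxn (he ▸ h)
        exact ⟨C.w_pos hx hxp, by rw [C.w_w]; exact hxn⟩
  have hnot : C.p i ∉ C.w i '' C.inv' σ := by
    rintro ⟨x, ⟨hx, -⟩, hxe⟩
    exact C.w_ne_p hx hxe
  rw [len, e, Set.ncard_insert_of_notMem hnot,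
    Set.ncard_image_of_injective _ (Function.Involutive.injective (C.w_w i))]
  rfl

theorem len_pprod_le (L : List (Fin D.rank)) :
    ∃ L' c, L'.length = C.len (C.pprod L) ∧ C.pprod L' = C.pprod L ∧
      C.wprod R L = C.HT R c * C.wprod R L' := by
  induction L using List.reverseRecOn with
  | nil => exact ⟨[], 1, by rw [C.pprod_nil, C.len_one]; rfl, rfl, by rw [C.HT_one, one_mul]⟩
  | append_singleton L i ih =>
    obtain ⟨L₁, c, hl, hp, hw⟩ := ih
    by_cases h : C.pprod L (C.p i) ∈ C.Pos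
    · refine ⟨L₁ ++ [i], c, ?_, ?_, ?_⟩
      · rw [C.pprod_concat, C.len_mul_sref_pos (C.pprod_rev L) h, List.length_append, hl]; rfl
      · rw [C.pprod_concat, C.pprod_concat, hp]
      · rw [C.wprod_append, C.wprod_append, hw, mul_assoc]
    · rw [← hp] at h
      obtain ⟨L₂, c₂, hl₂, hw₂, hp₂⟩ := C.exchange R L₁ i ((C.neg_iff_not_pos _).2 h)
      refine ⟨L₂, c * c₂, ?_, by rw [← hp₂, C.pprod_concat, hp], ?_⟩
      · have hpos : C.pprod L₂ (C.p i) ∈ C.Pos := by
          rw [← hp₂, Equiv.Perm.mul_apply, C.sref_apply, C.w_p, C.pprod_rev]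
          exact C.rev_pos ((C.neg_iff_not_pos _).2 h)
        have e : C.pprod L₁ = C.pprod L₂ * C.sref i := by
          rw [← hp₂, mul_assoc, C.sref_mul_self, mul_one]
        have h2 := C.len_mul_sref_pos (C.pprod_rev L₂) hpos
        rw [← e, hp, ← hl] at h2
        rw [C.pprod_concat, ← hp, hp₂]
        omega
      · rw [C.wprod_append, hw, ← C.HT_mul, mul_assoc, mul_assoc]
        congr 1
        rw [← hw₂]; simp [wprod]

theorem exists_descent {L : List (Fin D.rank)} (h : C.pprod L ≠ 1) :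
    ∃ i, C.pprod L (C.p i) ∈ C.Neg := by
  by_contra hc
  push Not at hc
  apply h
  have hpres : ∀ r ∈ C.Pos, C.pprod L r ∈ C.Pos := by
    intro r hr
    by_contra hn
    have hneg := (C.neg_iff_not_pos _).2 hn
    have hcoord : ∀ m, C.v (C.pprod L r) m = 0 := by
      intro m
      refine le_antisymm (C.v_nonpos hneg m) ?_
      rw [C.pprod_v]
      refine Finset.sum_nonneg fun k _ => mul_nonneg (C.v_nonneg hr k) (C.v_nonneg ?_ m)
      by_contra hk
      exact hc k ((C.neg_iff_not_pos _).2 hk)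
    have := C.ht_neg hneg
    simp [ht, phi, hcoord] at this
  obtain ⟨L', c, hl, hp, -⟩ := C.len_pprod_le ℤ L
  have h0 : C.len (C.pprod L) = 0 := by
    rw [len, Set.ncard_eq_zero]
    exact Set.eq_empty_of_forall_notMem fun r hr => (C.neg_iff_not_pos _).1 hr.2 (hpres r hr.1)
  rw [h0, List.length_eq_zero_iff] at hl
  rw [← hp, hl, C.pprod_nil]

theorem mem_WG_iff {σ : Equiv.Perm (Rt D)} : σ ∈ C.WG ↔ ∃ L, C.pprod L = σ := by
  constructor
  · intro h
    induction h using Subgroup.closure_induction with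
    | mem x hx => obtain ⟨i, rfl⟩ := hx; exact ⟨[i], by simp [pprod]⟩
    | one => exact ⟨[], rfl⟩
    | mul x y _ _ hx hy =>
      obtain ⟨L, rfl⟩ := hx; obtain ⟨M, rfl⟩ := hy
      exact ⟨L ++ M, C.pprod_append L M⟩
    | inv x _ hx =>
      obtain ⟨L, rfl⟩ := hx
      refine ⟨L.reverse, eq_inv_of_mul_eq_one_left ?_⟩
      suffices key : ∀ M : List (Fin D.rank), C.pprod M.reverse * C.pprod M = 1 from key L
      intro M
      induction M with
      | nil => rfl
      | cons i L ih =>
        rw [List.reverse_cons, C.pprod_concat, C.pprod_cons, mul_assoc,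
          ← mul_assoc (C.sref i), C.sref_mul_self, one_mul, ih]
  · rintro ⟨L, rfl⟩
    exact list_prod_mem fun g hg => by
      rw [List.mem_map] at hg
      obtain ⟨i, -, rfl⟩ := hg
      exact Subgroup.subset_closure ⟨i, rfl⟩

/-- There is a word sending every positive root to a negative one. -/
theorem exists_longest : ∃ L, ∀ r ∈ C.Pos, C.pprod L r ∈ C.Neg := by
  have hb : BddAbove (Set.range fun L => C.len (C.pprod L)) := by
    refine ⟨Nat.card (Rt D), ?_⟩
    rintro m ⟨L, rfl⟩
    exact Set.ncard_le_card _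
  obtain ⟨L, hL⟩ := Nat.sSup_mem (Set.range_nonempty fun L => C.len (C.pprod L)) hb
  refine ⟨L, fun r hr => ?_⟩
  have hneg : ∀ i, C.pprod L (C.p i) ∈ C.Neg := by
    intro i
    rw [C.neg_iff_not_pos]
    intro hp
    have h1 : C.len (C.pprod (L ++ [i])) = C.len (C.pprod L) + 1 := by
      rw [C.pprod_concat, C.len_mul_sref_pos (C.pprod_rev L) hp]
    have h2 := le_csSup hb (Set.mem_range_self (f := fun L => C.len (C.pprod L)) (L ++ [i]))
    simp only at hL h2
    omega
  rw [C.neg_iff_not_pos]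
  intro hp
  have hz : C.ht (C.pprod L r) ≤ 0 := by
    unfold ht phi
    refine Finset.sum_nonpos fun m _ => mul_nonpos_of_nonpos_of_nonneg ?_ (by positivity)
    rw [C.pprod_v]
    exact Finset.sum_nonpos fun k _ => mul_nonpos_of_nonneg_of_nonpos (C.v_nonneg hr k) (C.v_nonpos (hneg k) m)
  have := C.ht_pos hp
  omega

end Core

end Cfsg.Agent.Lib.ChevStructure
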